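import Cfsg.Agent.CITGroups.Basic
import Cfsg.Agent.Invol.StrongEmbedded
import Cfsg.Agent.Solvable.Glauberman
import Cfsg.Agent.S0563

/-!
# Strongly embedded subgroups of CIT groups
-/

set_option autoImplicit false
set_option linter.style.haveILetI false
set_option linter.unusedSectionVars false

namespace CfsgLib.CIT

open Subgroup
open scoped Pointwise

universe u

variable {G : Type u} [Group G] [Finite G]

theorem pCore_quot_eq_bot : Cfsg.pCore 2 (G ⧸ Cfsg.pCore 2 G) = ⊥ := by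
  rw [eq_bot_iff]
  intro x hx
  obtain ⟨g, rfl⟩ := QuotientGroup.mk_surjective x
  have hg : g ∈ (Cfsg.pCore 2 (G ⧸ Cfsg.pCore 2 G)).comap (QuotientGroup.mk' _) := hx
  have h := CfsgLib.Solvable.le_pCore 2 (N := (Cfsg.pCore 2 (G ⧸ Cfsg.pCore 2 G)).comap (QuotientGroup.mk' _))
    inferInstance ((CfsgLib.Solvable.isPGroup_pCore 2).comap_of_ker_isPGroup _ (by
      rw [QuotientGroup.ker_mk']; exact CfsgLib.Solvable.isPGroup_pCore 2)) hg
  exact mem_bot.2 ((QuotientGroup.eq_one_iff g).2 h)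

theorem exists_invol_of_isPGroup {P : Subgroup G} (hP : IsPGroup 2 P) (h1 : P ≠ ⊥) :
    ∃ x ∈ P, orderOf x = 2 := by
  haveI : Fact (Nat.Prime 2) := ⟨Nat.prime_two⟩
  obtain ⟨x, hx⟩ := exists_prime_orderOf_dvd_card' (G := P) 2 (by
    obtain ⟨n, hn⟩ := hP.exists_card_eq
    rw [hn]; exact dvd_pow_self 2 fun e => h1 (card_eq_one.1 (by rw [hn, e, pow_zero])))
  exact ⟨x, x.2, by rwa [orderOf_coe]⟩

theorem odd_card_of_no_invol {A : Subgroup G} (h : ∀ t ∈ A, orderOf t ≠ 2) : Odd (Nat.card A) := by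
  haveI : Fact (Nat.Prime 2) := ⟨Nat.prime_two⟩
  by_contra hev
  rw [Nat.not_odd_iff_even, even_iff_two_dvd] at hev
  obtain ⟨t, ht⟩ := exists_prime_orderOf_dvd_card' 2 hev
  exact h t t.2 (by rwa [orderOf_coe])

theorem eq_one_of_mem_inf {P A : Subgroup G} (hP : IsPGroup 2 P) (hA : Odd (Nat.card A)) {x : G} (hx : x ∈ P)
    (hx' : x ∈ A) : x = 1 :=
  eq_one_of_odd_of_mem hP (hA.of_dvd_nat (orderOf_dvd_natCard A hx')) hx

theorem card_dvd_of_two {P Q : Subgroup G} (hP : IsPGroup 2 P) {m : ℕ} (hm : Odd m)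
    (hd : Nat.card P ∣ Nat.card Q * m) : Nat.card P ∣ Nat.card Q := by
  obtain ⟨k, hk⟩ := hP.exists_card_eq
  rw [hk] at hd ⊢
  exact ((Nat.coprime_two_left.2 hm).pow_left k).dvd_of_dvd_mul_right hd

theorem IsCIT.normal_of_complement (h : IsCIT G) [Group.IsSolvable G] {S D : Subgroup G} (hS : IsPGroup 2 S)
    (hSD : IsComplement' S D) (hDo : Odd (Nat.card D)) (hDc : ∀ a ∈ D, ∀ b ∈ D, a * b = b * a) (hD1 : D ≠ ⊥)
    {a b : G} (ha : orderOf a = 2) (hb : orderOf b = 2) (hab : a ≠ b) (hc : Commute a b)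
    (hconj : ∀ s t : G, orderOf s = 2 → orderOf t = 2 → IsConj s t) : S.Normal := by
  haveI : Fact (Nat.Prime 2) := ⟨Nat.prime_two⟩
  set U := Cfsg.pCore 2 G with hUdef
  have hU2 : IsPGroup 2 U := CfsgLib.Solvable.isPGroup_pCore 2
  haveI hUn : U.Normal := CfsgLib.Solvable.pCore_normal 2
  have hcard : Nat.card S * Nat.card D = Nat.card G := hSD.card_mul
  have hUS : U ≤ S := by
    have h2 : IsPGroup 2 (U ⊔ S : Subgroup G) := hU2.to_sup_of_normal_left hS
    have hd : Nat.card (U ⊔ S : Subgroup G) ∣ Nat.card S :=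
      card_dvd_of_two h2 hDo (hcard ▸ card_subgroup_dvd_card _)
    rw [eq_of_le_of_card_ge (le_sup_right : S ≤ U ⊔ S) (Nat.le_of_dvd Nat.card_pos hd)]
    exact le_sup_left
  have hU1 : U ≠ ⊥ := fun e => h.not_klein e ha hb hab hc
  have hinvU : ∀ t : G, orderOf t = 2 → t ∈ U := fun t ht => by
    obtain ⟨x, hx, hx2⟩ := exists_invol_of_isPGroup hU2 hU1
    obtain ⟨g, rfl⟩ := isConj_iff.1 (hconj x t hx2 ht)
    exact hUn.conj_mem x hx g
  suffices hSU : S = U by rw [hSU]; exact hUn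
  set π := QuotientGroup.mk' U
  have hQ : IsCIT (G ⧸ U) := h.quotient U hU2
  set Db := D.map π
  have hDb : Odd (Nat.card Db) := hDo.of_dvd_nat (D.card_map_dvd π)
  have hDinj : ∀ d ∈ D, π d = 1 → d = 1 := fun d hd e =>
    eq_one_of_mem_inf hU2 hDo ((QuotientGroup.eq_one_iff d).1 e) hd
  have hDb1 : Db ≠ ⊥ := fun e => hD1 (eq_bot_iff.2 fun d hd => mem_bot.2 (hDinj d hd
    (mem_bot.1 (e ▸ mem_map_of_mem π hd))))
  haveI : Nontrivial (G ⧸ U) := by
    obtain ⟨x, -, hx⟩ := Db.bot_or_exists_ne_one.resolve_left hDb1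
    exact ⟨x, 1, hx⟩
  haveI : Group.IsSolvable (G ⧸ U) := Group.isSolvable_of_surjective (QuotientGroup.mk'_surjective U)
  obtain ⟨r, A, hr, hAn, hA1, hAr⟩ := CfsgLib.SpecFive.exists_normal_prime_exp (G := G ⧸ U)
  haveI := hAn
  have hr2 : r ≠ 2 := fun e => hA1 (le_bot_iff.1 (pCore_quot_eq_bot (G := G) ▸
    CfsgLib.Solvable.le_pCore 2 hAn (e ▸ hAr)))
  haveI := Fact.mk hr
  have hAo : Odd (Nat.card A) := by
    obtain ⟨k, hk⟩ := hAr.exists_card_eq
    rw [hk]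
    exact (hr.odd_of_ne_two hr2).pow
  have hSb : IsPGroup 2 (S.map π) := hS.map π
  have hodd_le : ∀ B : Subgroup (G ⧸ U), Db ≤ B → Odd (Nat.card B) → B = Db := by
    intro B hB hBo
    refine (eq_of_le_of_card_ge hB ?_).symm
    have hd : Nat.card B ∣ Nat.card (S.map π) * Nat.card Db := by
      refine (card_subgroup_dvd_card B).trans (dvd_of_eq ?_)
      rw [← card_top (G := G ⧸ U), ← map_top_of_surjective π (QuotientGroup.mk'_surjective U)]
      have e1 : Nat.card Db = Nat.card D :=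
        Nat.card_congr (Equiv.ofBijective (fun d : D => (⟨π d, mem_map_of_mem π d.2⟩ : Db))
          ⟨fun x y e => Subtype.ext (inv_mul_eq_one.1 (hDinj _ (D.mul_mem (D.inv_mem x.2) y.2)
            (by rw [map_mul, map_inv, show π x = π y from congrArg Subtype.val e, inv_mul_cancel]))),
           fun ⟨_, d, hd, rfl⟩ => ⟨⟨d, hd⟩, rfl⟩⟩).symm
      have e2 : Nat.card (S.map π) * Nat.card U = Nat.card S := by
        have e3 : (π.comp S.subtype).ker = U.subgroupOf S := by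
          ext s; exact QuotientGroup.eq_one_iff _
        have e4 : (π.comp S.subtype).range = S.map π := by
          rw [MonoidHom.range_comp, range_subtype]
        rw [← e4, ← index_ker, e3, ← Nat.card_congr (subgroupOfEquivOfLe hUS).toEquiv, mul_comm, card_mul_index]
      apply Nat.eq_of_mul_eq_mul_right (Nat.card_pos (α := U))
      rw [map_top_of_surjective π (QuotientGroup.mk'_surjective U), card_top, ← card_eq_card_quotient_mul_card_subgroup,
        ← hcard, ← e2, e1]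
      ring
    obtain ⟨k, hk⟩ := hSb.exists_card_eq
    rw [hk] at hd
    exact Nat.le_of_dvd Nat.card_pos (((Nat.coprime_two_right.2 hBo).pow_right k).dvd_of_dvd_mul_left hd)
  have hAD : A ≤ Db := by
    have hodd : Odd (Nat.card (Db ⊔ A : Subgroup (G ⧸ U))) :=
      (hDb.mul hAo).of_dvd_nat (CfsgLib.Solvable.card_sup_dvd (le_normalizer_of_normal (H := A)))
    exact (hodd_le _ le_sup_left hodd) ▸ le_sup_right
  set C := centralizer (A : Set (G ⧸ U))
  have hDC : Db ≤ C := by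
    rintro _ ⟨d, hd, rfl⟩
    refine mem_centralizer_iff.2 fun y hy => ?_
    obtain ⟨d', hd', rfl⟩ := hAD hy
    rw [← map_mul, ← map_mul, hDc d' hd' d hd]
  have hCo : Odd (Nat.card C) := odd_card_of_no_invol fun t ht ht2 => by
    obtain ⟨x, hx, hx1⟩ := A.bot_or_exists_ne_one.resolve_left hA1
    exact hx1 (hQ.eq_one_of_commute ht2 (mem_centralizer_iff.1 ht x hx).symm
      (hAo.of_dvd_nat (orderOf_dvd_natCard A hx)))
  haveI hDbn : Db.Normal := hodd_le C hDC hCo ▸ inferInstance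
  -- the Frattini argument
  have hcop : (Nat.card D).Coprime (Nat.card U) := by
    obtain ⟨k, hk⟩ := hU2.exists_card_eq
    rw [hk]
    exact (Nat.coprime_two_right.2 hDo).pow_right k
  set N := normalizer (D : Set G)
  have hgen : N ⊔ U = ⊤ := by
    refine eq_top_iff.2 fun k _ => ?_
    have hle : MulAut.conj k • D ≤ D ⊔ U := by
      rintro _ ⟨d, hd, rfl⟩
      have : π (k * d * k⁻¹) ∈ Db := by
        rw [map_mul, map_mul, map_inv]
        exact hDbn.conj_mem _ (mem_map_of_mem π hd) _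
      obtain ⟨d', hd', e⟩ := this
      show k * d * k⁻¹ ∈ D ⊔ U
      rw [← mul_inv_cancel_left d' (k * d * k⁻¹)]
      exact mul_mem (mem_sup_left hd') (mem_sup_right (QuotientGroup.eq.1 e))
    obtain ⟨x, hx, he⟩ := CfsgLib.SZ.conj_rel (le_normalizer_of_normal (H := U)) hcop
      (Or.inr inferInstance) hle (Nat.card_congr (Subgroup.equivSMul (MulAut.conj k) D).toEquiv).symm
    have hm : x⁻¹ * k ∈ N := by
      refine CfsgLib.SZ.conj_smul_eq_iff_mem_normalizer.1 ?_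
      rw [CfsgLib.SZ.conj_smul_mul, ← he, ← CfsgLib.SZ.conj_smul_mul, inv_mul_cancel, map_one, one_smul]
    rw [← mul_inv_cancel_left x k]
    exact mul_mem (mem_sup_right hx) (mem_sup_left hm)
  have hNo : Odd (Nat.card N) := odd_card_of_no_invol fun t ht ht2 => by
    obtain ⟨d, hd, hd1⟩ := D.bot_or_exists_ne_one.resolve_left hD1
    have hm1 : t * d * t⁻¹ * d⁻¹ ∈ U := by
      rw [show t * d * t⁻¹ * d⁻¹ = t * (d * t⁻¹ * d⁻¹) by group]
      exact mul_mem (hinvU t ht2) (hUn.conj_mem _ (inv_mem (hinvU t ht2)) d)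
    have hm2 : t * d * t⁻¹ * d⁻¹ ∈ D :=
      mul_mem ((mem_normalizer_iff.1 ht d).1 hd) (inv_mem hd)
    exact hd1 (h.eq_one_of_commute ht2 (mul_inv_eq_iff_eq_mul.1 (mul_inv_eq_one.1
      (eq_one_of_mem_inf hU2 hDo hm1 hm2))) (hDo.of_dvd_nat (orderOf_dvd_natCard D hd)))
  have hd : Nat.card S ∣ Nat.card U := by
    refine card_dvd_of_two hS hNo ?_
    have h1 := CfsgLib.Solvable.card_sup_dvd (le_normalizer_of_normal (H := U) : N ≤ _)
    rw [hgen, card_top, ← hcard] at h1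
    exact (dvd_mul_right _ _).trans (mul_comm (Nat.card N) (Nat.card U) ▸ h1)
  exact (eq_of_le_of_card_ge hUS (Nat.le_of_dvd Nat.card_pos hd)).symm

/-- The data attached to a strongly embedded subgroup `K` of a CIT group: `K = T D` with `T` a TI Sylow
2-subgroup whose involutions are central and permuted regularly by `D`. -/
structure ZData (K T D : Subgroup G) (u : G) : Prop where
  strong : Cfsg.IsStronglyEmbedded K
  two : IsPGroup 2 T
  sylow : ∀ P : Subgroup G, IsPGroup 2 P → T ≤ P → P = T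
  K_eq : K = normalizer (T : Set G)
  D_eq : D = K ⊓ K.map (MulAut.conj u).toMonoidHom
  decomp : ∀ k ∈ K, ∃ t ∈ T, ∃ d ∈ D, k = t * d
  D_odd : Odd (Nat.card D)
  D_cyclic : IsCyclic D
  three_le : 3 ≤ Nat.card D
  u_ord : orderOf u = 2
  u_not : u ∉ K
  inverts : ∀ d ∈ D, u * d * u⁻¹ = d⁻¹
  central : ∀ s ∈ K, orderOf s = 2 → s ∈ T ∧ ∀ t ∈ T, Commute s t
  regular : ∀ s ∈ K, orderOf s = 2 → ∀ s' ∈ K, orderOf s' = 2 → ∃! d : G, d ∈ D ∧ d * s * d⁻¹ = s'
  cent_D : ∀ d ∈ D, d ≠ 1 → ∀ g : G, Commute g d → g ∈ D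
  bruhat : ∀ g ∉ K, ∃ t ∈ T, ∃ k ∈ K, g = t * u * k
  fix_two : ∀ d ∈ D, d ≠ 1 → ∀ x : G ⧸ K, d • x = x →
    x = QuotientGroup.mk 1 ∨ x = QuotientGroup.mk u
  card_index : K.index = Nat.card T + 1
  pair : ∀ n ∉ K, ∃ v, orderOf v = 2 ∧ v ∉ K ∧ (∀ d ∈ K, n⁻¹ * d * n ∈ K → v * d * v⁻¹ = d⁻¹) ∧
    ∃ d ∈ K, d ≠ 1 ∧ Odd (orderOf d) ∧ n⁻¹ * d * n ∈ K

section

variable {K : Subgroup G} (hK : Cfsg.IsStronglyEmbedded K)

/-- The stabiliser of the base coset and another one. -/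
def pairStab (K : Subgroup G) (y : G ⧸ K) : Subgroup G :=
  MulAction.stabilizer G (QuotientGroup.mk 1 : G ⧸ K) ⊓ MulAction.stabilizer G y

theorem mem_pairStab {y : G ⧸ K} {d : G} : d ∈ pairStab K y ↔ d ∈ K ∧ d • y = y := by
  rw [pairStab, mem_inf, MulAction.mem_stabilizer_iff, MulAction.mem_stabilizer_iff,
    CfsgLib.StrongEmbed.smul_mk_one_iff]

include hK in
theorem pairStab_odd {y : G ⧸ K} (hy : y ≠ QuotientGroup.mk 1) : Odd (Nat.card (pairStab K y)) :=
  odd_card_of_no_invol fun _ ht ht2 => hy (CfsgLib.StrongEmbed.fix_unique hK ht2 (mem_pairStab.1 ht).2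
    (CfsgLib.StrongEmbed.smul_mk_one_iff.2 (mem_pairStab.1 ht).1))

include hK in
theorem pairStab_props {T : Subgroup G} (hTK : T ≤ K) (hT : IsPGroup 2 T) {m : ℕ}
    (hm : Nat.card {t : G // orderOf t = 2 ∧ t ∈ K} = m) (hmodd : Odd m) (hKc : Nat.card K = Nat.card T * m)
    {u : G} (hu : orderOf u = 2) {y : G ⧸ K} (huy : u • (QuotientGroup.mk 1 : G ⧸ K) = y)
    (hy : y ≠ QuotientGroup.mk 1) :
    Nat.card (pairStab K y) = m ∧ ∀ d ∈ pairStab K y, u * d * u⁻¹ = d⁻¹ := by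
  have huu := CfsgLib.Invol.mul_self_eq_one hu
  have huy' : u • y = QuotientGroup.mk 1 := by rw [← huy, smul_smul, huu, one_smul]
  set J := {i : G // orderOf i = 2 ∧ i • (QuotientGroup.mk 1 : G ⧸ K) = y}
  have hJ : Nat.card J = m := hm ▸ CfsgLib.StrongEmbed.card_swap hK hy.symm
  let f : J → pairStab K y := fun i => ⟨i.1 * u, mem_inf.2
    ⟨by
      show (i.1 * u) • (QuotientGroup.mk 1 : G ⧸ K) = QuotientGroup.mk 1
      exact ((mul_smul i.1 u _).trans (congrArg (i.1 • ·) (huy.trans i.2.2.symm))).trans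
        (by rw [smul_smul, CfsgLib.Invol.mul_self_eq_one i.2.1, one_smul]),
     by rw [MulAction.mem_stabilizer_iff, mul_smul, huy', i.2.2]⟩⟩
  have hf : Function.Injective f := fun i j e => Subtype.ext (mul_right_cancel (congrArg Subtype.val e))
  have hle : m ≤ Nat.card (pairStab K y) := hJ ▸ Nat.card_le_card_of_injective f hf
  have hdvd : Nat.card (pairStab K y) ∣ m := by
    have h1 : Nat.card (pairStab K y) ∣ Nat.card T * m :=
      hKc ▸ card_dvd_of_le (fun d hd => (mem_pairStab.1 hd).1)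
    obtain ⟨k, hk⟩ := hT.exists_card_eq
    rw [hk] at h1
    exact ((Nat.coprime_two_right.2 (pairStab_odd hK hy)).pow_right k).dvd_of_dvd_mul_left h1
  have hc : Nat.card (pairStab K y) = m := le_antisymm (Nat.le_of_dvd hmodd.pos hdvd) hle
  refine ⟨hc, fun d hd => ?_⟩
  obtain ⟨i, hi⟩ := ((Nat.bijective_iff_injective_and_card f).2 ⟨hf, hJ.trans hc.symm⟩).2 ⟨d, hd⟩
  have hid : i.1 * u = d := congrArg Subtype.val hi
  rw [← hid, mul_inv_rev, CfsgLib.Invol.inv_eq_self i.2.1, CfsgLib.Invol.inv_eq_self hu,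
    mul_assoc, mul_assoc, huu, mul_one]

include hK in
theorem card_invols {T : Subgroup G} (hTK : T ≤ K) {z : G} (hzK : z ∈ K) (hz : orderOf z = 2)
    (hzT : centralizer ({z} : Set G) = T) :
    Nat.card {t : G // orderOf t = 2 ∧ t ∈ K} * Nat.card T = Nat.card K := by
  have hstab : ∀ k : K, (k : G) * z * (k : G)⁻¹ = z ↔ k ∈ T.subgroupOf K := fun k => by
    rw [mem_subgroupOf, ← hzT, mem_centralizer_self_iff, mul_inv_eq_iff_eq_mul, Commute, SemiconjBy, eq_comm]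
  let f : K ⧸ T.subgroupOf K → {t : G // orderOf t = 2 ∧ t ∈ K} := Quotient.lift
    (fun k : K => ⟨(k : G) * z * (k : G)⁻¹, by rw [CfsgLib.Invol.orderOf_conj_eq, hz],
      K.mul_mem (K.mul_mem k.2 hzK) (K.inv_mem k.2)⟩)
    fun a b hab => Subtype.ext (by
      have h1 := (hstab (a⁻¹ * b)).2 (QuotientGroup.leftRel_apply.1 hab)
      simp only [coe_mul, coe_inv, mul_inv_rev, inv_inv] at h1
      calc (a : G) * z * (a : G)⁻¹ = a * ((a : G)⁻¹ * b * z * ((b : G)⁻¹ * a)) * (a : G)⁻¹ := by rw [h1]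
        _ = b * z * (b : G)⁻¹ := by group)
  have hf : Function.Bijective f := by
    constructor
    · intro p q
      obtain ⟨a, rfl⟩ := QuotientGroup.mk_surjective p
      obtain ⟨b, rfl⟩ := QuotientGroup.mk_surjective q
      intro e
      have e' : (a : G) * z * (a : G)⁻¹ = b * z * (b : G)⁻¹ := congrArg Subtype.val e
      refine QuotientGroup.eq.2 ((hstab _).1 ?_)
      simp only [coe_mul, coe_inv, mul_inv_rev, inv_inv]
      calc (a : G)⁻¹ * b * z * ((b : G)⁻¹ * a) = (a : G)⁻¹ * (b * z * (b : G)⁻¹) * a := by group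
        _ = z := by rw [← e']; group
    · intro t
      obtain ⟨g, hg⟩ := isConj_iff.1 (CfsgLib.StrongEmbed.isConj_of_invols hK hz t.2.1)
      have hgK : g⁻¹ ∈ K := CfsgLib.StrongEmbed.mem_of_conj_mem hK hzK hz (by rw [inv_inv, hg]; exact t.2.2)
      exact ⟨QuotientGroup.mk ⟨g, by simpa using K.inv_mem hgK⟩, Subtype.ext hg⟩
  rw [← Nat.card_congr (Equiv.ofBijective f hf), ← Nat.card_congr (subgroupOfEquivOfLe hTK).toEquiv,
    ← card_eq_card_quotient_mul_card_subgroup]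

end

/-- A CIT group with two commuting involutions and a strongly embedded subgroup carries the data `ZData`. -/
theorem exists_zdata (h : IsCIT G) {K : Subgroup G} (hK : Cfsg.IsStronglyEmbedded K) {a₀ b₀ : G}
    (ha₀ : orderOf a₀ = 2) (hb₀ : orderOf b₀ = 2) (hab₀ : a₀ ≠ b₀) (hc₀ : Commute a₀ b₀) :
    ∃ (T D : Subgroup G) (u : G), ZData K T D u := by
  haveI : Fact (Nat.Prime 2) := ⟨Nat.prime_two⟩
  -- two commuting involutions in `K`
  obtain ⟨a, haK, ha⟩ := CfsgLib.StrongEmbed.exists_invol hK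
  obtain ⟨g₀, hg₀⟩ := isConj_iff.1 (CfsgLib.StrongEmbed.isConj_of_invols hK ha₀ ha)
  set b := g₀ * b₀ * g₀⁻¹ with hbdef
  have hb : orderOf b = 2 := by rw [hbdef, CfsgLib.Invol.orderOf_conj_eq, hb₀]
  have hab : a ≠ b := fun e => hab₀ (by
    rw [hbdef, ← hg₀] at e
    exact mul_left_cancel (mul_right_cancel e))
  have hc : Commute a b := by
    rw [hbdef, ← hg₀]
    exact hc₀.map (MulAut.conj g₀).toMonoidHom
  have hbK : b ∈ K := CfsgLib.StrongEmbed.mem_of_commute hK haK ha hc.symm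
  -- a Sylow subgroup inside `K`
  obtain ⟨S, hS⟩ := (IsPGroup.of_card (n := 1) (G := zpowers a)
    (by rw [Nat.card_zpowers, ha, pow_one])).exists_le_sylow
  have haS : a ∈ (S : Subgroup G) := hS (mem_zpowers a)
  set T := (S : Subgroup G) with hTdef
  haveI : Nontrivial T := ⟨⟨a, haS⟩, 1, fun e => CfsgLib.Invol.ne_one ha (congrArg Subtype.val e)⟩
  haveI := S.2.center_nontrivial
  obtain ⟨z', hz'c, hz'⟩ := exists_invol_of_isPGroup (G := T) (P := center T) (S.2.to_subgroup _)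
    ((center T).nontrivial_iff_ne_bot.1 inferInstance)
  set z : G := z'.1 with hzdef
  have hz : orderOf z = 2 := by rw [hzdef, orderOf_coe, hz']
  have hzT : ∀ t ∈ T, Commute z t := fun t ht =>
    (congrArg Subtype.val (mem_center_iff.1 hz'c ⟨t, ht⟩)).symm
  have hzK : z ∈ K := CfsgLib.StrongEmbed.mem_of_commute hK haK ha (hzT a haS)
  have hCz : centralizer ({z} : Set G) = T := h.centralizer_eq_sylow S hz hzT
  have hTK : T ≤ K := fun t ht => CfsgLib.StrongEmbed.mem_of_commute hK hzK hz (hzT t ht).symm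
  -- the number of involutions of `K`
  set m := Nat.card {t : G // orderOf t = 2 ∧ t ∈ K} with hmdef
  have hmT : m * Nat.card T = Nat.card K := card_invols hK hTK hzK hz hCz
  have hKc : Nat.card K = Nat.card T * m := by rw [← hmT, mul_comm]
  have hmodd : Odd m := by
    have hrel : (T.subgroupOf K).index = m := by
      apply Nat.eq_of_mul_eq_mul_right (Nat.card_pos (α := T))
      rw [hmT, ← Nat.card_congr (subgroupOfEquivOfLe hTK).toEquiv, mul_comm, card_mul_index]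
    rw [← hrel, Nat.odd_iff, ← Nat.two_dvd_ne_zero]
    exact fun h2 => S.not_dvd_index (h2.trans (relIndex_dvd_index_of_le hTK))
  have hm3 : 3 ≤ m := by
    have h2 : 1 < m := Finite.one_lt_card_iff_nontrivial.2
      ⟨⟨a, ha, haK⟩, ⟨b, hb, hbK⟩, fun e => hab (congrArg Subtype.val e)⟩
    obtain ⟨k, hk⟩ := hmodd
    omega
  -- the second point
  set x₀ : G ⧸ K := QuotientGroup.mk 1 with hx₀
  obtain ⟨g, hg⟩ : ∃ g : G, g ∉ K := by
    by_contra hh; push Not at hh; exact hK.1 (eq_top_iff.2 fun x _ => hh x)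
  obtain ⟨u, hu, huy⟩ := CfsgLib.StrongEmbed.exists_swap hK (x := x₀) (y := QuotientGroup.mk g)
    (fun e => hg (by simpa using QuotientGroup.eq.1 e))
  have huK : u ∉ K := fun hm => hg (by
    have := huy.symm.trans (CfsgLib.StrongEmbed.smul_mk_one_iff.2 hm)
    simpa using QuotientGroup.eq.1 this.symm)
  set y₀ : G ⧸ K := QuotientGroup.mk u with hy₀
  have huy₀ : u • x₀ = y₀ := CfsgLib.StrongEmbed.smul_mk_one_eq
  have hy₀x : y₀ ≠ x₀ := fun e => huK (CfsgLib.StrongEmbed.smul_mk_one_iff.1 (huy₀.trans e))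
  have huy₀' : u • y₀ = x₀ := by rw [← huy₀, smul_smul, CfsgLib.Invol.mul_self_eq_one hu, one_smul]
  set D := pairStab K y₀ with hDdef
  obtain ⟨hDcard, hinv⟩ : Nat.card D = m ∧ ∀ d ∈ D, u * d * u⁻¹ = d⁻¹ := pairStab_props hK hTK S.2 hmdef.symm hmodd hKc hu huy₀ hy₀x
  have hDK : D ≤ K := fun d hd => (mem_pairStab.1 hd).1
  have hDeq : D = K ⊓ K.map (MulAut.conj u).toMonoidHom := by
    ext d
    rw [hDdef, mem_pairStab, CfsgLib.StrongEmbed.mem_inf_conj_iff, hy₀, CfsgLib.StrongEmbed.smul_mk_iff]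
  have hDodd : Odd (Nat.card D) := hDcard ▸ hmodd
  have hDc : ∀ a ∈ D, ∀ b ∈ D, a * b = b * a := fun a ha b hb => by
    have h1 := hinv _ (D.mul_mem ha hb)
    rw [show u * (a * b) * u⁻¹ = (u * a * u⁻¹) * (u * b * u⁻¹) by group, hinv a ha, hinv b hb, ← mul_inv_rev,
      inv_inj] at h1
    exact h1.symm
  obtain ⟨d₁, hd₁, hd₁1⟩ := D.bot_or_exists_ne_one.resolve_left fun e => by
    rw [e, card_bot] at hDcard; omega
  have hcop : (Nat.card D).Coprime (Nat.card T) := by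
    obtain ⟨k, hk⟩ := S.2.exists_card_eq
    rw [hk, hDcard]
    exact (Nat.coprime_two_right.2 hmodd).pow_right k
  have hTD : ∀ x, x ∈ T → x ∈ D → x = 1 := fun x hx hx' => eq_one_of_mem_inf S.2 hDodd hx hx'
  have hcompl : IsComplement' (T.subgroupOf K) (D.subgroupOf K) := by
    refine isComplement'_of_coprime ?_ ?_ <;>
      rw [Nat.card_congr (subgroupOfEquivOfLe hTK).toEquiv, Nat.card_congr (subgroupOfEquivOfLe hDK).toEquiv]
    · rw [hDcard, hKc]
    · exact hcop.symm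
  have hdec : ∀ k ∈ K, ∃ t ∈ T, ∃ d ∈ D, k = t * d := fun k hk => by
    obtain ⟨⟨⟨t, ht⟩, ⟨d, hd⟩⟩, he⟩ := hcompl.2 ⟨k, hk⟩
    exact ⟨t, ht, d, hd, (congrArg Subtype.val he).symm⟩
  -- the Sylow subgroup is normal in `K`
  haveI hsolvK : Group.IsSolvable K := by
    refine (Cfsg.Agent.S0563.result (T.subgroupOf K) (D.subgroupOf K) ?_ ?_ ?_ fun k => ?_).1
    · exact (S.2.of_equiv (subgroupOfEquivOfLe hTK).symm).isNilpotent
    · letI : CommGroup (D.subgroupOf K) :=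
        { (inferInstance : Group (D.subgroupOf K)) with
          mul_comm := fun a b => Subtype.ext (Subtype.ext (hDc _ a.2 _ b.2)) }
      exact CommGroup.isNilpotent
    · rw [Nat.card_congr (subgroupOfEquivOfLe hTK).toEquiv, Nat.card_congr (subgroupOfEquivOfLe hDK).toEquiv]
      exact hcop.symm
    · obtain ⟨⟨t, d⟩, he⟩ := hcompl.2 k
      exact ⟨t, t.2, d, d.2, he.symm⟩
  have hTn : ∀ k ∈ K, ∀ t ∈ T, k * t * k⁻¹ ∈ T := by
    have hn : (T.subgroupOf K).Normal := by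
      refine (h.subgroup K).normal_of_complement (S.2.of_equiv (subgroupOfEquivOfLe hTK).symm) hcompl ?_ ?_ ?_
        (a := ⟨a, haK⟩) (b := ⟨b, hbK⟩) (by rw [orderOf_mk]; exact ha) (by rw [orderOf_mk]; exact hb)
        (fun e => hab (congrArg Subtype.val e)) (Subtype.ext hc.eq) ?_
      · rw [Nat.card_congr (subgroupOfEquivOfLe hDK).toEquiv]; exact hDodd
      · exact fun a ha b hb => Subtype.ext (hDc _ ha _ hb)
      · intro e
        have hm : (⟨d₁, hDK hd₁⟩ : K) ∈ D.subgroupOf K := mem_subgroupOf.2 hd₁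
        rw [e, mem_bot] at hm
        exact hd₁1 (congrArg Subtype.val hm)
      · intro s t hs ht
        rw [← orderOf_coe] at hs ht
        obtain ⟨g, hg⟩ := isConj_iff.1 (CfsgLib.StrongEmbed.isConj_of_invols hK hs ht)
        have hgK : g⁻¹ ∈ K := CfsgLib.StrongEmbed.mem_of_conj_mem hK s.2 hs (by rw [inv_inv, hg]; exact t.2)
        exact isConj_iff.2 ⟨⟨g, by simpa using K.inv_mem hgK⟩, Subtype.ext hg⟩
    intro k hk t ht
    exact hn.conj_mem ⟨t, hTK ht⟩ (mem_subgroupOf.2 ht) ⟨k, hk⟩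
  have hKN : K = normalizer (T : Set G) := by
    refine le_antisymm (fun k hk => mem_normalizer_iff.2 fun t => ⟨hTn k hk t, fun ht => ?_⟩) fun g hg => ?_
    · have := hTn _ (K.inv_mem hk) _ ht
      simpa [mul_assoc] using this
    · refine CfsgLib.StrongEmbed.mem_of_conj_mem hK hzK hz (hTK ?_)
      have := (mem_normalizer_iff.1 (inv_mem hg) z).1 (hTdef ▸ z'.2)
      simpa using this
  have hTy₀ : ∀ t ∈ T, t • y₀ = y₀ → t = 1 := fun t ht he => hTD t ht (mem_pairStab.2 ⟨hTK ht, he⟩)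
  have hnoinv : ∀ k ∈ K, ∀ d ∈ D, k * d * k⁻¹ = d⁻¹ → d = 1 := by
    intro k hk d hd he
    obtain ⟨t, ht, d', hd', rfl⟩ := hdec k hk
    have e1 : t * d * t⁻¹ = d⁻¹ := by
      rw [← he, show t * d' * d * (t * d')⁻¹ = t * (d' * d * d'⁻¹) * t⁻¹ by group, hDc d' hd' d hd,
        mul_inv_cancel_right]
    have hm : t * d * t⁻¹ * d⁻¹ ∈ T := by
      rw [show t * d * t⁻¹ * d⁻¹ = t * (d * t⁻¹ * d⁻¹) by group]
      exact T.mul_mem ht (hTn d (hDK hd) _ (T.inv_mem ht))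
    rw [e1] at hm
    have h2 : d⁻¹ * d⁻¹ = 1 := hTD _ hm (D.mul_mem (D.inv_mem hd) (D.inv_mem hd))
    refine eq_one_of_odd_of_pow (k := 1) (hDodd.of_dvd_nat (orderOf_dvd_natCard D hd)) ?_
    rw [pow_one, pow_two, ← inv_inj, mul_inv_rev, inv_one, h2]
  have hfixT : ∀ d ∈ D, ∀ t ∈ T, Commute t d → d ≠ 1 → t = 1 := fun d hd t ht hc hd1 => by
    by_contra ht1
    obtain ⟨k, hk⟩ := S.2 ⟨t, ht⟩
    exact hd1 (h.eq_one_of_commute' ht1 (congrArg Subtype.val hk) hc
      (hDodd.of_dvd_nat (orderOf_dvd_natCard D hd)))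
  -- the pair stabilisers are inverted
  have hpairinv : ∀ (w : G) (y : G ⧸ K), orderOf w = 2 → w • y ≠ y →
      ∀ d ∈ K, d • y = y → d • (w • y) = w • y → y = x₀ → w * d * w⁻¹ = d⁻¹ := by
    intro w y hw hne d hdK _ hd2 hy
    subst hy
    exact (pairStab_props hK hTK S.2 hmdef.symm hmodd hKc hw rfl hne).2 d (mem_pairStab.2 ⟨hdK, hd2⟩)
  have hswapinv : ∀ (w : G) (y : G ⧸ K), orderOf w = 2 → w • y ≠ y →
      ∀ d : G, d • y = y → d • (w • y) = w • y → w * d * w⁻¹ = d⁻¹ := by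
    intro w y hw hne d hd1 hd2
    obtain ⟨g, rfl⟩ := MulAction.exists_smul_eq G x₀ y
    have e := hpairinv (g⁻¹ * w * g) x₀
      (by rw [show g⁻¹ * w * g = g⁻¹ * w * g⁻¹⁻¹ by rw [inv_inv], CfsgLib.Invol.orderOf_conj_eq, hw])
      (fun e => hne (by
        rw [mul_smul, mul_smul, inv_smul_eq_iff] at e
        exact e))
      (g⁻¹ * d * g) (CfsgLib.StrongEmbed.smul_mk_one_iff.1 (show (g⁻¹ * d * g) • x₀ = x₀ by
        rw [mul_smul, mul_smul, inv_smul_eq_iff, hd1]))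
      (by rw [mul_smul, mul_smul, inv_smul_eq_iff, hd1]) (by
        simp only [mul_smul, smul_inv_smul, hd2]) rfl
    calc w * d * w⁻¹ = g * (g⁻¹ * w * g * (g⁻¹ * d * g) * (g⁻¹ * w * g)⁻¹) * g⁻¹ := by group
      _ = g * (g⁻¹ * d * g)⁻¹ * g⁻¹ := by rw [e]
      _ = d⁻¹ := by group
  have hDfix : ∀ d ∈ D, d • x₀ = x₀ ∧ d • y₀ = y₀ := fun d hd =>
    ⟨CfsgLib.StrongEmbed.smul_mk_one_iff.2 (hDK hd), (mem_pairStab.1 hd).2⟩
  have hF : ∀ y : G ⧸ K, (∀ d ∈ D, d • y = y) → y = x₀ ∨ y = y₀ := by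
    intro y hy
    by_contra hne
    push Not at hne
    obtain ⟨v, hv, hvy⟩ := CfsgLib.StrongEmbed.exists_swap hK hne.1.symm
    obtain ⟨w, hw, hwy⟩ := CfsgLib.StrongEmbed.exists_swap hK hne.2
    have hp : u * w * v ∈ K := CfsgLib.StrongEmbed.smul_mk_one_iff.1 (by
      show (u * w * v) • x₀ = x₀
      rw [mul_smul, mul_smul, hvy, hwy, huy₀'])
    refine hd₁1 (hnoinv _ hp d₁ hd₁ ?_)
    have e1 := hswapinv v x₀ hv (by rw [hvy]; exact hne.1) d₁ (hDfix d₁ hd₁).1 (by rw [hvy]; exact hy d₁ hd₁)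
    have e2 := hswapinv w y hw (by rw [hwy]; exact hne.2.symm) d₁⁻¹
      (by rw [inv_smul_eq_iff, hy d₁ hd₁]) (by rw [hwy, inv_smul_eq_iff, (hDfix d₁ hd₁).2])
    calc u * w * v * d₁ * (u * w * v)⁻¹ = u * (w * (v * d₁ * v⁻¹) * w⁻¹) * u⁻¹ := by group
      _ = d₁⁻¹ := by rw [e1, e2, inv_inv]; exact hinv d₁ hd₁
  -- conjugacy of the pair stabilisers
  have hto : ∀ y : G ⧸ K, y ≠ x₀ → ∃ t ∈ T, t • y₀ = y ∧ pairStab K y ≤ MulAut.conj t • D := by
    intro y hy
    obtain ⟨v, hv, hvy⟩ := CfsgLib.StrongEmbed.exists_swap hK hy.symm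
    have hP := (pairStab_props hK hTK S.2 hmdef.symm hmodd hKc hv hvy hy).1
    have hle : pairStab K y ≤ D ⊔ T := fun d hd => by
      obtain ⟨t, ht, d', hd', rfl⟩ := hdec d (mem_pairStab.1 hd).1
      exact mul_mem (mem_sup_right ht) (mem_sup_left hd')
    obtain ⟨t, ht, he⟩ := CfsgLib.SZ.conj_rel (hDK.trans hKN.le) hcop (Or.inr (haveI := S.2.isNilpotent; inferInstance)) hle
      (hP.trans hDcard.symm)
    refine ⟨t, ht, ?_, he.ge⟩
    have hfix : ∀ d ∈ D, d • (t⁻¹ • y) = t⁻¹ • y := fun d hd => by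
      have hm : t * d * t⁻¹ ∈ pairStab K y := he ▸ ⟨d, hd, rfl⟩
      have := (mem_pairStab.1 hm).2
      rw [mul_smul, mul_smul] at this
      exact (smul_eq_iff_eq_inv_smul t).1 this
    rcases hF _ hfix with e | e
    · refine absurd ?_ hy
      rw [inv_smul_eq_iff.1 e]
      exact CfsgLib.StrongEmbed.smul_mk_one_iff.2 (hTK ht)
    · rw [← e, smul_inv_smul]
  have hfix2 : ∀ d ∈ D, d ≠ 1 → ∀ y : G ⧸ K, d • y = y → y = x₀ ∨ y = y₀ := by
    intro d hd hd1 y hy
    by_cases hyx : y = x₀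
    · exact Or.inl hyx
    obtain ⟨t, ht, hty, hP⟩ := hto y hyx
    obtain ⟨d', hd', e⟩ := hP (mem_pairStab.2 ⟨hDK hd, hy⟩)
    replace e : t * d' * t⁻¹ = d := e
    have hm : t * d' * t⁻¹ * d'⁻¹ ∈ T := by
      rw [show t * d' * t⁻¹ * d'⁻¹ = t * (d' * t⁻¹ * d'⁻¹) by group]
      exact T.mul_mem ht (hTn d' (hDK hd') _ (T.inv_mem ht))
    rw [e] at hm
    have hdd : d = d' := mul_inv_eq_one.1 (hTD _ hm (D.mul_mem hd (D.inv_mem hd')))
    rw [← hdd] at e
    rw [hfixT d hd t ht (mul_inv_eq_iff_eq_mul.1 e) hd1, one_smul] at hty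
    exact Or.inr hty.symm
  have hKx₀ : ∀ k ∈ K, k • x₀ = x₀ := fun k hk => CfsgLib.StrongEmbed.smul_mk_one_iff.2 hk
  have hbru : ∀ g ∉ K, ∃ t ∈ T, ∃ k ∈ K, g = t * u * k := by
    intro g hg
    obtain ⟨t, ht, hty, -⟩ := hto (g • x₀) fun e => hg (CfsgLib.StrongEmbed.smul_mk_one_iff.1 e)
    refine ⟨t, ht, (t * u)⁻¹ * g, CfsgLib.StrongEmbed.smul_mk_one_iff.1 ?_, by group⟩
    show ((t * u)⁻¹ * g) • x₀ = x₀
    rw [mul_smul, inv_smul_eq_iff, mul_smul, huy₀, hty]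
  have hcentral : ∀ s ∈ K, orderOf s = 2 → s ∈ T ∧ (∀ t ∈ T, Commute s t) ∧ ∃ d ∈ D, d * z * d⁻¹ = s := by
    intro s hsK hs
    obtain ⟨g, hg⟩ := isConj_iff.1 (CfsgLib.StrongEmbed.isConj_of_invols hK hz hs)
    have hgK : g ∈ K := by
      have := CfsgLib.StrongEmbed.mem_of_conj_mem hK hzK hz (g := g⁻¹) (by rw [inv_inv, hg]; exact hsK)
      simpa using K.inv_mem this
    subst hg
    refine ⟨hTn g hgK z z'.2, fun t ht => ?_, ?_⟩
    · have ht' : g⁻¹ * t * g ∈ T := by simpa using hTn _ (K.inv_mem hgK) t ht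
      have := (hzT _ ht').map (MulAut.conj g).toMonoidHom
      simpa [mul_assoc] using this
    · obtain ⟨t, ht, d, hd, rfl⟩ := hdec g hgK
      refine ⟨d, hd, ?_⟩
      have hcm : Commute (d * z * d⁻¹) t := by
        have ht' : d⁻¹ * t * d ∈ T := by simpa using hTn _ (K.inv_mem (hDK hd)) t ht
        have := (hzT _ ht').map (MulAut.conj d).toMonoidHom
        simpa [mul_assoc] using this
      calc d * z * d⁻¹ = (d * z * d⁻¹) * t * t⁻¹ := by group
        _ = t * d * z * (t * d)⁻¹ := by rw [hcm.eq]; group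
  have hcentD : ∀ d ∈ D, d ≠ 1 → ∀ g : G, Commute g d → g ∈ D := by
    intro d hd hd1 g hc
    have hgx : d • (g • x₀) = g • x₀ := by rw [smul_smul, ← hc.eq, mul_smul, (hDfix d hd).1]
    rcases hfix2 d hd hd1 _ hgx with e | e
    · obtain ⟨t, ht, d', hd', rfl⟩ := hdec g (CfsgLib.StrongEmbed.smul_mk_one_iff.1 e)
      have htd : Commute t d := by
        have := hc.mul_left ((show Commute d' d from hDc d' hd' d hd).inv_left)
        rwa [mul_inv_cancel_right] at this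
      rw [hfixT d hd t ht htd hd1, one_mul]
      exact hd'
    · refine absurd (hnoinv (u * g) (CfsgLib.StrongEmbed.smul_mk_one_iff.1 ?_) d hd ?_) hd1
      · show (u * g) • x₀ = x₀
        rw [mul_smul, e, huy₀']
      · rw [show u * g * d * (u * g)⁻¹ = u * (g * d * g⁻¹) * u⁻¹ by group, hc.eq, mul_inv_cancel_right]
        exact hinv d hd
  refine ⟨T, D, u, ⟨hK, S.2, fun P hP hTP => S.3 hP hTP, hKN, hDeq, hdec, hDodd, ?_, hDcard ▸ hm3, hu, huK,
    hinv, fun s hsK hs => ⟨(hcentral s hsK hs).1, (hcentral s hsK hs).2.1⟩, ?_, hcentD, hbru, hfix2, ?_, ?_⟩⟩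
  · -- cyclic
    let φ : D →* MulAut T := (normalizerMonoidHom T).comp (inclusion (hDK.trans hKN.le))
    refine CfsgLib.Frobenius.IsFpf.isCyclic_of_comm (φ := φ) (fun d hd1 t ht => ?_)
      fun a b => Subtype.ext (hDc _ a.2 _ b.2)
    have e : (d : G) * t * (d : G)⁻¹ = t := congrArg Subtype.val ht
    exact Subtype.ext (hfixT d d.2 t t.2 (mul_inv_eq_iff_eq_mul.1 e).symm fun e' => hd1 (Subtype.ext e'))
  · intro s hsK hs s' hs'K hs'
    obtain ⟨d, hd, rfl⟩ := (hcentral s hsK hs).2.2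
    obtain ⟨d', hd', rfl⟩ := (hcentral s' hs'K hs').2.2
    refine ⟨d' * d⁻¹, ⟨D.mul_mem hd' (D.inv_mem hd), by group⟩, fun e ⟨he, he'⟩ => ?_⟩
    have hcm : Commute z (d'⁻¹ * (e * d)) := by
      refine (mul_inv_eq_iff_eq_mul.1 ?_).symm
      calc d'⁻¹ * (e * d) * z * (d'⁻¹ * (e * d))⁻¹ = d'⁻¹ * (e * (d * z * d⁻¹) * e⁻¹) * d' := by group
        _ = z := by rw [he']; group
    have hmem : d'⁻¹ * (e * d) ∈ D := D.mul_mem (D.inv_mem hd') (D.mul_mem he hd)
    have := inv_mul_eq_one.1 (h.eq_one_of_commute hz hcm (hDodd.of_dvd_nat (orderOf_dvd_natCard D hmem)))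
    rw [this]; group
  · -- index
    let f : Option T → G ⧸ K := fun o => o.elim x₀ fun t => (t : G) • y₀
    have hne : ∀ t : T, (t : G) • y₀ ≠ x₀ := fun t e => hy₀x (by
      rw [← inv_smul_smul (t : G) y₀, e, hKx₀ _ (K.inv_mem (hTK t.2))])
    have hf : Function.Bijective f := by
      constructor
      · rintro (_ | t) (_ | t') e
        · rfl
        · exact absurd e.symm (hne t')
        · exact absurd e (hne t)
        · have e1 : ((t' : G)⁻¹ * t) • y₀ = y₀ := by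
            rw [mul_smul, inv_smul_eq_iff]; exact e
          exact congrArg some (Subtype.ext (inv_mul_eq_one.1 (hTy₀ _ (T.mul_mem (T.inv_mem t'.2) t.2) e1)).symm)
      · intro y
        by_cases hy : y = x₀
        · exact ⟨none, hy.symm⟩
        · obtain ⟨t, ht, hty, -⟩ := hto y hy
          exact ⟨some ⟨t, ht⟩, hty⟩
    rw [index_eq_card, ← Nat.card_congr (Equiv.ofBijective f hf), Finite.card_option]
  · intro n hn
    have hny : (QuotientGroup.mk n : G ⧸ K) ≠ x₀ := fun e => hn (by simpa using QuotientGroup.eq.1 e.symm)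
    obtain ⟨v, hv, hvy⟩ := CfsgLib.StrongEmbed.exists_swap hK hny.symm
    refine ⟨v, hv, fun hvK => hny (hvy.symm.trans (hKx₀ v hvK)), fun d hdK hd => ?_, ?_⟩
    · exact hswapinv v x₀ hv (by rw [hvy]; exact hny) d (hKx₀ d hdK)
        (by rw [hvy]; exact CfsgLib.StrongEmbed.smul_mk_iff.2 hd)
    · obtain ⟨hc', -⟩ := pairStab_props hK hTK S.2 hmdef.symm hmodd hKc hv hvy hny
      obtain ⟨d, hd, hd1⟩ := (pairStab K (QuotientGroup.mk n : G ⧸ K)).bot_or_exists_ne_one.resolve_left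
        fun e => by rw [e, card_bot] at hc'; omega
      exact ⟨d, (mem_pairStab.1 hd).1, hd1,
        (hc' ▸ hmodd).of_dvd_nat (orderOf_dvd_natCard _ hd),
        CfsgLib.StrongEmbed.smul_mk_iff.1 (mem_pairStab.1 hd).2⟩

end CfsgLib.CIT
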