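import Cfsg.Agent.CITGroups.Zass
import Cfsg.Agent.FrobSystem.Classify
import Cfsg.Agent.SzUnique.Main

/-!
A simple CIT group with a strongly embedded subgroup is `PSL₂(2^n)` or a Suzuki group.
-/

set_option autoImplicit false
set_option linter.style.haveILetI false

namespace CfsgLib.CIT

open Subgroup

universe u

variable {G : Type u} [Group G] [Finite G] {K T D : Subgroup G} {u : G}

theorem ZData.psl_or_isoSuzuki (Z : ZData K T D u) [IsSimpleGroup G] :
    (∃ (F : Type) (_ : Field F) (_ : Fintype F), (∃ n : ℕ, 2 ≤ n ∧ Fintype.card F = 2 ^ n) ∧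
        Nonempty (G ≃* Matrix.ProjectiveSpecialLinearGroup (Fin 2) F)) ∨
      Cfsg.Lie.IsoSuzuki G := by
  haveI : Fact (Nat.Prime 2) := ⟨Nat.prime_two⟩
  have hTK : T ≤ K := Z.K_eq ▸ le_normalizer
  have hT : 2 ∣ Nat.card T := by
    refine (Z.two.card_eq_or_dvd).resolve_left fun e => ?_
    obtain ⟨s, hs, hs2⟩ := CfsgLib.StrongEmbed.exists_invol Z.strong
    have := (Z.central s hs hs2).1
    rw [card_eq_one.1 e, mem_bot] at this
    exact CfsgLib.Invol.ne_one hs2 this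
  have hodd : Odd (Nat.card (G ⧸ K)) := by
    rw [← index_eq_card, Z.card_index]
    exact (even_iff_two_dvd.2 hT).add_one
  have hab : (QuotientGroup.mk 1 : G ⧸ K) ≠ QuotientGroup.mk u := fun e =>
    Z.u_not (by simpa using QuotientGroup.eq.1 e)
  have hpair : MulAction.stabilizer G (QuotientGroup.mk 1 : G ⧸ K) ⊓
      MulAction.stabilizer G (QuotientGroup.mk u : G ⧸ K) = D := by
    ext g
    rw [Z.D_eq, mem_inf, MulAction.mem_stabilizer_iff, MulAction.mem_stabilizer_iff,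
      CfsgLib.StrongEmbed.mem_inf_conj_iff, CfsgLib.StrongEmbed.smul_mk_one_iff,
      CfsgLib.StrongEmbed.smul_mk_iff]
  rcases CfsgLib.FrobSystem.sl2_or_two_kernel Z.isZassenhaus hodd hab (by rw [hpair]; exact Z.D_odd) with
    ⟨F, i1, i2, ⟨n, hn2, hn⟩, ⟨e⟩⟩ | ⟨U, hU, hUn, hU2, hUna, hreg⟩
  · haveI : CharP F 2 := by
      refine (CharP.charP_iff_prime_eq_zero Nat.prime_two).2 ?_
      have hc := Nat.cast_card_eq_zero F
      rw [hn, Nat.cast_pow] at hc
      exact (pow_eq_zero_iff (by omega)).1 hc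
    exact Or.inl ⟨F, i1, i2, ⟨n, hn2, hn⟩, ⟨e.trans CfsgLib.SL2Char2.slEquivPSL⟩⟩
  · exact Or.inr (CfsgLib.SzUnique.isoSuzuki_of_zass Z.isZassenhaus _ U hU hUn hU2 hUna hreg)

end CfsgLib.CIT
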