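import Cfsg.Agent.CITGroups.Basic
import Cfsg.Agent.GLElem.PSL2Classes
import Cfsg.Agent.S3370

/-!
The groups `PSL₂(q)` in which the centralisers of involutions are 2-groups.
-/

set_option autoImplicit false
set_option linter.style.haveILetI false

namespace CfsgLib.CIT

open Subgroup
open CfsgLib.Linear.SmallSub (P2)

theorem psl_list {G : Type*} [Group G] [Finite G] (h : IsCIT G) (hns : ¬ Group.IsSolvable G)
    (F : Type) [Field F] [Fintype F]
    (e : Nonempty (G ≃* Matrix.ProjectiveSpecialLinearGroup (Fin 2) F)) :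
    Fintype.card F = 9 ∨ (∃ n : ℕ, Fintype.card F = 2 ^ n) ∨
      ((Fintype.card F).Prime ∧ ∃ k : ℕ, Fintype.card F = 2 ^ k + 1 ∨ Fintype.card F + 1 = 2 ^ k) := by
  obtain ⟨e⟩ := e
  obtain ⟨p, hpc⟩ := CharP.exists F
  obtain ⟨d, hp, hqd⟩ := FiniteField.card F p
  by_cases hp2 : p = 2
  · exact Or.inr (Or.inl ⟨d, hp2 ▸ hqd⟩)
  have hd1 : 1 ≤ (d : ℕ) := d.pos
  have hodd : Odd (Fintype.card F) := hqd ▸ (hp.odd_of_ne_two hp2).pow
  haveI : Fact (Nat.Prime 2) := ⟨Nat.prime_two⟩
  obtain ⟨t, -, ht, -⟩ := h.exists_klein hns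
  set z : P2 F := e t
  have hz : orderOf z = 2 := (MulEquiv.orderOf_eq e t).trans ht
  have hzz : z * z = 1 := CfsgLib.Invol.mul_self_eq_one hz
  have hz1 : z ≠ 1 := CfsgLib.Invol.ne_one hz
  have hC : IsPGroup 2 (centralizer ({z} : Set (P2 F))) :=
    h.of_injective e.symm.toMonoidHom e.symm.injective z hz
  obtain ⟨j, hj⟩ := hC.exists_card_eq
  have hidx := CfsgLib.PSL2Classes.index_involution hodd hzz hz1
  have hP := CfsgLib.PSL2Classes.card_P2_mul hodd
  rw [← Subgroup.card_mul_index (centralizer ({z} : Set (P2 F))), hj, mul_left_comm, hidx,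
    CfsgLib.PSL2Classes.sq_sub_one] at hP
  have hq1 := Fintype.one_lt_card (α := F)
  split_ifs at hP with hq4
  · have hq : Fintype.card F = 2 ^ j + 1 := by
      have : 2 ^ j = Fintype.card F - 1 :=
        Nat.eq_of_mul_eq_mul_right (show 0 < Fintype.card F * (Fintype.card F + 1) by positivity)
          (by rw [hP]; ring)
      omega
    rcases Cfsg.Agent.S3370.fermat_exp hp hp2 hd1 (hqd ▸ hq) with h1 | ⟨h3, h1⟩
    · exact Or.inr (Or.inr ⟨by rw [hqd, h1, pow_one]; exact hp, j, Or.inl hq⟩)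
    · exact Or.inl (by rw [hqd, h3, h1]; norm_num)
  · have hq : Fintype.card F + 1 = 2 ^ j := by
      have : 2 ^ j = Fintype.card F + 1 :=
        Nat.eq_of_mul_eq_mul_right (show 0 < Fintype.card F * (Fintype.card F - 1) from
          Nat.mul_pos (by omega) (by omega)) (by rw [hP]; ring)
      omega
    have hj2 : 2 ≤ j := by
      by_contra hj'
      have : 2 ^ j ≤ 2 :=
        (Nat.pow_le_pow_right (show 0 < 2 by norm_num) (show j ≤ 1 by omega)).trans_eq (by norm_num)
      omega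
    have h1 := Cfsg.Agent.S3370.mersenne_exp hp hp2 hj2 (hqd ▸ hq.symm)
    exact Or.inr (Or.inr ⟨by rw [hqd, h1, pow_one]; exact hp, j, Or.inr hq⟩)

end CfsgLib.CIT
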