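import Cfsg.Agent.CITGroups.PlaneLocal
import Cfsg.Agent.PlaneFour.Recognise
import Cfsg.Agent.S0223

/-!
# The configuration with `q = 4`: the plane on the cosets of `M`, and `PSL(3, 4)`
-/

set_option autoImplicit false
set_option linter.style.haveILetI false
set_option linter.unusedSectionVars false
set_option linter.unusedVariables false

namespace CfsgLib.CIT

open Subgroup

universe u

variable {G : Type u} [Group G] [Finite G] {q : ℕ} {M X V E T D : Subgroup G} {u u' : G}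

/-- The double product `M X M`. -/
def InMXM (M X : Subgroup G) (g : G) : Prop := ∃ m ∈ M, ∃ x ∈ X, ∃ m' ∈ M, g = m * x * m'

theorem InMXM.left {g m : G} (hm : m ∈ M) (hg : InMXM M X g) : InMXM M X (m * g) := by
  obtain ⟨a, ha, x, hx, b, hb, rfl⟩ := hg
  exact ⟨m * a, mul_mem hm ha, x, hx, b, hb, by group⟩

theorem InMXM.right {g m : G} (hm : m ∈ M) (hg : InMXM M X g) : InMXM M X (g * m) := by
  obtain ⟨a, ha, x, hx, b, hb, rfl⟩ := hg
  exact ⟨a, ha, x, hx, b * m, mul_mem hb hm, by group⟩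

theorem inMXM_of_X {x : G} (hx : x ∈ X) : InMXM M X x :=
  ⟨1, M.one_mem, x, hx, 1, M.one_mem, by group⟩

theorem Half.mul_u (H : Half q M V E T D u) (v : G) : v * u = u * cj u v := by
  rw [cj, H.u_inv_eq, show u * (u * v * u) = u * u * v * u by group, H.uu, one_mul]

namespace Second

theorem card_inter (S : Second q M X V E T D u u') : Nat.card (M ⊓ X : Subgroup G) = q ^ 3 * (q - 1) := by
  let f : T × D → (M ⊓ X : Subgroup G) := fun p =>
    ⟨(p.1 : G) * p.2, mul_mem (S.left.T_le p.1.2) (S.left.D_le p.2.2),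
      mul_mem (S.right.T_le p.1.2) (S.right.D_le p.2.2)⟩
  have hf : Function.Bijective f := by
    constructor
    · intro a b e
      have e' : (a.1 : G) * a.2 = b.1 * b.2 := congrArg Subtype.val e
      have h1 : (b.1 : G)⁻¹ * a.1 = b.2 * (a.2 : G)⁻¹ := by
        calc (b.1 : G)⁻¹ * a.1 = (b.1 : G)⁻¹ * ((a.1 : G) * a.2) * (a.2 : G)⁻¹ := by group
          _ = b.2 * (a.2 : G)⁻¹ := by rw [e']; group
      have h2 : (b.1 : G)⁻¹ * a.1 = 1 := eq_one_of_mem_inf S.left.T_two S.left.D_odd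
        (T.mul_mem (T.inv_mem b.1.2) a.1.2) (h1 ▸ D.mul_mem b.2.2 (D.inv_mem a.2.2))
      have h3 : (a.1 : G) = b.1 := (inv_mul_eq_one.1 h2).symm
      rw [h3] at e'
      exact Prod.ext (Subtype.ext h3) (Subtype.ext (mul_left_cancel e'))
    · rintro ⟨g, hgM, hgX⟩
      obtain ⟨t, ht, d, hd, rfl⟩ := S.left.normalizer_T g hgM (S.M_inf_X hgM hgX)
      exact ⟨(⟨t, ht⟩, ⟨d, hd⟩), rfl⟩
  rw [← Nat.card_congr (Equiv.ofBijective f hf), Nat.card_prod, S.left.card_T, S.left.card_D]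

theorem s_not_M (S : Second q M X V E T D u u') : u' ∉ M := fun hh =>
  S.right.u_not (S.M_inf_X hh S.right.u_mem)

theorem u_not_X (S : Second q M X V E T D u u') : u ∉ X := S.symm.s_not_M

/-- The 2-sided reduction of `X M X`. -/
theorem reduce (S : Second q M X V E T D u u') {x m x₁ : G} (hx : x ∈ X) (hm : m ∈ M) (hx₁ : x₁ ∈ X) :
    (∃ m' ∈ M, ∃ x' ∈ X, x * m * x₁ = m' * x') ∨ ∃ m' ∈ M, ∃ x' ∈ X, x * m * x₁ = m' * (u' * u) * x' := by
  have HL := S.left
  have HR := S.right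
  by_cases hxM : x ∈ M
  · exact Or.inl ⟨x * m, mul_mem hxM hm, x₁, hx₁, rfl⟩
  obtain ⟨t, ht, k, hk, rfl⟩ := HR.bruhat x hx fun hN => hxM (S.symm.mem_X hx hN)
  have hkM : k ∈ M := S.symm.mem_X hk.1 hk.2
  have hm₁ : k * m ∈ M := mul_mem hkM hm
  by_cases hmX : k * m ∈ X
  · refine Or.inl ⟨1, M.one_mem, t * u' * (k * m) * x₁, ?_, by group⟩
    exact mul_mem (mul_mem (mul_mem (HR.T_le ht) HR.u_mem) hmX) hx₁
  obtain ⟨t', ht', k', hk', hmk⟩ := HL.bruhat _ hm₁ fun hN => hmX (S.mem_X hm₁ hN)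
  obtain ⟨e, he, v, hv, rfl⟩ := HR.decomp_T t' ht'
  refine Or.inr ⟨t * cj u' e, mul_mem (HL.T_le ht) (HL.E_le_M (HR.V_conj HR.u_mem he)),
    cj u v * k' * x₁, mul_mem (mul_mem (HR.E_le_M (HL.V_conj HL.u_mem hv)) (S.mem_X hk'.1 hk'.2)) hx₁, ?_⟩
  calc t * u' * k * m * x₁ = t * u' * (k * m) * x₁ := by group
    _ = t * u' * (e * v * u * k') * x₁ := by rw [hmk]
    _ = t * cj u' e * u' * (v * u) * (k' * x₁) := by simp only [cj]; group
    _ = t * cj u' e * (u' * u) * (cj u v * k' * x₁) := by rw [HL.mul_u]; group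

theorem coset_fix (S : Second 4 M X V E T D u u') (h : IsCIT G) {d e : G} (hd : d ∈ D) (hd1 : d ≠ 1) (he : e ∈ E)
    (hde : e⁻¹ * cj d e ∈ V ⊓ E) : e ∈ V := by
  have HL := S.left
  let f : ↥(V ⊓ E) → ↥(V ⊓ E) := fun w =>
    ⟨(w : G)⁻¹ * cj d w, (V ⊓ E).mul_mem ((V ⊓ E).inv_mem w.2) (HL.D_conj_Z hd w.2)⟩
  have hf : Function.Injective f := by
    intro a b e
    by_contra hab
    have e' : (a : G)⁻¹ * cj d a = (b : G)⁻¹ * cj d b := congrArg Subtype.val e
    have hne : (b : G) * (a : G)⁻¹ ≠ 1 := fun e1 => hab (Subtype.ext (mul_inv_eq_one.1 e1).symm)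
    refine hd1 (HL.eq_one_of_fix h hd ((V ⊓ E).mul_mem b.2 ((V ⊓ E).inv_mem a.2)).1 hne ?_)
    rw [cj_prod, show cj d (a : G)⁻¹ = (cj d a)⁻¹ by simp only [cj]; group,
      show cj d (a : G) = (a : G) * ((b : G)⁻¹ * cj d b) by rw [← e']; group]
    rw [mul_inv_rev, mul_inv_rev, inv_inv, ← mul_assoc, ← mul_assoc, mul_inv_cancel, one_mul]
  obtain ⟨⟨w, hw⟩, hfw⟩ := (Finite.injective_iff_surjective.1 hf) ⟨_, hde⟩
  have hfw' : w⁻¹ * cj d w = e⁻¹ * cj d e := congrArg Subtype.val hfw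
  have hfix : cj d (e * w⁻¹) = e * w⁻¹ := by
    rw [cj_prod, show cj d w⁻¹ = (cj d w)⁻¹ by simp only [cj]; group,
      show cj d e = e * (w⁻¹ * cj d w) by rw [hfw']; group]
    group
  have h1 : e * w⁻¹ = 1 := by
    by_contra hne
    exact hd1 (S.right.eq_one_of_fix h hd (E.mul_mem he (E.inv_mem hw.2)) hne hfix)
  rw [mul_inv_eq_one.1 h1]
  exact hw.1

/-- A line at distance three from the point `M` all of whose points are in `M X M`. -/
theorem exists_far (S : Second 4 M X V E T D u u') (h : IsCIT G) :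
    ∃ c m₁ x₁ m₂ x₂ : G, c = m₁ * x₁ * m₂ * x₂ ∧ m₁ ∈ M ∧ x₁ ∈ X ∧ m₂ ∈ M ∧ x₂ ∈ X ∧
      (¬ ∃ m ∈ M, ∃ x ∈ X, c = m * x) ∧ ∀ y ∈ X, InMXM M X (c * y) := by
  classical
  have HL := S.left
  have HR := S.right
  obtain ⟨z, hz, hz1⟩ := S.exists_Z
  obtain ⟨δ, hδ, hδ1⟩ := D.bot_or_exists_ne_one.resolve_left fun e => by
    have := HL.card_D
    rw [e, card_bot] at this
    omega
  have hδo : Odd (orderOf δ) := HL.D_odd.of_dvd_nat (orderOf_dvd_natCard D hδ)
  -- a line fixed by `D` and by `u`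
  set C := centralizer ({δ} : Set G) with hCdef
  have hC : ∀ {c}, c ∈ C ↔ Commute δ c := mem_centralizer_self_iff
  have hCodd : Odd (Nat.card C) := odd_card_of_no_invol fun t ht ht2 =>
    hδ1 (h.eq_one_of_commute ht2 (hC.1 ht).symm hδo)
  have hus : u * u' ∈ C := by
    refine hC.2 (cj_fix_iff.1 ?_).symm
    rw [cj_mul, show cj u' δ = δ⁻¹ from HR.u_inv δ hδ, show cj u δ⁻¹ = δ from
      (HL.u_inv δ⁻¹ (D.inv_mem hδ)).trans (inv_inv δ)]
  have huC : ∀ c ∈ C, cj u c ∈ C := by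
    intro c hc
    refine hC.2 ?_
    have := ((hC.1 hc).inv_left).map (MulAut.conj u).toMonoidHom
    rwa [show (MulAut.conj u).toMonoidHom δ⁻¹ = δ from
      (HL.u_inv δ⁻¹ (D.inv_mem hδ)).trans (inv_inv δ)] at this
  set L₀ : G ⧸ X := QuotientGroup.mk 1 with hL₀
  have hmap : ∀ y ∈ MulAction.orbit C L₀, u • y ∈ MulAction.orbit C L₀ := by
    rintro _ ⟨⟨c, hc⟩, rfl⟩
    refine ⟨⟨cj u c * (u * u'), C.mul_mem (huC c hc) hus⟩, ?_⟩
    show ((cj u c * (u * u') * 1 : G) : G ⧸ X) = ((u * (c * 1) : G) : G ⧸ X)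
    refine QuotientGroup.eq.2 ?_
    have e : (cj u c * (u * u') * 1)⁻¹ * (u * (c * 1)) = u'⁻¹ := by simp only [cj]; group
    rw [e]
    exact inv_mem HR.u_mem
  haveI : Fintype ↥(MulAction.orbit C L₀) := Fintype.ofFinite _
  let f : ↥(MulAction.orbit C L₀) → ↥(MulAction.orbit C L₀) := fun y => ⟨u • y.1, hmap y.1 y.2⟩
  have hff : ∀ y, f (f y) = y := fun y => Subtype.ext (by
    show u • u • y.1 = y.1
    rw [smul_smul, HL.uu, one_smul])
  let π : Equiv.Perm ↥(MulAction.orbit C L₀) := ⟨f, f, hff, hff⟩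
  have hodd : ¬ 2 ∣ Fintype.card ↥(MulAction.orbit C L₀) := by
    rw [← Nat.card_eq_fintype_card, ← even_iff_two_dvd, Nat.not_even_iff_odd, Nat.card_coe_set_eq,
      ← MulAction.index_stabilizer]
    exact hCodd.of_dvd_nat (index_dvd_card _)
  haveI : Fact (Nat.Prime 2) := ⟨Nat.prime_two⟩
  obtain ⟨⟨_, ⟨c, hc⟩, rfl⟩, hfix⟩ := Equiv.Perm.exists_fixed_point_of_prime (n := 1) hodd
    (σ := π) (Equiv.ext fun y => by rw [pow_one, _root_.pow_two]; exact hff y)
  have hfix' : u • ((⟨c, hc⟩ : C) • L₀) = (⟨c, hc⟩ : C) • L₀ := congrArg Subtype.val hfix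
  have hucX : c⁻¹ * u * c ∈ X := by
    have e : ((c * 1 : G) : G ⧸ X) = ((u * (c * 1) : G) : G ⧸ X) := hfix'.symm
    have := QuotientGroup.eq.1 e
    simpa [mul_assoc] using this
  have hcδ : Commute δ c := hC.1 hc
  -- it does not pass through `M`
  have hcMX : ¬ ∃ m ∈ M, ∃ x ∈ X, c = m * x := by
    rintro ⟨m, hm, x, hx, rfl⟩
    have hum : m⁻¹ * u * m ∈ X := by
      have := mul_mem (mul_mem hx hucX) (inv_mem hx)
      simpa [mul_assoc] using this
    have hdm : m⁻¹ * δ * m ∈ X := by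
      rw [show m⁻¹ * δ * m = x * ((m * x)⁻¹ * (δ * (m * x))) * x⁻¹ by group, hcδ.eq, inv_mul_cancel_left]
      exact mul_mem (mul_mem hx (HR.D_le hδ)) (inv_mem hx)
    by_cases hmX : m ∈ X
    · exact S.u_not_X (by simpa [mul_assoc] using mul_mem (mul_mem hmX hum) (inv_mem hmX))
    obtain ⟨t, ht, k, hk, rfl⟩ := HL.bruhat m hm fun hN => hmX (S.mem_X hm hN)
    obtain ⟨e, he, v, hv, rfl⟩ := HR.decomp_T t ht
    set b := cj u v * k with hbdef
    have hb : b ∈ X := mul_mem (HR.E_le_M (HL.V_conj HL.u_mem hv)) (S.mem_X hk.1 hk.2)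
    have hmb : e * v * u * k = e * u * b := by
      rw [hbdef, show e * v * u * k = e * (v * u) * k by group, HL.mul_u]; group
    rw [hmb] at hum hdm
    have hum' : (e * u)⁻¹ * u * (e * u) ∈ X := by
      rw [show (e * u)⁻¹ * u * (e * u) = b * ((e * u * b)⁻¹ * u * (e * u * b)) * b⁻¹ by group]
      exact mul_mem (mul_mem hb hum) (inv_mem hb)
    have hy : e⁻¹ * cj δ e ∈ V ⊓ E := by
      have hyE : e⁻¹ * cj δ e ∈ E := E.mul_mem (E.inv_mem he) (HL.D_norm_E δ hδ e he)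
      refine ⟨?_, hyE⟩
      by_contra hyV
      refine HL.f_not hyE hyV (S.M_inf_X (HL.f_mem hyE) ?_)
      have h1 := mul_mem (mul_mem (mul_mem hb hdm) (inv_mem hb)) (HR.D_le hδ)
      have h2 : b * ((e * u * b)⁻¹ * δ * (e * u * b)) * b⁻¹ * δ = cj u (e⁻¹ * cj δ e) := by
        have h3 : u * δ = δ⁻¹ * u := HL.u_d hδ
        calc b * ((e * u * b)⁻¹ * δ * (e * u * b)) * b⁻¹ * δ = u⁻¹ * e⁻¹ * δ * e * (u * δ) := by group
          _ = u⁻¹ * (e⁻¹ * cj δ e) * u := by rw [h3, cj]; group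
          _ = _ := by simp only [cj, HL.u_inv_eq]
      rwa [h2] at h1
    have heV : e ∈ V := S.coset_fix h hδ hδ1 he hy
    have hv' : cj u e ∈ X := HR.E_le_M (HL.V_conj HL.u_mem heV)
    refine S.u_not_X ?_
    have h4 := mul_mem (mul_mem hv' hum') (inv_mem hv')
    rw [HL.mul_u e] at h4
    simpa [mul_assoc] using h4
  -- the flag of `u`
  obtain ⟨a, -, ha⟩ := S.invol_all h (K := ⊤) le_top le_top hz hz1 (mem_top u) HL.u_ord
  have hau : cj a⁻¹ u = z := by rw [← ha, cj_inv_left]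
  obtain ⟨x₁, hx₁, m₁, hm₁, ha1⟩ := (S.fix_iff h hz hz1 (g := a⁻¹)).1 (by
    rw [inv_inv, ha]; exact HL.u_mem)
  have hca : cj (a⁻¹ * c)⁻¹ z ∈ X := by
    rw [mul_inv_rev, inv_inv, cj_mul, ha, cj, inv_inv]
    exact hucX
  obtain ⟨m₀, hm₀, x₀', hx₀', hac⟩ := (S.symm.fix_iff h (S.swapZ hz) hz1).1 hca
  set x₀ := x₀'⁻¹ with hx₀def
  have hx₀ : x₀ ∈ X := inv_mem hx₀'
  have hQ : a * m₀ = c * x₀ := by
    rw [hx₀def, show c = a * (a⁻¹ * c) by group, hac]; group
  have ha' : a = m₁⁻¹ * x₁⁻¹ := by rw [← inv_inj, ha1, mul_inv_rev, inv_inv, inv_inv]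
  refine ⟨c, m₁⁻¹, x₁⁻¹, m₀, x₀', ?_, inv_mem hm₁, inv_mem hx₁, hm₀, hx₀', hcMX, ?_⟩
  · rw [show c = a * (a⁻¹ * c) by group, hac, ha']; group
  -- the points of the line
  have hInA : InMXM M X a := ⟨m₁⁻¹, inv_mem hm₁, x₁⁻¹, inv_mem hx₁, 1, M.one_mem, by rw [mul_one]; exact ha'⟩
  have hiM : ∀ z' ∈ V ⊓ E, cj a z' ∈ M := by
    intro z' hz'
    by_cases h0 : z' = 1
    · rw [h0, show cj a 1 = 1 by simp [cj]]; exact M.one_mem
    have := (S.fix_iff h hz' h0 (g := a⁻¹)).2 ⟨x₁, hx₁, m₁, hm₁, ha1⟩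
    rwa [inv_inv] at this
  have hiX : ∀ z' ∈ V ⊓ E, cj c⁻¹ (cj a z') ∈ X := by
    intro z' hz'
    rw [← cj_mul, show c⁻¹ * a = (a⁻¹ * c)⁻¹ by group, hac]
    by_cases h0 : z' = 1
    · rw [h0, show cj (m₀ * x₀')⁻¹ 1 = 1 by simp [cj]]; exact X.one_mem
    exact (S.symm.fix_iff h (S.swapZ hz') h0).2 ⟨m₀, hm₀, x₀', hx₀', rfl⟩
  -- an element of `aZa⁻¹` fixes only one point of the line
  have hone : ∀ z' ∈ V ⊓ E, z' ≠ 1 → ∀ y ∈ X, cj (c * x₀ * y)⁻¹ (cj a z') ∈ M → y ∈ M := by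
    intro z' hz' h0 y hy hfix
    set t := cj (c * x₀)⁻¹ (cj a z') with ht
    have h2 : orderOf z' = 2 := CfsgLib.Invol.orderOf_eq_two (HL.V_elem z' hz'.1) h0
    have ht2 : t ^ 2 ^ 1 = 1 := by
      rw [pow_one, _root_.pow_two, ht, ← cj_prod, ← cj_prod, HL.V_elem z' hz'.1]; simp [cj]
    have htX : t ∈ X := by
      rw [ht, mul_inv_rev, cj_mul]
      exact mul_mem (mul_mem (inv_mem hx₀) (hiX z' hz')) (inv_mem (inv_mem hx₀))
    have htM : t ∈ M := by
      rw [ht, ← hQ, mul_inv_rev, cj_mul, cj_inv_left]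
      exact HL.V_le_M (HL.V_conj (inv_mem hm₀) hz'.1)
    have htT : t ∈ T := S.T_of_two htM htX ht2
    have htE : t ∉ E := by
      intro htE
      have ht1 : t ≠ 1 := fun e => h0 (cj_eq_one.1 (cj_eq_one.1 e))
      obtain ⟨x', hx', e⟩ := HR.orbit_V h (S.swapZ hz') h0 htE ht1
      have hfx : cj (a⁻¹ * (c * x₀) * x') z' = z' := by
        rw [cj_mul, e, ← cj_mul, mul_assoc, mul_inv_cancel, mul_one, cj_inv_left]
      have hX : a⁻¹ * (c * x₀) * x' ∈ X := HR.T_le (S.cent_Z h hz' h0 (cj_fix_iff.1 hfx))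
      refine hcMX ⟨m₁⁻¹, inv_mem hm₁, x₁⁻¹ * (a⁻¹ * (c * x₀) * x') * x'⁻¹ * x₀⁻¹,
        mul_mem (mul_mem (mul_mem (inv_mem hx₁) hX) (inv_mem hx')) (inv_mem hx₀), ?_⟩
      rw [ha']; group
    have hyt : cj y⁻¹ t ∈ T := by
      refine S.T_of_two (k := 1) ?_ (mul_mem (mul_mem (inv_mem hy) htX) (inv_mem (inv_mem hy))) ?_
      · rw [ht, ← cj_mul, ← mul_inv_rev]; exact hfix
      · rw [pow_one, _root_.pow_two, ← cj_prod, ← _root_.pow_two, ← pow_one 2, ht2]; simp [cj]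
    have hyN := HR.trap t htT htE y⁻¹ (inv_mem hy) hyt
    exact S.symm.mem_X hy (by simpa using inv_mem hyN)
  set Q : G ⧸ M := QuotientGroup.mk a with hQdef
  have hQ' : Q = QuotientGroup.mk (c * x₀) := QuotientGroup.eq.2 (by
    rw [← hQ, inv_mul_cancel_left]; exact hm₀)
  have hδQ : (QuotientGroup.mk (δ * a) : G ⧸ M) ≠ Q := by
    intro e
    have hw : a⁻¹ * δ * a ∈ M := by
      have := M.inv_mem (QuotientGroup.eq.1 e)
      simpa [mul_assoc] using this
    have hwz := HL.V_conj hw hz.1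
    have hprod := HL.V_elem _ (V.mul_mem hz.1 hwz)
    have e2 : z * cj (a⁻¹ * δ * a) z = cj a⁻¹ (δ⁻¹ * δ⁻¹) := by
      rw [cj_mul, cj_mul, ha, ← hau, ← cj_prod]
      congr 1
      rw [show u * cj δ u = (u * δ * u⁻¹) * (u * u) * δ⁻¹ by rw [cj]; group, HL.u_inv δ hδ, HL.uu, mul_one]
    rw [e2, ← cj_prod, cj_eq_one] at hprod
    refine hδ1 (eq_one_of_odd_of_pow (k := 2) hδo ?_)
    calc δ ^ 2 ^ 2 = (δ⁻¹ * δ⁻¹ * (δ⁻¹ * δ⁻¹))⁻¹ := by group
      _ = 1 := by rw [hprod, inv_one]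
  let ψ : X ⧸ M.subgroupOf X → G ⧸ M := fun y => Quotient.liftOn' y (fun y => QuotientGroup.mk (c * (y : G)))
    fun y y' hyy => QuotientGroup.eq.2 (by
      rw [QuotientGroup.leftRel_apply, mem_subgroupOf] at hyy
      simpa [mul_assoc] using hyy)
  have hψ : Function.Injective ψ := by
    intro y y'
    induction y using Quotient.inductionOn' with
    | h y =>
    induction y' using Quotient.inductionOn' with
    | h y' =>
    intro e
    refine QuotientGroup.eq.2 (mem_subgroupOf.2 ?_)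
    simpa [mul_assoc] using QuotientGroup.eq.1 e
  have hline : Nat.card (X ⧸ M.subgroupOf X) = 5 := by
    have h1 := (M.subgroupOf X).card_mul_index
    rw [← inf_subgroupOf_right, Nat.card_congr (subgroupOfEquivOfLe inf_le_right).toEquiv, S.card_inter,
      inf_subgroupOf_right, HR.card_M] at h1
    rw [← index_eq_card]
    norm_num at h1
    omega
  let g : Option ↥(V ⊓ E) → G := fun o => o.elim a fun z' => cj a z' * (δ * a)
  have hgin : ∀ o, InMXM M X (g o) := by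
    rintro (_ | z')
    · exact hInA
    · exact InMXM.left (hiM z' z'.2) (InMXM.left (HL.D_le hδ) hInA)
  have hgl : ∀ o, ∃ y ∈ X, (QuotientGroup.mk (g o) : G ⧸ M) = QuotientGroup.mk (c * y) := by
    rintro (_ | z')
    · exact ⟨x₀, hx₀, hQ'⟩
    refine ⟨cj c⁻¹ (cj a z') * (δ * x₀), mul_mem (hiX z' z'.2) (mul_mem (HR.D_le hδ) hx₀),
      QuotientGroup.eq.2 ?_⟩
    show (cj a z' * (δ * a))⁻¹ * (c * (cj c⁻¹ (cj a z') * (δ * x₀))) ∈ M
    have hcomm : δ * x₀ = c⁻¹ * δ * (c * x₀) := by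
      rw [mul_assoc, ← mul_assoc δ c x₀, hcδ.eq]; group
    rw [hcomm, ← hQ, show (cj a z' * (δ * a))⁻¹ * (c * (cj c⁻¹ (cj a z') * (c⁻¹ * δ * (a * m₀)))) = m₀ by
      simp only [cj]; group]
    exact hm₀
  choose yl hyl hyl' using hgl
  let F : Option ↥(V ⊓ E) → X ⧸ M.subgroupOf X := fun o => QuotientGroup.mk ⟨yl o, hyl o⟩
  have hFψ : ∀ o, ψ (F o) = QuotientGroup.mk (g o) := fun o => (hyl' o).symm
  have hF : Function.Injective F := by
    intro o o' e
    have e' : (QuotientGroup.mk (g o) : G ⧸ M) = QuotientGroup.mk (g o') := by rw [← hFψ, e, hFψ]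
    have hnone : ∀ z' : ↥(V ⊓ E), (QuotientGroup.mk (g none) : G ⧸ M) ≠ QuotientGroup.mk (g (some z')) := by
      intro z' e
      refine hδQ ?_
      have h1 : a⁻¹ * (cj a z' * (δ * a)) ∈ M := QuotientGroup.eq.1 e
      refine (QuotientGroup.eq.2 ?_).symm
      rw [show a⁻¹ * (δ * a) = (z' : G)⁻¹ * (a⁻¹ * (cj a z' * (δ * a))) by simp only [cj]; group]
      exact mul_mem (inv_mem (HL.V_le_M z'.2.1)) h1
    rcases o with _ | z₁ <;> rcases o' with _ | z₂
    · rfl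
    · exact absurd e' (hnone z₂)
    · exact absurd e'.symm (hnone z₁)
    by_contra hne
    have hne' : (z₂ : G)⁻¹ * z₁ ≠ 1 := fun e1 => hne (by rw [Subtype.ext (inv_mul_eq_one.1 e1)])
    have hmem : cj (δ * a)⁻¹ (cj a ((z₂ : G)⁻¹ * z₁)) ∈ M := by
      have h1 : (cj a z₂ * (δ * a))⁻¹ * (cj a z₁ * (δ * a)) ∈ M := QuotientGroup.eq.1 e'.symm
      convert h1 using 1
      simp only [cj]; group
    set y := x₀⁻¹ * δ * x₀ with hydef
    have hy : y ∈ X := mul_mem (mul_mem (inv_mem hx₀) (HR.D_le hδ)) hx₀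
    have hcy : c * x₀ * y = δ * a * m₀ := by
      rw [hydef, show c * x₀ * (x₀⁻¹ * δ * x₀) = c * δ * x₀ by group, ← hcδ.eq, mul_assoc, ← hQ, mul_assoc]
    have hyM : y ∈ M := hone _ ((V ⊓ E).mul_mem ((V ⊓ E).inv_mem z₂.2) z₁.2) hne' y hy (by
      rw [hcy, mul_inv_rev, cj_mul]
      exact mul_mem (mul_mem (inv_mem hm₀) hmem) (inv_mem (inv_mem hm₀)))
    refine hδQ ?_
    rw [hQ']
    refine QuotientGroup.eq.2 ?_
    have h3 : (δ * a)⁻¹ * (c * x₀) = m₀ * y⁻¹ := by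
      rw [show c * x₀ = c * x₀ * y * y⁻¹ by group, hcy]; group
    rw [h3]
    exact mul_mem hm₀ (inv_mem hyM)
  have hFs : Function.Surjective F := by
    refine ((Nat.bijective_iff_injective_and_card F).2 ⟨hF, ?_⟩).2
    rw [hline, Finite.card_option, HL.card_inf]
  intro y hy
  obtain ⟨o, ho⟩ := hFs (QuotientGroup.mk ⟨y, hy⟩)
  have e : (QuotientGroup.mk (g o) : G ⧸ M) = QuotientGroup.mk (c * y) := by rw [← hFψ, ho]; rfl
  have := InMXM.right (QuotientGroup.eq.1 e) (hgin o)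
  rwa [mul_inv_cancel_left] at this

/-- `X M X ⊆ M X M`. -/
theorem far_mem (S : Second 4 M X V E T D u u') (h : IsCIT G) {y : G} (hy : y ∈ X) :
    InMXM M X (u' * u * y) := by
  obtain ⟨c, m₁, x₁, m₂, x₂, hc, hm₁, hx₁, hm₂, hx₂, hcMX, hline⟩ := S.exists_far h
  rcases S.reduce hx₁ hm₂ hx₂ with ⟨m', hm', x', hx', e⟩ | ⟨m', hm', x', hx', e⟩
  · exact absurd ⟨m₁ * m', mul_mem hm₁ hm', x', hx', by rw [hc, mul_assoc m₁ m', ← e]; group⟩ hcMX
  have hc' : c = m₁ * (m' * (u' * u) * x') := by rw [hc, ← e]; group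
  have := InMXM.left (inv_mem (mul_mem hm₁ hm')) (hline (x'⁻¹ * y) (mul_mem (inv_mem hx') hy))
  rwa [show (m₁ * m')⁻¹ * (c * (x'⁻¹ * y)) = u' * u * y by rw [hc']; group] at this

/-- `G = M X M`. -/
theorem all_mem (S : Second 4 M X V E T D u u') (h : IsCIT G)
    (hnse : ¬ ∃ K : Subgroup G, Cfsg.IsStronglyEmbedded K) (g : G) : InMXM M X g := by
  classical
  have hXc : ∀ x ∈ X, ∀ g, InMXM M X g → InMXM M X (x * g) := by
    rintro x hx _ ⟨m, hm, x₁, hx₁, m₁, hm₁, rfl⟩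
    rw [show x * (m * x₁ * m₁) = x * m * x₁ * m₁ by group]
    rcases S.reduce hx hm hx₁ with ⟨m', hm', x', hx', e⟩ | ⟨m', hm', x', hx', e⟩
    · exact ⟨m', hm', x', hx', m₁, hm₁, by rw [e]⟩
    · rw [e, show m' * (u' * u) * x' = m' * (u' * u * x') by group]
      exact InMXM.right hm₁ (InMXM.left hm' (S.far_mem h hx'))
  let W := {g : G // InMXM M X g}
  let K : Subgroup G :=
    { carrier := {k | ∀ g, InMXM M X g → InMXM M X (k * g)}
      one_mem' := fun g hg => by rwa [one_mul]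
      mul_mem' := fun {a b} ha hb g hg => by rw [mul_assoc]; exact ha _ (hb g hg)
      inv_mem' := fun {a} ha g hg => by
        let f : W → W := fun w => ⟨a * w.1, ha _ w.2⟩
        have hf : Function.Injective f := fun x y e => Subtype.ext (mul_left_cancel (congrArg Subtype.val e))
        obtain ⟨w, hw⟩ := Finite.injective_iff_surjective.1 hf ⟨g, hg⟩
        rw [show g = a * w.1 from (congrArg Subtype.val hw).symm, inv_mul_cancel_left]
        exact w.2 }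
  have hMK : M ≤ K := fun m hm g hg => InMXM.left hm hg
  have hXK : X ≤ K := fun x hx g hg => hXc x hx g hg
  suffices hK : K = ⊤ by
    have := (hK ▸ mem_top g : g ∈ K) 1 (inMXM_of_X X.one_mem)
    rwa [mul_one] at this
  by_contra hK
  refine hnse ⟨K, ?_⟩
  obtain ⟨z, hz, hz1⟩ := S.exists_Z
  have hev : Even (Nat.card K) := by
    refine even_iff_two_dvd.2 ((dvd_of_eq S.left.u_ord.symm).trans ?_)
    exact orderOf_dvd_natCard K (hMK S.left.u_mem)
  refine (Cfsg.Agent.S0223.result K hK hev).2 ⟨?_, ?_⟩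
  · intro t ht ht2 c hc
    obtain ⟨k, hk, rfl⟩ := S.invol_all h hMK hXK hz hz1 ht ht2
    have h1 : k⁻¹ * c * k ∈ T := S.cent_Z h hz hz1 (cj_fix_iff.1 (by
      rw [cj_mul, cj_mul, cj_fix_iff.2 (mem_centralizer_self_iff.1 hc).symm, cj_inv_left]))
    have h2 := mul_mem (mul_mem hk (hMK (S.left.T_le h1))) (inv_mem hk)
    simpa [mul_assoc] using h2
  · intro t ht s hs ht2 hs2 _
    obtain ⟨k, hk, rfl⟩ := S.invol_all h hMK hXK hz hz1 ht ht2
    obtain ⟨k', hk', rfl⟩ := S.invol_all h hMK hXK hz hz1 hs hs2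
    exact ⟨k' * k⁻¹, mul_mem hk' (inv_mem hk), by simp only [cj]; group⟩

/-- The stabiliser in `M` of the point `u' M` is `E D`. -/
theorem stab_decomp (S : Second 4 M X V E T D u u') (h : IsCIT G) {g : G} (hg : g ∈ M) (hgs : cj u' g ∈ M) :
    ∃ e ∈ E, ∃ d ∈ D, g = e * d := by
  have HL := S.left
  have HR := S.right
  set W := M ⊓ M.comap (MulAut.conj u').toMonoidHom with hWdef
  have hW : ∀ {x}, x ∈ W ↔ x ∈ M ∧ cj u' x ∈ M := Iff.rfl
  have hEW : ∀ e ∈ E, e ∈ W := fun e he => hW.2 ⟨HL.E_le_M he, HL.E_le_M (HR.V_conj HR.u_mem he)⟩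
  have hDW : ∀ d ∈ D, d ∈ W := fun d hd => hW.2 ⟨HL.D_le hd, by
    rw [show cj u' d = d⁻¹ from HR.u_inv d hd]; exact inv_mem (HL.D_le hd)⟩
  have hgW : g ∈ W := hW.2 ⟨hg, hgs⟩
  have hs_not : ∀ v ∈ V, cj u' v ∈ T → v ∈ E := fun v hv hh => by
    by_contra hvE
    exact HR.u_not (HR.trap v (HL.V_le hv) hvE u' HR.u_mem hh)
  have hgX : g ∈ X := by
    by_contra hgX
    obtain ⟨t, ht, k, hk, hge⟩ := HL.bruhat g hg fun hN => hgX (S.mem_X hg hN)
    have hkX := S.mem_X hk.1 hk.2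
    have hVW : ∀ v ∈ V, v ∈ W := by
      intro v hv
      obtain ⟨z₁, hz₁, w, hw, e⟩ := HL.V_decomp h (HL.V_conj (inv_mem (HL.T_le ht)) hv)
      have hve : v = z₁ * cj g (cj k⁻¹ w) := by
        rw [hge, cj_mul, cj_mul, ← cj_mul k, mul_inv_cancel, cj_one]
        rw [show z₁ * cj t (cj u w) = cj t z₁ * cj t (cj u w) by rw [cj_fix_iff.2 (HL.Z_central hz₁ ht)],
          ← cj_prod, ← e, ← cj_mul, mul_inv_cancel, cj_one]
      have hw' : cj k⁻¹ w ∈ E := HR.V_conj (inv_mem hkX) hw.2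
      rw [hve]
      exact W.mul_mem (hEW _ hz₁.2) (W.mul_mem (W.mul_mem hgW (hEW _ hw')) (W.inv_mem hgW))
    refine HR.u_not (mem_normalizer_of_conj_le fun t ht => ?_)
    obtain ⟨j, hj⟩ := HL.T_two ⟨t, ht⟩
    obtain ⟨v, hv, e, he, rfl⟩ := HL.decomp_T t ht
    refine S.T_of_two (k := j) (hW.1 (W.mul_mem (hVW v hv) (hEW e he))).2
      (mul_mem (mul_mem HR.u_mem (HR.T_le ht)) (inv_mem HR.u_mem)) ?_
    have hj' : (v * e) ^ 2 ^ j = 1 := congrArg Subtype.val hj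
    rw [conj_pow, hj', mul_one, mul_inv_cancel]
  obtain ⟨t, ht, d, hd, rfl⟩ := HL.normalizer_T g hg (S.M_inf_X hg hgX)
  obtain ⟨v, hv, e, he, rfl⟩ := HL.decomp_T t ht
  have hvW : v ∈ W := by
    have := W.mul_mem (W.mul_mem hgW (W.inv_mem (hDW d hd))) (W.inv_mem (hEW e he))
    simpa [mul_assoc] using this
  have hvT : cj u' v ∈ T := S.T_of_two (k := 1) (hW.1 hvW).2
    (mul_mem (mul_mem HR.u_mem (HR.E_le_M hv)) (inv_mem HR.u_mem))
    (by rw [pow_one, _root_.pow_two, ← cj_prod, HL.V_elem v hv]; simp [cj])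
  exact ⟨v * e, E.mul_mem (hs_not v hv hvT) he, d, hd, rfl⟩

/-- The map from the points of the line `h X` to the cosets of `M`. -/
def lineMap (M X : Subgroup G) (h : G) : X ⧸ M.subgroupOf X → G ⧸ M :=
  fun y => Quotient.liftOn' y (fun y => QuotientGroup.mk (h * (y : G)))
    fun y y' hyy => QuotientGroup.eq.2 (by
      rw [QuotientGroup.leftRel_apply, mem_subgroupOf] at hyy
      simpa [mul_assoc] using hyy)

theorem lineMap_injective (M X : Subgroup G) (h : G) : Function.Injective (lineMap M X h) := by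
  intro y y'
  induction y using Quotient.inductionOn' with
  | h y =>
  induction y' using Quotient.inductionOn' with
  | h y' =>
  intro e
  refine QuotientGroup.eq.2 (mem_subgroupOf.2 ?_)
  simpa [mul_assoc] using QuotientGroup.eq.1 e

theorem index_X (S : Second 4 M X V E T D u u') : Nat.card (X ⧸ M.subgroupOf X) = 5 := by
  have h1 := (M.subgroupOf X).card_mul_index
  rw [← inf_subgroupOf_right, Nat.card_congr (subgroupOfEquivOfLe inf_le_right).toEquiv, S.card_inter,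
    inf_subgroupOf_right, S.right.card_M] at h1
  rw [← index_eq_card]
  norm_num at h1
  omega

/-- There are 21 points. -/
theorem index_M (S : Second 4 M X V E T D u u') (h : IsCIT G)
    (hnse : ¬ ∃ K : Subgroup G, Cfsg.IsStronglyEmbedded K) : M.index = 21 := by
  classical
  have HL := S.left
  have HR := S.right
  set p : G ⧸ M := QuotientGroup.mk u' with hpdef
  have hstab : ∀ m : M, m • p = p ↔ cj u' (m : G) ∈ M := by
    intro m
    show ((↑m * u' : G) : G ⧸ M) = (u' : G ⧸ M) ↔ _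
    rw [QuotientGroup.eq]
    have e : ((m : G) * u')⁻¹ * u' = (cj u' (m : G))⁻¹ := by
      rw [mul_inv_rev, cj, mul_inv_rev, mul_inv_rev, inv_inv, HR.u_inv_eq]; group
    rw [e, inv_mem_iff]
  have hcs : Nat.card (MulAction.stabilizer M p) = 48 := by
    let f : E × D → MulAction.stabilizer M p := fun x =>
      ⟨⟨(x.1 : G) * x.2, mul_mem (HL.E_le_M x.1.2) (HL.D_le x.2.2)⟩, (hstab _).2 (by
        show cj u' ((x.1 : G) * x.2) ∈ M
        rw [cj_prod]
        refine mul_mem (HL.E_le_M (HR.V_conj HR.u_mem x.1.2)) ?_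
        rw [show cj u' (x.2 : G) = (x.2 : G)⁻¹ from HR.u_inv _ x.2.2]
        exact inv_mem (HL.D_le x.2.2))⟩
    have hf : Function.Bijective f := by
      constructor
      · intro a b e
        have e' : (a.1 : G) * a.2 = b.1 * b.2 := congrArg (fun x : MulAction.stabilizer M p => ((x : M) : G)) e
        have h1 : (b.1 : G)⁻¹ * a.1 = b.2 * (a.2 : G)⁻¹ := by
          calc (b.1 : G)⁻¹ * a.1 = (b.1 : G)⁻¹ * ((a.1 : G) * a.2) * (a.2 : G)⁻¹ := by group
            _ = b.2 * (a.2 : G)⁻¹ := by rw [e']; group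
        have h2 : (b.1 : G)⁻¹ * a.1 = 1 := eq_one_of_mem_inf HL.T_two HL.D_odd
          (HL.E_le (E.mul_mem (E.inv_mem b.1.2) a.1.2)) (h1 ▸ D.mul_mem b.2.2 (D.inv_mem a.2.2))
        have h3 : (a.1 : G) = b.1 := (inv_mul_eq_one.1 h2).symm
        rw [h3] at e'
        exact Prod.ext (Subtype.ext h3) (Subtype.ext (mul_left_cancel e'))
      · rintro ⟨m, hm⟩
        obtain ⟨e, he, d, hd, hmd⟩ := S.stab_decomp h m.2 ((hstab m).1 hm)
        exact ⟨(⟨e, he⟩, ⟨d, hd⟩), Subtype.ext (Subtype.ext hmd.symm)⟩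
    rw [← Nat.card_congr (Equiv.ofBijective f hf), Nat.card_prod, HL.card_E, HL.card_D]
    rfl
  have horb : (MulAction.orbit M p).ncard = 20 := by
    have h1 := (MulAction.stabilizer M p).card_mul_index
    rw [hcs, HL.card_M, MulAction.index_stabilizer] at h1
    norm_num at h1
    omega
  have huniv : (Set.univ : Set (G ⧸ M)) = insert (QuotientGroup.mk 1) (MulAction.orbit M p) := by
    refine (Set.eq_univ_of_forall fun y => ?_).symm
    obtain ⟨g, rfl⟩ := QuotientGroup.mk_surjective y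
    obtain ⟨m, hm, x, hx, m', hm', rfl⟩ := S.all_mem h hnse g
    by_cases hxM : x ∈ M
    · exact Or.inl (QuotientGroup.eq.2 (by
        rw [mul_one]; exact inv_mem (mul_mem (mul_mem hm hxM) hm')))
    · obtain ⟨t, ht, k, hk, rfl⟩ := HR.bruhat x hx fun hN => hxM (S.symm.mem_X hx hN)
      refine Or.inr ⟨⟨m * t, mul_mem hm (HL.T_le ht)⟩, QuotientGroup.eq.2 ?_⟩
      show (m * t * u')⁻¹ * (m * (t * u' * k) * m') ∈ M
      rw [show (m * t * u')⁻¹ * (m * (t * u' * k) * m') = k * m' by group]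
      exact mul_mem (S.symm.mem_X hk.1 hk.2) hm'
  have hnot : (QuotientGroup.mk 1 : G ⧸ M) ∉ MulAction.orbit M p := by
    rintro ⟨m, hm⟩
    have e : (m : G) * u' ∈ M := by
      have := QuotientGroup.eq.1 (show ((↑m * u' : G) : G ⧸ M) = ((1 : G) : G ⧸ M) from hm)
      rwa [mul_one, inv_mem_iff] at this
    exact S.s_not_M (by simpa using mul_mem (inv_mem m.2) e)
  rw [index_eq_card, ← Set.ncard_univ, huniv, Set.ncard_insert_of_notMem hnot, horb]

/-- Two points lie on exactly one line. -/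
theorem unique_line (S : Second 4 M X V E T D u u') (h : IsCIT G) {μ x m₂ : G} (hμ : μ ∈ M) (hx : x ∈ X)
    (hm₂ : m₂ ∈ M) (he : u' = μ * x * m₂) : μ ∈ X := by
  have HR := S.right
  have hxM : x ∉ M := fun hh => S.s_not_M (he ▸ mul_mem (mul_mem hμ hh) hm₂)
  obtain ⟨t, ht, k, hk, rfl⟩ := HR.bruhat x hx fun hN => hxM (S.symm.mem_X hx hN)
  have hμt : μ * t ∈ M := mul_mem hμ (S.left.T_le ht)
  have hkm : k * m₂ ∈ M := mul_mem (S.symm.mem_X hk.1 hk.2) hm₂
  have e1 : μ * t = cj u' (k * m₂)⁻¹ := by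
    rw [cj]; nth_rw 1 [he]; group
  obtain ⟨e, hee, d, hd, hmd⟩ := S.stab_decomp h hμt (by rw [e1, HR.cj_uu]; exact inv_mem hkm)
  have h1 : μ * t ∈ X := hmd ▸ mul_mem (HR.V_le_M hee) (HR.D_le hd)
  simpa using mul_mem h1 (inv_mem (HR.T_le ht))

/-- The configuration in a simple group gives `PSL(3, 4)`. -/
theorem exists_psl (h : IsCIT G) [IsSimpleGroup G] (hnse : ¬ ∃ K : Subgroup G, Cfsg.IsStronglyEmbedded K)
    (S : Second q M X V E T D u u') : ∃ (F : Type) (_ : Field F) (_ : Fintype F),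
      Fintype.card F = 4 ∧ Nonempty (G ≃* Matrix.ProjectiveSpecialLinearGroup (Fin 3) F) := by
  classical
  obtain rfl : q = 4 := S.q_eq_four h
  have HL := S.left
  have HR := S.right
  have hidx := S.index_M h hnse
  have hG : Nat.card G = 20160 := by
    rw [← M.card_mul_index, HL.card_M, hidx]
    rfl
  haveI : Fintype (G ⧸ M) := Fintype.ofFinite _
  haveI : Fintype (X ⧸ M.subgroupOf X) := Fintype.ofFinite _
  let line : G → Finset (G ⧸ M) := fun g => Finset.univ.image (lineMap M X g)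
  have hmem : ∀ g p, p ∈ line g ↔ ∃ x ∈ X, p = QuotientGroup.mk (g * x) := by
    intro g p
    simp only [line, Finset.mem_image, Finset.mem_univ, true_and]
    constructor
    · rintro ⟨y, rfl⟩
      induction y using Quotient.inductionOn' with
      | h y => exact ⟨y, y.2, rfl⟩
    · rintro ⟨x, hx, rfl⟩
      exact ⟨QuotientGroup.mk ⟨x, hx⟩, rfl⟩
  have hlineX : ∀ g g', g⁻¹ * g' ∈ X → line g = line g' := by
    intro g g' hgg
    ext p
    rw [hmem, hmem]
    constructor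
    · rintro ⟨x, hx, rfl⟩
      exact ⟨(g⁻¹ * g')⁻¹ * x, mul_mem (inv_mem hgg) hx, by congr 1; group⟩
    · rintro ⟨x, hx, rfl⟩
      exact ⟨(g⁻¹ * g') * x, mul_mem hgg hx, by congr 1; group⟩
  have hplane : Cfsg.Agent.PlaneFour.Plane (Set.range line) := by
    refine ⟨⟨?_, fun s hs => ?_⟩, ?_⟩
    · rintro _ ⟨g, rfl⟩
      rw [Finset.card_image_of_injective _ (lineMap_injective M X g), Finset.card_univ,
        ← Nat.card_eq_fintype_card, S.index_X]
    · obtain ⟨p, r, hne, rfl⟩ := Finset.card_eq_two.1 hs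
      obtain ⟨g, rfl⟩ := QuotientGroup.mk_surjective p
      obtain ⟨g', rfl⟩ := QuotientGroup.mk_surjective r
      obtain ⟨a, ha, x, hx, b, hb, hab⟩ := S.all_mem h hnse (g⁻¹ * g')
      have hxM : x ∉ M := fun hh => hne (QuotientGroup.eq.2 (hab ▸ mul_mem (mul_mem ha hh) hb))
      obtain ⟨t, ht, k, hk, rfl⟩ := HR.bruhat x hx fun hN => hxM (S.symm.mem_X hx hN)
      set m := a * t with hmdef
      have hm : m ∈ M := mul_mem ha (HL.T_le ht)
      have hb' : k * b ∈ M := mul_mem (S.symm.mem_X hk.1 hk.2) hb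
      have hg' : g' = g * m * u' * (k * b) := by
        rw [hmdef, show g' = g * (g⁻¹ * g') by group, hab]; group
      refine ⟨line (g * m), ⟨⟨g * m, rfl⟩, ?_⟩, ?_⟩
      · intro p hp
        rcases Finset.mem_insert.1 hp with rfl | hp
        · exact (hmem _ _).2 ⟨1, X.one_mem, QuotientGroup.eq.2 (by simpa using hm)⟩
        · rw [Finset.mem_singleton] at hp
          subst hp
          refine (hmem _ _).2 ⟨u', HR.u_mem, QuotientGroup.eq.2 ?_⟩
          rw [hg', show (g * m * u' * (k * b))⁻¹ * (g * m * u') = (k * b)⁻¹ by group]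
          exact inv_mem hb'
      · rintro _ ⟨⟨f, rfl⟩, hf⟩
        obtain ⟨y, hy, hye⟩ := (hmem _ _).1 (hf (Finset.mem_insert_self _ _))
        obtain ⟨y', hy', hye'⟩ := (hmem _ _).1 (hf (Finset.mem_insert_of_mem (Finset.mem_singleton_self _)))
        have h1 : g⁻¹ * (f * y) ∈ M := QuotientGroup.eq.1 hye
        have h2 : g'⁻¹ * (f * y') ∈ M := QuotientGroup.eq.1 hye'
        refine hlineX f (g * m) ?_
        set μ := m⁻¹ * (g⁻¹ * (f * y)) with hμdef
        have hμ : μ ∈ M := mul_mem (inv_mem hm) h1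
        have hμX : μ ∈ X := S.unique_line h (x := y⁻¹ * y') (m₂ := (g'⁻¹ * (f * y'))⁻¹ * (k * b)⁻¹) hμ
          (mul_mem (inv_mem hy) hy') (mul_mem (inv_mem h2) (inv_mem hb')) (by rw [hμdef, hg']; group)
        rw [show f⁻¹ * (g * m) = y * μ⁻¹ by rw [hμdef]; group]
        exact mul_mem hy (inv_mem hμX)
    · rw [← Nat.card_eq_fintype_card, ← index_eq_card, hidx]
  obtain ⟨F, hF, hFin, hFc⟩ := Cfsg.Agent.PlaneFour.exists_field_four
  refine ⟨F, hF, hFin, hFc, Cfsg.Agent.PlaneFour.iso_psl hplane hG (MulAction.toPermHom G (G ⧸ M)) ?_ ?_ hFc⟩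
  · intro e
    obtain ⟨g, hg⟩ : ∃ g, g ∉ M := by
      by_contra hall
      push Not at hall
      rw [(eq_top_iff' M).2 hall, index_top] at hidx
      norm_num at hidx
    have h1 : g • (QuotientGroup.mk 1 : G ⧸ M) = QuotientGroup.mk 1 := by
      have h0 := congrArg (fun π : Equiv.Perm (G ⧸ M) => π (QuotientGroup.mk 1)) (DFunLike.congr_fun e g)
      simpa using h0
    exact hg (CfsgLib.StrongEmbed.smul_mk_one_iff.1 h1)
  · rintro g _ ⟨f, rfl⟩
    refine ⟨g * f, ?_⟩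
    ext p
    rw [hmem, Finset.mem_image]
    constructor
    · rintro ⟨x, hx, rfl⟩
      exact ⟨QuotientGroup.mk (f * x), (hmem _ _).2 ⟨x, hx, rfl⟩, congrArg QuotientGroup.mk (mul_assoc g f x).symm⟩
    · rintro ⟨p', hp', rfl⟩
      obtain ⟨x, hx, rfl⟩ := (hmem _ _).1 hp'
      exact ⟨x, hx, congrArg QuotientGroup.mk (mul_assoc g f x).symm⟩

end Second

end CfsgLib.CIT
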