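import Cfsg.Agent.CITGroups.LocModule

/-!
# Two elementary abelian normal subgroups with a common Sylow 2-subgroup
-/

set_option autoImplicit false
set_option linter.style.haveILetI false
set_option linter.unusedSectionVars false

namespace CfsgLib.CIT

open Subgroup
open scoped Pointwise

universe u

variable {G : Type u} [Group G] [Finite G]

/-- For every nonsolvable 2-local `N(R)` with `R = O₂(N(R))`, the factor group has a strongly embedded
subgroup. -/
def Good (G : Type u) [Group G] : Prop :=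
  ∀ R : Subgroup G, IsPGroup 2 R → R ≠ ⊥ → ¬ Group.IsSolvable (normalizer (R : Set G)) →
    (∀ N : Subgroup G, N ≤ normalizer (R : Set G) →
      (∀ m ∈ normalizer (R : Set G), ∀ x ∈ N, m * x * m⁻¹ ∈ N) → IsPGroup 2 N → N ≤ R) →
    ∀ N : Subgroup (normalizer (R : Set G)), ∀ [N.Normal], N = R.subgroupOf (normalizer (R : Set G)) →
      ∃ K : Subgroup (normalizer (R : Set G) ⧸ N), Cfsg.IsStronglyEmbedded K

theorem not_solvable_of_le {A B : Subgroup G} (hle : A ≤ B) (hA : ¬ Group.IsSolvable A) :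
    ¬ Group.IsSolvable B := fun hB => hA (by
  haveI := hB
  exact Group.isSolvable_of_isSolvable_injective (inclusion_injective hle))

theorem exists_loc_of_good (h : IsCIT G) (hgood : Good G) {R T : Subgroup G} (hR2 : IsPGroup 2 R)
    (hR1 : R ≠ ⊥) (hns : ¬ Group.IsSolvable (normalizer (R : Set G)))
    (hcore : ∀ N : Subgroup G, N ≤ normalizer (R : Set G) →
      (∀ m ∈ normalizer (R : Set G), ∀ x ∈ N, m * x * m⁻¹ ∈ N) → IsPGroup 2 N → N ≤ R)
    (hT : T ≤ normalizer (R : Set G)) (hT2 : IsPGroup 2 T)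
    (hTmax : ∀ P : Subgroup G, P ≤ normalizer (R : Set G) → IsPGroup 2 P → T ≤ P → P = T) :
    ∃ (D : Subgroup G) (u : G) (q : ℕ), Loc (normalizer (R : Set G)) R T D u q :=
  exists_loc h hR2 hR1 rfl hns hcore (fun N _ e => hgood R hR2 hR1 hns hcore N e) hT hT2 hTmax

theorem mem_normalizer_of_conj_le {J : Subgroup G} {g : G} (hg : ∀ x ∈ J, g * x * g⁻¹ ∈ J) :
    g ∈ normalizer (J : Set G) := by
  refine mem_normalizer_iff_map_conj_eq.2 (eq_of_le_of_card_ge ?_ (le_of_eq ?_))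
  · rintro _ ⟨x, hx, rfl⟩; exact hg x hx
  · exact (card_map_of_injective (f := ((MulAut.conj g : G ≃* G) : G →* G)) (MulAut.conj g).injective).symm

theorem elem_sup {A B : Subgroup G} (hA : ∀ x ∈ A, x * x = 1) (hB : ∀ x ∈ B, x * x = 1)
    (hc : ∀ a ∈ A, ∀ b ∈ B, Commute a b) : ∀ x ∈ A ⊔ B, x * x = 1 := by
  intro x hx
  have hn : A ≤ normalizer (B : Set G) := fun a ha => mem_normalizer_of_conj_le fun b hb => by
    rwa [(hc a ha b hb).eq, mul_inv_cancel_right]
  obtain ⟨a, ha, b, hb, rfl⟩ := (CfsgLib.Solvable.mem_sup_of_le_normalizer hn).1 hx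
  rw [show a * b * (a * b) = a * (b * a) * b by group, ← (hc a ha b hb).eq,
    show a * (a * b) * b = (a * a) * (b * b) by group, hA a ha, hB b hb, one_mul]

theorem omegaZ_eq_self {U : Subgroup G} (hU : ∀ x ∈ U, x * x = 1) : omegaZ U = U :=
  le_antisymm (omegaZ_le U) fun x hx => ⟨hx, hU x hx, fun _ hw => comm_of_sq hU hx hw⟩

theorem elem_inf_omegaZ {U E : Subgroup G} (hE : ∀ x ∈ E, x * x = 1) :
    ∀ x ∈ (E ⊓ U) ⊔ omegaZ U, x * x = 1 :=
  elem_sup (fun x hx => hE x hx.1) (fun _ hx => omegaZ_sq hx) fun _ ha _ hb => (omegaZ_commute hb ha.2).symm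

variable {M U T D : Subgroup G} {u : G} {q : ℕ}

/-- In the final situation the involutions of `T` lie in `U ∪ E`. -/
theorem Loc.invols_of_tight (ht : Loc.Tight M U T q) {E : Subgroup G} (hE : ∀ x ∈ E, x * x = 1)
    (hU : ∀ x ∈ U, x * x = 1) (hET : E ≤ T) (hEU : E ⊓ U = omegaZ U ⊓ centralizer (T : Set G))
    (hcov : ∀ t ∈ T, ∃ e ∈ E, e⁻¹ * t ∈ U) : ∀ t ∈ T, t * t = 1 → t ∈ U ∨ t ∈ E := by
  intro t ht' htt
  obtain ⟨e, he, hw⟩ := hcov t ht'
  obtain ⟨w, hwU, rfl⟩ : ∃ w, w ∈ U ∧ t = e * w := ⟨e⁻¹ * t, hw, by group⟩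
  by_cases heU : e ∈ U
  · exact Or.inl (U.mul_mem heU hwU)
  refine Or.inr (E.mul_mem he ?_)
  have hc : Commute e w := by
    have h1 : e * w = (e * w)⁻¹ := eq_inv_of_mul_eq_one_left htt
    rw [mul_inv_rev, inv_eq_of_mul_eq_one_right (hE e he), inv_eq_of_mul_eq_one_right (hU w hwU)] at h1
    exact h1
  have hwV : w ∈ omegaZ U := by rw [omegaZ_eq_self hU]; exact hwU
  have : w ∈ E ⊓ U := hEU.symm ▸ ⟨hwV, ht.fix e (hET he) heU w hwV hc⟩
  exact this.1

/-- From a 2-local with elementary abelian core `U` and a second one at `E ≤ T` to the configuration. -/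
theorem exists_second_of_pair (h : IsCIT G) (hgood : Good G) (L : Loc M U T D u q)
    (hU : ∀ x ∈ U, x * x = 1) {E : Subgroup G} (hET : E ≤ T) (hE : ∀ x ∈ E, x * x = 1) (hEU : ¬ E ≤ U)
    (hEc : Nat.card U ≤ Nat.card E) (hXns : ¬ Group.IsSolvable (normalizer (E : Set G)))
    (hTX : T ≤ normalizer (E : Set G))
    (hcore : ∀ N : Subgroup G, N ≤ normalizer (E : Set G) →
      (∀ m ∈ normalizer (E : Set G), ∀ x ∈ N, m * x * m⁻¹ ∈ N) → IsPGroup 2 N → N ≤ E)
    (hTmax : ∀ P : Subgroup G, P ≤ normalizer (E : Set G) → IsPGroup 2 P → T ≤ P → P = T) :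
    ∃ (q' : ℕ) (M' X V E' T' D' : Subgroup G) (w w' : G), Second q' M' X V E' T' D' w w' := by
  have hVU := omegaZ_eq_self hU
  have hVE := omegaZ_eq_self hE
  obtain ⟨ht, hEU', hEq, hcov⟩ := L.tight h hET hE hEU (by
    rw [hVU, sup_eq_right.2 inf_le_right]; exact hEc)
  obtain ⟨D₀, u₀, q₀, LX⟩ := exists_loc_of_good h hgood (isPGroup_of_sq hE)
    (fun e => hEU (e ▸ bot_le)) hXns hcore hTX L.T_two hTmax
  have hUc : Nat.card U = q ^ 2 := by rw [← ht.card_V, hVU]
  have hUE : ¬ U ≤ E := fun hle => hEU (eq_of_le_of_card_ge hle (by rw [hEq, hUc])).ge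
  obtain ⟨htX, hUE', hUq, hcovX⟩ := LX.tight h L.U_le hU hUE (by
    rw [hVE, sup_eq_right.2 inf_le_right, hEq, hUc])
  have hqq : q₀ = q := Nat.pow_left_injective two_ne_zero (hUq.symm.trans hUc)
  subst hqq
  have hinv := Loc.invols_of_tight ht hE hU hET hEU' hcov
  have hTc : Nat.card T = q₀ ^ 3 := by rw [ht.card_T, hUc]; ring
  have hDc : Nat.card D = q₀ - 1 := by have := L.D_card; omega
  have hD₀c : Nat.card D₀ = q₀ - 1 := by have := LX.D_card; omega
  have hinfc : Nat.card (U ⊓ E : Subgroup G) = q₀ := by rw [inf_comm, hEU', ht.card_fixed]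
  have hDE : ∀ d ∈ D, ∀ e ∈ E, d * e * d⁻¹ ∈ E := by
    intro d hd e he
    by_cases heU : e ∈ U
    · have hz : e ∈ omegaZ U ⊓ centralizer (T : Set G) := hEU' ▸ ⟨he, heU⟩
      exact (hEU'.symm ▸ L.fixed_inv hd hz : d * e * d⁻¹ ∈ E ⊓ U).1
    · refine (hinv _ (L.D_norm d hd e (hET he)) ?_).resolve_left fun hh => heU ?_
      · rw [show d * e * d⁻¹ * (d * e * d⁻¹) = d * (e * e) * d⁻¹ by group, hE e he, mul_one, mul_inv_cancel]
      · exact (mem_normalizer_iff.1 (L.M_le (L.D_le hd)) e).2 hh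
  have hDX : D ≤ normalizer (E : Set G) := fun d hd => mem_normalizer_of_conj_le (hDE d hd)
  -- make the complements equal
  have hD₀T : D₀ ≤ normalizer (T : Set G) := fun d hd => mem_normalizer_of_conj_le (LX.D_norm d hd)
  have hcop : (Nat.card D₀).Coprime (Nat.card T) := by
    haveI : Fact (Nat.Prime 2) := ⟨Nat.prime_two⟩
    obtain ⟨k, hk⟩ := L.T_two.exists_card_eq
    rw [hk]
    exact (Nat.coprime_two_right.2 LX.D_odd).pow_right k
  obtain ⟨k, hk, hke⟩ := CfsgLib.SZ.conj_rel hD₀T hcop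
    (Or.inr (haveI : Fact (Nat.Prime 2) := ⟨Nat.prime_two⟩; haveI := L.T_two.isNilpotent; inferInstance))
    (fun d hd => by
      obtain ⟨t, ht', d', hd', rfl⟩ := LX.normalizer_T d (hDX hd) (mem_normalizer_of_conj_le (L.D_norm d hd))
      exact mul_mem (mem_sup_right ht') (mem_sup_left hd') : D ≤ D₀ ⊔ T)
    (hDc.trans hD₀c.symm)
  have hmemD : ∀ d ∈ D, k⁻¹ * d * k ∈ D₀ := fun d hd => by
    obtain ⟨d', hd', e⟩ := (hke.symm ▸ hd : d ∈ MulAut.conj k • D₀)
    rw [← (show k * d' * k⁻¹ = d from e)]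
    simpa [mul_assoc] using hd'
  have hmemD' : ∀ d ∈ D₀, k * d * k⁻¹ ∈ D := fun d hd => hke ▸ ⟨d, hd, rfl⟩
  have hkX : k ∈ normalizer (E : Set G) := hTX hk
  have hkN : k ∈ normalizer (T : Set G) := le_normalizer hk
  refine ⟨q₀, M, normalizer (E : Set G), U, E, T, D, u, k * u₀ * k⁻¹, ⟨?_, ?_⟩⟩
  · refine
      { pow_two := L.q_pow, M_eq := L.M_eq, not_solvable := L.not_solvable, card_M := ?_, V_elem := hU,
        E_elem := hE, card_V := hUc, card_E := hEq, card_inf := hinfc, V_le := L.U_le, E_le := hET,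
        T_le := L.T_le, card_T := hTc, self_cent := ?_, decomp_T := ?_, fix := ?_, invols := hinv,
        D_le := L.D_le, card_D := hDc, D_cyclic := L.D_cyclic, D_norm_E := hDE, D_norm_T := L.D_norm,
        u_mem := L.u_mem, u_ord := L.u_ord, u_inv := L.u_inv, u_not := L.u_not, normalizer_T := L.normalizer_T,
        bruhat := L.bruhat, trap := L.trap }
    · refine Nat.eq_of_mul_eq_mul_right (Nat.card_pos (α := U)) ?_
      rw [L.card_M, hTc, hUc, hDc]; ring
    · refine le_antisymm (fun x hx => ?_) fun x hx => mem_centralizer_iff.2 fun v hv => (comm_of_sq hU hv hx).eq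
      exact L.cent_omegaZ h (L.M_eq ▸ centralizer_le_normalizer _ hx)
        fun v hv => (mem_centralizer_iff.1 hx v (omegaZ_le U hv)).symm
    · intro t ht'
      obtain ⟨e, he, hw⟩ := hcov t ht'
      exact ⟨e * (e⁻¹ * t) * e⁻¹, (mem_normalizer_iff.1 (L.M_le (L.T_le (hET he))) _).1 hw, e, he, by group⟩
    · intro e he heU v hv
      refine ⟨fun hc => ?_, fun hvE => ?_⟩
      · have : v ∈ E ⊓ U := hEU'.symm ▸ ⟨hVU.symm ▸ hv, ht.fix e he heU v (hVU.symm ▸ hv) hc⟩
        exact this.1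
      · have : v ∈ omegaZ U ⊓ centralizer (T : Set G) := hEU' ▸ ⟨hvE, hv⟩
        exact mem_centralizer_iff.1 this.2 e he
  · refine
      { pow_two := L.q_pow, M_eq := rfl, not_solvable := hXns, card_M := ?_, V_elem := hE,
        E_elem := hU, card_V := hEq, card_E := hUc, card_inf := inf_comm U E ▸ hinfc, V_le := hET,
        E_le := L.U_le, T_le := hTX, card_T := hTc, self_cent := ?_, decomp_T := ?_, fix := ?_,
        invols := fun t ht' htt => (hinv t ht' htt).symm, D_le := hDX, card_D := hDc, D_cyclic := L.D_cyclic,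
        D_norm_E := fun d hd e he => (mem_normalizer_iff.1 (L.M_le (L.D_le hd)) e).1 he,
        D_norm_T := L.D_norm, u_mem := ?_, u_ord := ?_, u_inv := ?_, u_not := ?_, normalizer_T := ?_,
        bruhat := ?_, trap := LX.trap }
    · refine Nat.eq_of_mul_eq_mul_right (Nat.card_pos (α := E)) ?_
      rw [LX.card_M, hTc, hEq, hD₀c]; ring
    · refine le_antisymm (fun x hx => ?_) fun x hx => mem_centralizer_iff.2 fun v hv => (comm_of_sq hE hv hx).eq
      exact LX.cent_omegaZ h (centralizer_le_normalizer _ hx)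
        fun v hv => (mem_centralizer_iff.1 hx v (omegaZ_le E hv)).symm
    · intro t ht'
      obtain ⟨e, he, hw⟩ := hcovX t ht'
      exact ⟨e * (e⁻¹ * t) * e⁻¹, (mem_normalizer_iff.1 (hTX (L.U_le he)) _).1 hw, e, he, by group⟩
    · intro e he heE v hv
      refine ⟨fun hc => ?_, fun hvU => ?_⟩
      · have : v ∈ U ⊓ E := hUE'.symm ▸ ⟨hVE.symm ▸ hv, htX.fix e he heE v (hVE.symm ▸ hv) hc⟩
        exact this.1
      · have : v ∈ omegaZ E ⊓ centralizer (T : Set G) := hUE' ▸ ⟨hvU, hv⟩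
        exact mem_centralizer_iff.1 this.2 e he
    · exact mul_mem (mul_mem hkX LX.u_mem) (inv_mem hkX)
    · rw [CfsgLib.Invol.orderOf_conj_eq, LX.u_ord]
    · intro d hd
      have := LX.u_inv _ (hmemD d hd)
      calc k * u₀ * k⁻¹ * d * (k * u₀ * k⁻¹)⁻¹ = k * (u₀ * (k⁻¹ * d * k) * u₀⁻¹) * k⁻¹ := by group
        _ = d⁻¹ := by rw [this]; group
    · intro hh
      refine LX.u_not ?_
      have := mul_mem (mul_mem (inv_mem hkN) hh) hkN
      simpa [mul_assoc] using this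
    · intro g hg hgN
      obtain ⟨t, ht', d, hd, rfl⟩ := LX.normalizer_T g hg hgN
      refine ⟨t * (d * k * d⁻¹ * k⁻¹), T.mul_mem ht' ?_, k * d * k⁻¹, hmemD' d hd, by group⟩
      exact T.mul_mem (LX.D_norm d hd k hk) (T.inv_mem hk)
    · intro g hg hgN
      obtain ⟨t, ht', w, hw, rfl⟩ := LX.bruhat g hg hgN
      exact ⟨t * k⁻¹, T.mul_mem ht' (T.inv_mem hk), k * w,
        ⟨mul_mem hkX hw.1, mul_mem hkN hw.2⟩, by group⟩

end CfsgLib.CIT
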