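import Cfsg.Agent.CITGroups.ConfigBasic
import Cfsg.Agent.CITGroups.Second

/-!
# The configuration: `q = 4`, and no fixed-point-free module
-/

set_option autoImplicit false
set_option linter.style.haveILetI false
set_option linter.unusedSectionVars false

namespace CfsgLib.CIT

open Subgroup

universe u

variable {G : Type u} [Group G] [Finite G] {q : ℕ} {M X V E T D : Subgroup G} {u u' : G}

namespace Half

/-- The commutator with `w^u`, for `w ∈ Z`, is given by an element of `D`. -/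
theorem exists_delta (H : Half q M V E T D u) (h : IsCIT G) {e : G} (he : e ∈ E) (heV : e ∉ V) :
    ∃ δ ∈ D, ∀ w ∈ V ⊓ E, cj e (cj u w) * cj u w = cj δ w := by
  obtain ⟨v, hv, e₁, he₁, d, hd, e₂, he₂, hfe⟩ := H.bruhat_f he heV
  refine ⟨d, hd, fun w hw => ?_⟩
  have hwV : cj u w ∈ V := H.V_conj H.u_mem hw.1
  have hdw := H.D_conj_Z hd hw
  have hxV : cj u (cj d w) ∈ V := H.V_conj H.u_mem hdw.1
  set ψ := cj e (cj u w) * cj u w with hψdef
  have hinv : ∀ x ∈ V, x⁻¹ = x := fun x hx => inv_eq_of_mul_eq_one_right (H.V_elem x hx)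
  have hψ : ψ ∈ V ⊓ E := by
    have := H.comm_mem he hwV
    rwa [hinv _ hwV] at this
  set ψ₁ := cj e₁ (cj u (cj d w)) * cj u (cj d w) with hψ₁def
  have hψ₁ : ψ₁ ∈ V ⊓ E := by
    have := H.comm_mem he₁ hxV
    rwa [hinv _ hxV] at this
  have h1 : cj (cj u e) w = cj u ψ * w := by
    have e0 : cj (cj u e) w = cj u (cj e (cj u w)) := by
      rw [← cj_mul, ← cj_mul]; congr 1; simp only [cj, H.u_inv_eq, mul_assoc]
    rw [e0, show cj e (cj u w) = ψ * cj u w by rw [hψdef, mul_assoc, H.V_elem _ hwV, mul_one], cj_prod, H.cj_uu]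
  have h2 : cj (cj u e) w = ψ₁ * cj u (cj d w) := by
    rw [hfe, cj_mul, cj_mul, cj_mul, cj_mul, show cj e₂ w = w from cj_fix_iff.2 (comm_of_sq H.E_elem he₂ hw.2),
      show cj d⁻¹ (cj u w) = cj u (cj d w) from (H.cj_u_d hd w).symm,
      show cj e₁ (cj u (cj d w)) = ψ₁ * cj u (cj d w) by rw [hψ₁def, mul_assoc, H.V_elem _ hxV, mul_one]]
    exact cj_fix_iff.2 (comm_of_sq H.V_elem hv (V.mul_mem hψ₁.1 hxV))
  have h3 : w * cj u ψ = ψ₁ * cj u (cj d w) := by
    rw [← h2, h1]; exact comm_of_sq H.V_elem hw.1 (H.V_conj H.u_mem hψ.1)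
  exact (H.pair_inj h hw hψ₁ hψ hdw h3).2

end Half

namespace Second

/-- The configuration forces `q = 4`. -/
theorem q_eq_four (h : IsCIT G) (S : Second q M X V E T D u u') : q = 4 := by
  have HL := S.left
  have HR := S.right
  have h4 := HL.four_le
  haveI : Nontrivial (V ⊓ E : Subgroup G) :=
    Finite.one_lt_card_iff_nontrivial.1 (by rw [HL.card_inf]; omega)
  obtain ⟨⟨x₀, hx₀⟩, hx₀1⟩ := exists_ne (1 : ↥(V ⊓ E))
  have hx1 : x₀ ≠ 1 := fun e => hx₀1 (Subtype.ext e)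
  set a := cj u x₀ with hadef
  have haV : a ∈ V := HL.V_conj HL.u_mem hx₀.1
  have hsw : ∀ {x : G}, x ∈ V ⊓ E → x ∈ E ⊓ V := fun hx => ⟨hx.2, hx.1⟩
  have hsE : ∀ x ∈ V ⊓ E, cj u' x ∈ E := fun x hx => HR.V_conj HR.u_mem hx.2
  have hsV : ∀ x ∈ V ⊓ E, cj u' x ∈ V → x = 1 := fun x hx hh => HR.Z_disj h (hsw hx) hh
  obtain ⟨g, hg⟩ : ∃ g : G → G, ∀ x, g x = cj (cj u' x) a * a := ⟨_, fun _ => rfl⟩
  have hinv : ∀ x ∈ V, x⁻¹ = x := fun x hx => inv_eq_of_mul_eq_one_right (HL.V_elem x hx)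
  have hgZ : ∀ x ∈ V ⊓ E, g x ∈ V ⊓ E := fun x hx => by
    have := HL.comm_mem (hsE x hx) haV
    rwa [hinv a haV, ← hg] at this
  have hadd : ∀ x ∈ V ⊓ E, ∀ y ∈ V ⊓ E, g (x * y) = g x * g y := by
    intro x hx y hy
    have hy' : cj (cj u' y) a = g y * a := by rw [hg, mul_assoc, HL.V_elem a haV, mul_one]
    have hx' : cj (cj u' x) a = g x * a := by rw [hg, mul_assoc, HL.V_elem a haV, mul_one]
    rw [hg (x * y), cj_prod, cj_mul, hy', cj_prod,
      show cj (cj u' x) (g y) = g y from cj_fix_iff.2 (HL.Z_central (hgZ y hy) (HL.E_le (hsE x hx))), hx',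
      mul_assoc, mul_assoc, HL.V_elem a haV, mul_one, (comm_of_sq HL.V_elem (hgZ x hx).1 (hgZ y hy).1).eq]
  have hne : ∀ x ∈ V ⊓ E, x ≠ 1 → g x ≠ 1 := by
    intro x hx hx0 e
    rw [hg, mul_eq_one_iff_eq_inv, hinv a haV, cj_fix_iff] at e
    have heV : cj u' x ∉ V := fun hh => hx0 (hsV x hx hh)
    exact hx1 (HL.Z_disj h hx₀ ((HL.fix _ (HL.E_le (hsE x hx)) heV a haV).1 e))
  have hscal : ∀ d ∈ D, ∀ x ∈ V ⊓ E, x ≠ 1 → g (cj d⁻¹ x) = cj (d * d) (g x) := by
    intro d hd x hx hx0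
    set e := cj u' x with hedef
    have heV : e ∉ V := fun hh => hx0 (hsV x hx hh)
    obtain ⟨δ, hδ, hδw⟩ := HL.exists_delta h (hsE x hx) heV
    have e1 : cj u' (cj d⁻¹ x) = cj d e := (HR.cj_d_u hd x).symm
    have ha : a = cj d (cj u (cj d x₀)) := by
      rw [HL.cj_d_u hd, ← cj_mul d⁻¹, inv_mul_cancel, cj_one]
    have e2 : g x = cj δ x₀ := by rw [hg]; exact hδw x₀ hx₀
    rw [hg, e1, e2, show cj (cj d e) a = cj d (cj e (cj u (cj d x₀))) by
        conv_lhs => rw [ha, ← cj_mul (cj d e) d]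
        rw [show cj d e * d = d * e by simp only [cj]; group, cj_mul]]
    conv_lhs => arg 2; rw [ha]
    rw [← cj_prod, hδw _ (HL.D_conj_Z hd hx₀), cj_comm (HL.D_comm hδ hd), ← cj_mul d d]
  -- the arithmetic
  have hdiv : ∀ d ∈ D, d ^ 3 = 1 := by
    intro d hd
    by_cases hd1 : d = 1
    · rw [hd1, one_pow]
    have hdx := HL.D_conj_Z hd hx₀
    obtain ⟨d', hd', hd'e⟩ := HL.exists_D h hx₀ hx1 ((V ⊓ E).mul_mem hx₀ hdx) fun e => hd1 (by
      refine HL.eq_one_of_fix h hd hx₀.1 hx1 ?_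
      rw [← inv_eq_of_mul_eq_one_right e, hinv x₀ hx₀.1])
    have hid : ∀ x ∈ V ⊓ E, cj d' x = x * cj d x := by
      intro x hx
      by_cases hx0 : x = 1
      · rw [hx0]; simp [cj]
      obtain ⟨c, hc, rfl⟩ := HL.exists_D h hx₀ hx1 hx hx0
      rw [cj_comm (HL.D_comm hd' hc), hd'e, cj_prod, cj_comm (HL.D_comm hd hc)]
    set y := g x₀ with hydef
    have hyZ := hgZ x₀ hx₀
    have hy1 : y ≠ 1 := hne x₀ hx₀ hx1
    have key : ∀ d ∈ D, g (cj d x₀) = cj (d⁻¹ * d⁻¹) y := fun d hd => by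
      have := hscal d⁻¹ (D.inv_mem hd) x₀ hx₀ hx1
      rwa [inv_inv] at this
    have hA : cj (d'⁻¹ * d'⁻¹) y = y * cj (d⁻¹ * d⁻¹) y := by
      rw [← key d' hd', ← key d hd, hd'e, hadd x₀ hx₀ _ hdx]
    have hB : cj (d' * d') y = y * cj (d * d) y := by
      have hdy := HL.D_conj_Z hd hyZ
      rw [cj_mul, hid y hyZ, hid _ ((V ⊓ E).mul_mem hyZ hdy), cj_prod, ← cj_mul d d,
        show y * cj d y * (cj d y * cj (d * d) y) = y * (cj d y * cj d y) * cj (d * d) y by group,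
        HL.V_elem _ hdy.1, mul_one]
    set d2 := d * d with hd2
    have hd2D : d2 ∈ D := D.mul_mem hd hd
    have hb : cj d2⁻¹ y * cj d2 y * y = 1 := by
      have hA' : cj (d' * d')⁻¹ y = y * cj d2⁻¹ y := by rw [mul_inv_rev, hd2, mul_inv_rev, hA]
      have h5 := congrArg (cj (d' * d')) hA'
      rw [← cj_mul, mul_inv_cancel, cj_one, cj_prod,
        cj_comm (HL.D_comm (D.mul_mem hd' hd') (D.inv_mem hd2D)), hB, cj_prod, ← cj_mul d2⁻¹ d2, inv_mul_cancel,
        cj_one] at h5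
      have hc1 : y * cj d2 y * (cj d2⁻¹ y * y) = cj d2⁻¹ y * cj d2 y := by
        have hp : cj d2 y ∈ V := (HL.D_conj_Z hd2D hyZ).1
        have hm : cj d2⁻¹ y ∈ V := (HL.D_conj_Z (D.inv_mem hd2D) hyZ).1
        rw [(comm_of_sq HL.V_elem hyZ.1 hp).eq, show cj d2 y * y * (cj d2⁻¹ y * y) =
          cj d2 y * (y * cj d2⁻¹ y) * y by group, (comm_of_sq HL.V_elem hyZ.1 hm).eq,
          show cj d2 y * (cj d2⁻¹ y * y) * y = cj d2 y * cj d2⁻¹ y * (y * y) by group,
          HL.V_elem y hyZ.1, mul_one, (comm_of_sq HL.V_elem hp hm).eq]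
      rw [hc1] at h5
      rw [← h5, HL.V_elem y hyZ.1]
    have h6 := congrArg (cj d2) hb
    rw [cj_prod, cj_prod, ← cj_mul d2 d2⁻¹, mul_inv_cancel, cj_one, show cj d2 1 = 1 by simp [cj], ← cj_mul] at h6
    have hp : cj (d2 * d2) y ∈ V := (HL.D_conj_Z (D.mul_mem hd2D hd2D) hyZ).1
    have hp1 : cj d2 y ∈ V := (HL.D_conj_Z hd2D hyZ).1
    have hm : cj d2⁻¹ y ∈ V := (HL.D_conj_Z (D.inv_mem hd2D) hyZ).1
    have h7 : cj (d2 * d2) y = cj d2⁻¹ y := by
      have e3 : cj d2⁻¹ y = y * cj d2 y := by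
        rw [mul_assoc] at hb
        rw [eq_inv_of_mul_eq_one_left hb, mul_inv_rev, hinv y hyZ.1, hinv _ hp1]
      have e4 : cj (d2 * d2) y = y * cj d2 y := by
        have h8 := eq_inv_of_mul_eq_one_left h6
        rw [hinv _ hp1] at h8
        conv_rhs => rw [← h8, ← mul_assoc, HL.V_elem y hyZ.1, one_mul]
      rw [e3, e4]
    have h8 : d2 * d2 = d2⁻¹ := HL.cj_eq h (D.mul_mem hd2D hd2D) (D.inv_mem hd2D) hyZ.1 hy1 h7
    have h9 : d ^ 6 = 1 := by
      calc d ^ 6 = d2 * d2 * d2 := by rw [hd2]; simp only [pow_succ, pow_zero, one_mul, mul_assoc]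
        _ = 1 := by rw [h8, inv_mul_cancel]
    exact eq_one_of_odd_of_pow (k := 1) (HL.D_odd.of_dvd_nat (orderOf_dvd_natCard D (D.pow_mem hd 3)))
      (by rw [← pow_mul]; exact h9)
  haveI := HL.D_cyclic
  obtain ⟨c, hc⟩ := IsCyclic.exists_ofOrder_eq_natCard (α := D)
  have hc3 := orderOf_dvd_of_pow_eq_one (show c ^ 3 = 1 from Subtype.ext (hdiv c c.2))
  rw [hc, HL.card_D] at hc3
  have := Nat.le_of_dvd (by norm_num) hc3
  omega

end Second

/-- An element of order three times an element of `V` has order three. -/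
theorem Half.orderOf_mul_V (H : Half q M V E T D u) (h : IsCIT G) {d v : G} (hd : d ∈ M) (hd3 : orderOf d = 3)
    (hv : v ∈ V) : orderOf (d * v) = 3 := by
  have hd31 : d * d * d = 1 := by
    rw [← pow_three', ← hd3, pow_orderOf_eq_one]
  have hdV : d * d ∉ V := fun hh => by
    have h4 := H.V_elem _ hh
    have : d = 1 := by
      calc d = (d * d * d) * d := by rw [hd31, one_mul]
        _ = 1 := by rw [← h4]; group
    rw [this, orderOf_one] at hd3; omega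
  have hcube : (d * v) ^ 3 ∈ V := by
    have e : (d * v) ^ 3 = cj d v * cj (d * d) v * ((d * d * d) * v) := by
      rw [pow_three']; simp only [cj]; group
    rw [e, hd31, one_mul]
    exact V.mul_mem (V.mul_mem (H.V_conj hd hv) (H.V_conj (mul_mem hd hd) hv)) hv
  have h6 : (d * v) ^ 6 = 1 := by
    rw [show (6 : ℕ) = 3 * 2 from rfl, pow_mul, _root_.pow_two, H.V_elem _ hcube]
  rcases h.odd_or_two_pow (d * v) with hodd | ⟨k, hk⟩
  · have h31 : (d * v) ^ 3 = 1 := eq_one_of_odd_of_pow (k := 1)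
      (hodd.of_dvd_nat (orderOf_pow_dvd 3)) (by rw [← pow_mul]; exact h6)
    refine orderOf_eq_prime (hp := ⟨Nat.prime_three⟩) h31 fun e => hdV ?_
    rw [eq_inv_of_mul_eq_one_left e]
    exact V.mul_mem (V.inv_mem hv) (V.inv_mem hv)
  · exfalso
    have h2 : (d * v) ^ 2 = 1 := by
      have h3 : orderOf (d * v) ∣ 2 := by
        have hd6 := orderOf_dvd_of_pow_eq_one h6
        rw [hk] at hd6 ⊢
        exact ((Nat.Coprime.pow_left k (by norm_num : Nat.Coprime 2 3))).dvd_of_dvd_mul_right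
          (show 2 ^ k ∣ 2 * 3 from hd6)
      exact orderOf_dvd_iff_pow_eq_one.1 h3
    refine hdV ?_
    have e : d * d = (d * v) ^ 2 * (v⁻¹ * cj d⁻¹ v⁻¹) := by
      rw [_root_.pow_two]; simp only [cj]; group
    rw [e, h2, one_mul]
    exact V.mul_mem (V.inv_mem hv) (H.V_conj (inv_mem hd) (V.inv_mem hv))

/-- For `z ∈ Z` nontrivial, fixed points of `z` are fixed by all of `V`. -/
theorem Half.fix_le (H : Half 4 M V E T D u) (h : IsCIT G) {W : Type u} [Group W] [Finite W]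
    {φ : G →* MulAut W} (hφ : IsOddFpf φ) {z : G} (hz : z ∈ V ⊓ E) (hz1 : z ≠ 1) :
    ∀ v ∈ V, fixSub φ z ≤ fixSub φ v := by
  let S : Subgroup G :=
    { carrier := {v | v ∈ V ∧ fixSub φ z ≤ fixSub φ v}
      one_mem' := ⟨V.one_mem, fun w _ => by rw [mem_fixSub, map_one, MulAut.one_apply]⟩
      mul_mem' := fun {a b} ha hb => ⟨V.mul_mem ha.1 hb.1, fun w hw => by
        rw [mem_fixSub, map_mul, MulAut.mul_apply, mem_fixSub.1 (hb.2 hw), mem_fixSub.1 (ha.2 hw)]⟩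
      inv_mem' := fun {a} ha => by
        rw [inv_eq_of_mul_eq_one_right (H.V_elem a ha.1)]; exact ha }
  have hSmem : ∀ {v}, v ∈ S ↔ v ∈ V ∧ fixSub φ z ≤ fixSub φ v := Iff.rfl
  have hN3 : ∀ d ∈ M, orderOf d = 3 → d ∈ normalizer (S : Set G) := by
    intro d hd hd3
    refine mem_normalizer_of_conj_le fun v hv => ⟨H.V_conj hd hv.1, fun w hw => ?_⟩
    have hd' : orderOf d⁻¹ = 3 := by rw [orderOf_inv, hd3]
    have h1 : φ d⁻¹ w ∈ fixSub φ v :=
      fix_invariant hφ hd' (H.orderOf_mul_V h (inv_mem hd) hd' hv.1) (hv.2 hw)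
    have h2 := (fixSub_conj (φ := φ) (g := d)).2 h1
    rwa [← MulAut.mul_apply, ← map_mul, mul_inv_cancel, map_one, MulAut.one_apply] at h2
  have hVN : ∀ v ∈ V, v ∈ normalizer (S : Set G) := fun v hv => mem_normalizer_of_conj_le fun s hs => by
    rw [(comm_of_sq H.V_elem hv hs.1).eq, mul_inv_cancel_right]; exact hs
  have hord : ∀ d ∈ D, d ≠ 1 → orderOf d = 3 := by
    intro d hd hd1
    refine ((Nat.dvd_prime Nat.prime_three).1 ?_).resolve_left fun e => hd1 (orderOf_eq_one_iff.1 e)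
    have := orderOf_dvd_natCard D hd
    rwa [H.card_D] at this
  have hZ : ∀ z' ∈ V ⊓ E, z' ∈ S := by
    intro z' hz'
    by_cases h0 : z' = 1
    · rw [h0]; exact S.one_mem
    obtain ⟨d, hd, rfl⟩ := H.exists_D h hz hz1 hz' h0
    by_cases hd1 : d = 1
    · rw [hd1, cj_one]; exact hSmem.2 ⟨hz.1, le_rfl⟩
    exact (mem_normalizer_iff.1 (hN3 d (H.D_le hd) (hord d hd hd1)) z).1 (hSmem.2 ⟨hz.1, le_rfl⟩)
  -- `u` normalises `S`
  obtain ⟨c, hc1⟩ : ∃ c : D, (c : G) ≠ 1 := by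
    haveI : Nontrivial D := Finite.one_lt_card_iff_nontrivial.1 (by rw [H.card_D]; norm_num)
    obtain ⟨c, hc⟩ := exists_ne (1 : D)
    exact ⟨c, fun e => hc (Subtype.ext e)⟩
  have hEN : ∀ e ∈ E, e ∈ normalizer (S : Set G) ∧ cj u e ∈ normalizer (S : Set G) := by
    let f : E → E := fun e => ⟨(c : G) * cj (e : G) (c : G)⁻¹, by
      rw [show (c : G) * cj (e : G) (c : G)⁻¹ = cj (c : G) e * (e : G)⁻¹ by simp only [cj]; group]
      exact E.mul_mem (H.D_norm_E c c.2 e e.2) (E.inv_mem e.2)⟩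
    have hf : Function.Injective f := by
      intro a b e
      have e' : cj (a : G) (c : G)⁻¹ = cj (b : G) (c : G)⁻¹ := mul_left_cancel (congrArg Subtype.val e)
      have hcm : Commute ((b : G)⁻¹ * a) (c : G)⁻¹ := cj_fix_iff.1 (by rw [cj_mul, e', cj_inv_left])
      by_contra hab
      have hne : (b : G)⁻¹ * a ≠ 1 := fun e1 => hab (Subtype.ext (inv_mul_eq_one.1 e1).symm)
      have hinvol := CfsgLib.Invol.orderOf_eq_two
        (H.E_elem _ (E.mul_mem (E.inv_mem b.2) a.2)) hne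
      exact hc1 (inv_eq_one.1 (h.eq_one_of_commute hinvol hcm
        (by rw [orderOf_inv]; exact H.D_odd.of_dvd_nat (orderOf_dvd_natCard D c.2))))
    intro e he
    obtain ⟨⟨e', he'⟩, hef⟩ := Finite.injective_iff_surjective.1 hf ⟨e, he⟩
    have hee : (c : G) * cj e' (c : G)⁻¹ = e := congrArg Subtype.val hef
    have hc3 : orderOf (c : G) = 3 := hord _ c.2 hc1
    have hcM := H.D_le c.2
    have he'M := H.E_le_M he'
    have o1 : orderOf (cj e' (c : G)⁻¹) = 3 := by rw [cj, CfsgLib.Invol.orderOf_conj_eq, orderOf_inv, hc3]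
    have m1 : cj e' (c : G)⁻¹ ∈ M := mul_mem (mul_mem he'M (inv_mem hcM)) (inv_mem he'M)
    constructor
    · rw [← hee]
      exact mul_mem (hN3 _ hcM hc3) (hN3 _ m1 o1)
    · rw [← hee, cj_prod]
      exact mul_mem
        (hN3 _ (mul_mem (mul_mem H.u_mem hcM) (inv_mem H.u_mem)) (by rw [cj, CfsgLib.Invol.orderOf_conj_eq, hc3]))
        (hN3 _ (mul_mem (mul_mem H.u_mem m1) (inv_mem H.u_mem)) (by rw [cj, CfsgLib.Invol.orderOf_conj_eq, o1]))
  have huN : u ∈ normalizer (S : Set G) := by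
    obtain ⟨e, he, heV⟩ := H.exists_E_not_V
    obtain ⟨v, hv, e₁, he₁, d, hd, e₂, he₂, hfe⟩ := H.bruhat_f he heV
    have hdN : d⁻¹ ∈ normalizer (S : Set G) := by
      by_cases hd1 : d = 1
      · rw [hd1, inv_one]; exact one_mem _
      exact inv_mem (hN3 d (H.D_le hd) (hord d hd hd1))
    have : u = (v * e₁ * d⁻¹)⁻¹ * cj u e * e₂⁻¹ := by rw [hfe]; group
    rw [this]
    exact mul_mem (mul_mem (inv_mem (mul_mem (mul_mem (hVN v hv) (hEN e₁ he₁).1) hdN)) (hEN e he).2)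
      (inv_mem (hEN e₂ he₂).1)
  intro v hv
  obtain ⟨z₁, hz₁, w, hw, rfl⟩ := H.V_decomp h hv
  exact (S.mul_mem (hZ z₁ hz₁) ((mem_normalizer_iff.1 huN w).1 (hZ w hw))).2

/-- The configuration has no fixed-point-free module. -/
theorem Second.noFpf (h : IsCIT G) (S : Second q M X V E T D u u') : NoFpf G := by
  obtain rfl : q = 4 := S.q_eq_four h
  intro W _ _ hW φ hφ
  have HL := S.left
  have hab : ∀ a b : W, a * b = b * a := fun a b =>
    comm_of_sq (E := (⊤ : Subgroup W)) (fun x _ => hW x) (mem_top a) (mem_top b)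
  haveI : Nontrivial (V ⊓ E : Subgroup G) :=
    Finite.one_lt_card_iff_nontrivial.1 (by rw [HL.card_inf]; norm_num)
  obtain ⟨⟨z, hz⟩, hz'⟩ := exists_ne (1 : ↥(V ⊓ E))
  have hz1 : z ≠ 1 := fun e => hz' (Subtype.ext e)
  obtain ⟨e, he, heV⟩ := HL.exists_E_not_V
  obtain ⟨hodd, hne⟩ := HL.odd_ef h he heV
  set x := e * cj u e with hxdef
  have hxM : x ∈ M := mul_mem (HL.E_le_M he) (HL.f_mem he)
  have hee : φ e * φ e = 1 := by rw [← map_mul, HL.E_elem e he, map_one]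
  have hei : e⁻¹ = e := inv_eq_of_mul_eq_one_right (HL.E_elem e he)
  obtain ⟨-, hhalf⟩ := half hφ hab hee hodd hne (by
    congr 1
    rw [hxdef, mul_inv_rev, hei, ← mul_assoc, HL.E_elem e he, one_mul,
      show (cj u e)⁻¹ = cj u e⁻¹ by simp only [cj]; group, hei])
  have hV := HL.fix_le h hφ hz hz1
  have hE := S.right.fix_le h hφ (show z ∈ E ⊓ V from ⟨hz.2, hz.1⟩) hz1
  have hsub : ∀ w ∈ fixSub φ z, φ x⁻¹ w ∈ fixSub φ z := by
    intro w hw
    have hxz : cj x z ∈ V := HL.V_conj hxM hz.1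
    refine (fixSub_conj (φ := φ) (g := x)).1 ?_
    rw [← MulAut.mul_apply, ← map_mul, mul_inv_cancel, map_one, MulAut.one_apply]
    exact hV _ hxz hw
  have hC1 : ∀ w ∈ fixSub φ z, w = 1 := by
    intro w hw
    have hw' : φ x⁻¹ w ∈ fixSub φ e := hE e he (hsub w hw)
    have := hhalf _ hw' (by
      rw [← MulAut.mul_apply, ← map_mul, mul_inv_cancel, map_one, MulAut.one_apply]; exact hE e he hw)
    exact (φ x⁻¹).injective (this.trans (map_one _).symm)
  refine subsingleton_of_forall_eq 1 fun w => hC1 w ?_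
  rw [mem_fixSub]
  have hzz : φ z (φ z w) = w := by rw [← MulAut.mul_apply, ← map_mul, HL.V_elem z hz.1, map_one, MulAut.one_apply]
  have h1 : w * φ z w = 1 := hC1 _ (by rw [mem_fixSub, map_mul, hzz, hab])
  rw [← inv_eq_of_mul_eq_one_right h1, inv_eq_of_mul_eq_one_right (hW w)]

end CfsgLib.CIT
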