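import Cfsg.Agent.CITGroups.Main
import Cfsg.Agent.CITGroups.PSLList
import Cfsg.Agent.CITGroups.Iso
import Cfsg.Agent.CITGroups.QFour
import Cfsg.Agent.CITGroups.Plane
import Cfsg.Agent.S0340

/-!
# Simple groups in which every involution centraliser is a 2-group
-/

set_option autoImplicit false

universe u

namespace CfsgLib.CIT

theorem noFpf_of_second (G : Type u) [Group G] [Finite G] (h : IsCIT G)
    (q : ℕ) (M X V E T D : Subgroup G) (w w' : G) (S : Second q M X V E T D w w') : NoFpf G :=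
  S.noFpf h

theorem classification {G : Type u} [Group G] [Finite G] [IsSimpleGroup G] (h : IsCIT G)
    (hns : ¬ Group.IsSolvable G) :
    (∃ (F : Type) (_ : Field F) (_ : Fintype F),
        (Fintype.card F = 9 ∨ (∃ n : ℕ, Fintype.card F = 2 ^ n) ∨
          ((Fintype.card F).Prime ∧ ∃ k : ℕ, Fintype.card F = 2 ^ k + 1 ∨ Fintype.card F + 1 = 2 ^ k)) ∧
        Nonempty (G ≃* Matrix.ProjectiveSpecialLinearGroup (Fin 2) F)) ∨
    (∃ (F : Type) (_ : Field F) (_ : Fintype F), Fintype.card F = 4 ∧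
        Nonempty (G ≃* Matrix.ProjectiveSpecialLinearGroup (Fin 3) F)) ∨
    Cfsg.IsSuzuki G := by
  rcases outcome noFpf_of_second h hns with ⟨K, T, D, w, Z⟩ | ⟨-, F, hf, hfi, -, he⟩ | ⟨hse, q, M, X, V, E, T, D, w, w', hS⟩
  · rcases Cfsg.Agent.S0340.result Z.isZassenhaus with ⟨F, hf, hfi, he⟩ | hsz
    · exact Or.inl ⟨F, hf, hfi, psl_list h hns F he, he⟩
    · exact Or.inr (Or.inr hsz)
  · exact Or.inl ⟨F, hf, hfi, psl_list h hns F he, he⟩
  · exact Or.inr (Or.inl (hS.exists_psl h hse))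

theorem simple_cit {G : Type u} [Group G] [Finite G] [IsSimpleGroup G] (h : IsCIT G)
    (hns : ¬ Group.IsSolvable G) :
    (∃ (F : Type) (_ : Field F) (_ : Fintype F),
        (Fintype.card F = 9 ∨ (∃ n : ℕ, Fintype.card F = 2 ^ n) ∨
          ((Fintype.card F).Prime ∧ ∃ k : ℕ, Fintype.card F = 2 ^ k + 1 ∨ Fintype.card F + 1 = 2 ^ k)) ∧
        Nonempty (G ≃* Matrix.ProjectiveSpecialLinearGroup (Fin 2) F)) ∨
    (∃ (F : Type) (_ : Field F) (_ : Fintype F), Fintype.card F = 4 ∧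
        Nonempty (G ≃* Matrix.ProjectiveSpecialLinearGroup (Fin 3) F)) ∨
    Cfsg.Lie.IsoSuzuki G := by
  rcases outcome noFpf_of_second h hns with ⟨K, T, D, w, Z⟩ | ⟨-, F, hf, hfi, -, he⟩ | ⟨hse, q, M, X, V, E, T, D, w, w', hS⟩
  · rcases Z.psl_or_isoSuzuki with ⟨F, hf, hfi, ⟨n, -, hn⟩, he⟩ | hsz
    · exact Or.inl ⟨F, hf, hfi, Or.inr (Or.inl ⟨n, hn⟩), he⟩
    · exact Or.inr (Or.inr hsz)
  · exact Or.inl ⟨F, hf, hfi, psl_list h hns F he, he⟩
  · exact Or.inr (Or.inl (hS.exists_psl h hse))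

end CfsgLib.CIT
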