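import Cfsg.Agent.CITGroups.Config
import Cfsg.Agent.CITGroups.Strong

/-!
# From a simple normal subgroup to the whole CIT group
-/

set_option autoImplicit false
set_option linter.style.haveILetI false
set_option linter.unusedSectionVars false

namespace CfsgLib.CIT

open Subgroup

universe u

variable {X : Type u} [Group X] [Finite X]

theorem map_pCore_normal (N : Subgroup X) [N.Normal] : ((Cfsg.pCore 2 N).map N.subtype).Normal := by
  haveI : (Cfsg.pCore 2 N).Normal := CfsgLib.Solvable.pCore_normal 2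
  refine ⟨fun x hx g => ?_⟩
  obtain ⟨y, hy, rfl⟩ := hx
  have hle : (Cfsg.pCore 2 N).map (MulAut.conjNormal g : MulAut N).toMonoidHom ≤ Cfsg.pCore 2 N :=
    CfsgLib.Solvable.le_pCore 2 (Normal.map inferInstance _ (MulAut.conjNormal g : MulAut N).surjective)
      ((CfsgLib.Solvable.isPGroup_pCore 2).map _)
  exact ⟨_, hle (mem_map_of_mem _ hy), MulAut.conjNormal_apply g y⟩

theorem pCore_eq_bot_of_normal (h2 : Cfsg.pCore 2 X = ⊥) (N : Subgroup X) [N.Normal] :
    Cfsg.pCore 2 N = ⊥ := by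
  haveI := map_pCore_normal N
  refine (map_eq_bot_iff_of_injective _ N.subtype_injective).1 (le_bot_iff.1 (h2 ▸ ?_))
  exact CfsgLib.Solvable.le_pCore 2 (map_pCore_normal N) ((CfsgLib.Solvable.isPGroup_pCore 2).map _)

/-- A minimal normal subgroup of a nonsolvable CIT group with trivial 2-core is not solvable. -/
theorem IsCIT.not_solvable_minimal (h : IsCIT X) (hns : ¬ Group.IsSolvable X) (h2 : Cfsg.pCore 2 X = ⊥)
    {N : Subgroup X} [N.Normal] (hN : N ≠ ⊥) (hmin : ∀ K : Subgroup X, K.Normal → K ≤ N → K = ⊥ ∨ K = N) :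
    ¬ Group.IsSolvable N := by
  intro hs
  obtain ⟨-, p, hp, -, hpN⟩ := CfsgLib.Solvable.minimal_normal_elementary hN hmin hs
  by_cases hp2 : p = 2
  · exact hN (le_bot_iff.1 (h2 ▸ CfsgLib.Solvable.le_pCore 2 inferInstance (hp2 ▸ hpN)))
  · haveI := Fact.mk hp
    obtain ⟨a, b, ha, hb, hab, hc⟩ := h.exists_klein hns
    have hodd : Odd (Nat.card N) := by
      obtain ⟨k, hk⟩ := hpN.exists_card_eq
      rw [hk]
      exact (hp.odd_of_ne_two hp2).pow
    exact hN (h.eq_bot_of_klein hodd ha hb hab hc (normalizer_eq_top (H := N) ▸ mem_top a)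
      (normalizer_eq_top (H := N) ▸ mem_top b))

/-- A nonsolvable CIT group with trivial 2-core has a simple nonsolvable normal subgroup. -/
theorem IsCIT.exists_simple_normal (h : IsCIT X) (hns : ¬ Group.IsSolvable X) (h2 : Cfsg.pCore 2 X = ⊥) :
    ∃ N : Subgroup X, N.Normal ∧ IsSimpleGroup N ∧ ¬ Group.IsSolvable N := by
  haveI : Nontrivial X := not_subsingleton_iff_nontrivial.1 fun hs => hns inferInstance
  obtain ⟨N, hNn, hN1, -, hmin⟩ := CfsgLib.Solvable.exists_minimal_normal_le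
    (N := (⊤ : Subgroup X)) top_ne_bot
  haveI := hNn
  have hNs := h.not_solvable_minimal hns h2 hN1 hmin
  refine ⟨N, hNn, ?_, hNs⟩
  haveI : Nontrivial N := (nontrivial_iff_ne_bot N).2 hN1
  obtain ⟨L, hLn, hL1, -, hLmin⟩ := CfsgLib.Solvable.exists_minimal_normal_le
    (N := (⊤ : Subgroup N)) top_ne_bot
  haveI := hLn
  have hN2 := pCore_eq_bot_of_normal h2 N
  have hLs := (h.subgroup N).not_solvable_minimal hNs hN2 hL1 hLmin
  suffices hLtop : L = ⊤ by
    refine ⟨fun K hK => ?_⟩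
    rcases hLmin K hK (hLtop.symm ▸ le_top) with e | e
    · exact Or.inl e
    · exact Or.inr (e.trans hLtop)
  by_contra hLtop
  -- two different conjugates of `L` commute
  obtain ⟨g, hg⟩ : ∃ g : X, L.map (MulAut.conjNormal g : MulAut N).toMonoidHom ≠ L := by
    by_contra hall
    push Not at hall
    haveI : (L.map N.subtype).Normal := ⟨fun x hx g => by
      obtain ⟨y, hy, rfl⟩ := hx
      refine ⟨(MulAut.conjNormal g : MulAut N) y, ?_, MulAut.conjNormal_apply g y⟩
      have hm := mem_map_of_mem (MulAut.conjNormal g : MulAut N).toMonoidHom hy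
      rwa [hall g] at hm⟩
    rcases hmin _ inferInstance (map_subtype_le L) with e | e
    · exact hL1 ((map_eq_bot_iff_of_injective _ N.subtype_injective).1 e)
    · refine hLtop (map_injective N.subtype_injective ?_)
      rw [e, ← MonoidHom.range_eq_map, range_subtype]
  set σ : MulAut N := MulAut.conjNormal g
  set L' := L.map σ.toMonoidHom
  haveI : L'.Normal := Normal.map hLn _ σ.surjective
  have hcom : ∀ x ∈ L, ∀ y ∈ L', Commute x y := by
    have hdisj : L ⊓ L' = ⊥ := by
      refine (hLmin _ inferInstance inf_le_left).resolve_right fun e => hg ?_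
      have hle : L ≤ L' := inf_eq_left.1 e
      refine (eq_of_le_of_card_ge hle ?_).symm
      rw [card_map_of_injective (f := σ.toMonoidHom) σ.injective]
    exact fun x hx y hy => commute_of_normal_of_disjoint L L' inferInstance inferInstance
      (disjoint_iff.2 hdisj) x y hx hy
  obtain ⟨t, htL, ht⟩ : ∃ t ∈ L, orderOf t = 2 := by
    by_contra hcon
    push Not at hcon
    exact hLs (CfsgLib.OddEnd.odd_solvable L (odd_card_of_no_invol hcon))
  refine hLs ?_
  have hL2 : IsPGroup 2 L' := isPGroup_of_no_odd fun y hy hyo =>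
    (h.subgroup N).eq_one_of_commute ht (hcom t htL y hy) hyo
  haveI : Fact (Nat.Prime 2) := ⟨Nat.prime_two⟩
  have hL2' : IsPGroup 2 L := hL2.of_equiv (L.equivMapOfInjective σ.toMonoidHom σ.injective).symm
  haveI := hL2'.isNilpotent
  infer_instance

/-- If the simple normal subgroup has a strongly embedded subgroup, so has the whole group. -/
theorem IsCIT.strong_of_normal (h : IsCIT X) (h2 : Cfsg.pCore 2 X = ⊥) {N : Subgroup X} [N.Normal]
    (hNs : ¬ Group.IsSolvable N) {K : Subgroup N} (hK : Cfsg.IsStronglyEmbedded K) :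
    ∃ K' : Subgroup X, Cfsg.IsStronglyEmbedded K' := by
  haveI : Fact (Nat.Prime 2) := ⟨Nat.prime_two⟩
  obtain ⟨a, b, ha, hb, hab, hc⟩ := (h.subgroup N).exists_klein hNs
  obtain ⟨T, D, w, Z⟩ := exists_zdata (h.subgroup N) hK ha hb hab hc
  obtain ⟨s, hsK, hs⟩ := CfsgLib.StrongEmbed.exists_invol hK
  have hsT : s ∈ T := (Z.central s hsK hs).1
  set TX := T.map N.subtype
  set Kb := normalizer (TX : Set X)
  have hKb : ∀ x : N, (x : X) ∈ Kb ↔ x ∈ K := fun x => by
    rw [Z.K_eq, mem_normalizer_iff, mem_normalizer_iff]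
    constructor
    · intro hh y
      have := hh y
      exact ((mem_map_iff_mem (K := T) N.subtype_injective).symm.trans this).trans
        (mem_map_iff_mem (K := T) (x := x * y * x⁻¹) N.subtype_injective)
    · intro hh y
      constructor
      · rintro ⟨y', hy', rfl⟩
        exact ⟨_, (hh y').1 hy', rfl⟩
      · rintro ⟨y', hy', e⟩
        refine ⟨x⁻¹ * y' * x, (hh _).2 (by simpa [mul_assoc] using hy'), ?_⟩
        show (x : X)⁻¹ * (y' : X) * x = y
        rw [show (y' : X) = x * y * (x : X)⁻¹ from e]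
        group
  refine ⟨Kb, fun e => ?_, ?_, fun g hg => odd_card_of_no_invol fun i hi hi2 => ?_⟩
  · haveI : TX.Normal := normalizer_eq_top_iff.1 e
    have := CfsgLib.Solvable.le_pCore 2 (inferInstance : TX.Normal) (Z.two.map _) (mem_map_of_mem N.subtype hsT)
    rw [h2, mem_bot] at this
    exact CfsgLib.Invol.ne_one hs (Subtype.ext this)
  · refine even_iff_two_dvd.2 (hs ▸ orderOf_coe s ▸ Subgroup.orderOf_dvd_natCard Kb (le_normalizer ?_))
    exact mem_map_of_mem N.subtype hsT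
  rw [CfsgLib.StrongEmbed.mem_inf_conj_iff] at hi
  obtain ⟨hiK, hiK'⟩ := hi
  -- `g` moves `TX` as some element of `N` does
  obtain ⟨n, hn⟩ : ∃ n : N, (n : X)⁻¹ * g ∈ Kb := by
    set σ : MulAut N := MulAut.conjNormal g
    have hT2 : IsPGroup 2 (T.map σ.toMonoidHom) := Z.two.map _
    obtain ⟨P, hP⟩ := hT2.exists_le_sylow
    let S : Sylow 2 N := ⟨T, Z.two, fun {Q} hQ hTQ => Z.sylow Q hQ hTQ⟩
    obtain ⟨n, hn⟩ := MulAction.exists_smul_eq N S P
    have hPe : (P : Subgroup N) = T.map (MulAut.conj n).toMonoidHom := by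
      rw [← hn, Sylow.coe_subgroup_smul, Subgroup.pointwise_smul_def]
      rfl
    have heq : T.map σ.toMonoidHom = T.map (MulAut.conj n).toMonoidHom := by
      rw [← hPe]
      refine eq_of_le_of_card_ge hP (le_of_eq ?_)
      rw [hPe, card_map_of_injective (f := σ.toMonoidHom) σ.injective,
        card_map_of_injective (f := (MulAut.conj n).toMonoidHom) (MulAut.conj n).injective]
    refine ⟨n, mem_normalizer_iff_map_conj_eq.2 (le_antisymm ?_ ?_)⟩
    · rintro _ ⟨_, ⟨t, ht, rfl⟩, rfl⟩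
      obtain ⟨t', ht', e⟩ := (heq ▸ mem_map_of_mem σ.toMonoidHom ht : σ t ∈ T.map (MulAut.conj n).toMonoidHom)
      refine ⟨t', ht', ?_⟩
      have e' : (n : X) * t' * (n : X)⁻¹ = g * t * g⁻¹ :=
        (congrArg Subtype.val e).trans (MulAut.conjNormal_apply g t)
      show (t' : X) = (n : X)⁻¹ * g * (t : X) * ((n : X)⁻¹ * g)⁻¹
      calc (t' : X) = (n : X)⁻¹ * ((n : X) * t' * (n : X)⁻¹) * n := by group
        _ = _ := by rw [e']; group
    · rintro _ ⟨t, ht, rfl⟩
      obtain ⟨t', ht', e⟩ :=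
        (heq.symm ▸ mem_map_of_mem (MulAut.conj n).toMonoidHom ht : MulAut.conj n t ∈ T.map σ.toMonoidHom)
      refine ⟨t', mem_map_of_mem _ ht', ?_⟩
      have e' : g * t' * g⁻¹ = (n : X) * t * (n : X)⁻¹ :=
        (MulAut.conjNormal_apply g t').symm.trans (congrArg Subtype.val e)
      show (n : X)⁻¹ * g * (t' : X) * ((n : X)⁻¹ * g)⁻¹ = (t : X)
      calc (n : X)⁻¹ * g * (t' : X) * ((n : X)⁻¹ * g)⁻¹ = (n : X)⁻¹ * (g * t' * g⁻¹) * n := by group
        _ = _ := by rw [e']; group
  have hnK : n ∉ K := fun hh => hg (by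
    have := Kb.mul_mem ((hKb n).2 hh) hn
    rwa [mul_inv_cancel_left] at this)
  have hin : (n : X)⁻¹ * i * n ∈ Kb := by
    have := Kb.mul_mem (Kb.mul_mem hn hiK') (Kb.inv_mem hn)
    simpa [mul_assoc] using this
  have hii : i⁻¹ = i := CfsgLib.Invol.inv_eq_self hi2
  by_cases hiN : i ∈ N
  · refine hnK (CfsgLib.StrongEmbed.mem_of_conj_mem hK (s := ⟨i, hiN⟩) ((hKb _).1 hiK)
      (by rw [← orderOf_coe]; exact hi2) ((hKb _).1 hin))
  obtain ⟨v, hv, hvK, hvinv, d, hdK, hd1, hdo, hdK'⟩ := Z.pair n hnK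
  set A := (K ⊓ K.map (MulAut.conj n).toMonoidHom).map N.subtype
  have hAodd : Odd (Nat.card A) := by
    rw [card_map_of_injective N.subtype_injective]
    exact hK.2.2 n hnK
  have hAmem : ∀ x : N, (x : X) ∈ A ↔ x ∈ K ∧ n⁻¹ * x * n ∈ K := fun x =>
    (mem_map_iff_mem N.subtype_injective).trans CfsgLib.StrongEmbed.mem_inf_conj_iff
  have hnorm : ∀ x ∈ A, i * x * i⁻¹ ∈ A := by
    rintro _ ⟨x, hx, rfl⟩
    obtain ⟨hx1, hx2⟩ := CfsgLib.StrongEmbed.mem_inf_conj_iff.1 hx
    set y : N := MulAut.conjNormal i x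
    have hy : (y : X) = i * x * i⁻¹ := MulAut.conjNormal_apply i x
    show i * (x : X) * i⁻¹ ∈ A
    rw [← hy, hAmem]
    refine ⟨(hKb _).1 ?_, (hKb _).1 ?_⟩
    · rw [hy]; exact Kb.mul_mem (Kb.mul_mem hiK ((hKb _).2 hx1)) (Kb.inv_mem hiK)
    · show (n : X)⁻¹ * (y : X) * n ∈ Kb
      have := Kb.mul_mem (Kb.mul_mem hin ((hKb _).2 hx2)) (Kb.inv_mem hin)
      rw [hy]
      convert this using 1
      push_cast
      group
  have hiA : i ∈ normalizer (A : Set X) := mem_normalizer_iff.2 fun x => ⟨hnorm x, fun hx => by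
    have := hnorm _ hx
    rwa [hii, show i * (i * x * i) * i = (i * i) * x * (i * i) by group,
      CfsgLib.Invol.mul_self_eq_one hi2, one_mul, mul_one] at this⟩
  have e1 : i * (d : X) * i⁻¹ = (d : X)⁻¹ := h.inverts hAodd hi2 hiA ((hAmem d).2 ⟨hdK, hdK'⟩)
  have e2 : (v : X) * d * (v : X)⁻¹ = (d : X)⁻¹ := congrArg Subtype.val (hvinv d hdK hdK')
  set x := i * (v : X) with hx
  have hxd : Commute x d := mul_inv_eq_iff_eq_mul.1 (by
    rw [hx, show i * (v : X) * d * (i * (v : X))⁻¹ = i * ((v : X) * d * (v : X)⁻¹) * i⁻¹ by group, e2,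
      show i * (d : X)⁻¹ * i⁻¹ = (i * d * i⁻¹)⁻¹ by group, e1, inv_inv])
  rcases h.odd_or_two_pow x with hxo | ⟨k, hk⟩
  · have hx2 : x * x ∈ N := by
      rw [hx, show i * (v : X) * (i * (v : X)) = i * v * i⁻¹ * v by rw [hii]; group]
      exact N.mul_mem (Normal.conj_mem inferInstance _ v.2 i) v.2
    obtain ⟨j, hj⟩ := hxo
    have hxN : x ∈ N := by
      have e : x = (x * x) ^ (j + 1) := by
        rw [← pow_two, ← pow_mul, show 2 * (j + 1) = orderOf x + 1 by omega, pow_succ, pow_orderOf_eq_one,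
          one_mul]
      rw [e]
      exact pow_mem hx2 _
    refine hiN ?_
    have := N.mul_mem hxN (N.inv_mem v.2)
    rwa [hx, mul_inv_cancel_right] at this
  · have hx1 : x ≠ 1 := fun e => hiN (by
      rw [mul_eq_one_iff_eq_inv.1 e]
      exact N.inv_mem v.2)
    exact hd1 (Subtype.ext (h.eq_one_of_commute' hx1 (hk ▸ pow_orderOf_eq_one x) hxd
      (by rwa [orderOf_coe])))

/-- A nonsolvable CIT group with trivial 2-core has a strongly embedded subgroup or no fixed-point-free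
module, if this holds for its simple normal subgroups. -/
theorem IsCIT.lift (h : IsCIT X) (hns : ¬ Group.IsSolvable X) (h2 : Cfsg.pCore 2 X = ⊥)
    (hsimple : ∀ N : Subgroup X, IsSimpleGroup N → ¬ Group.IsSolvable N →
      (∃ K : Subgroup N, Cfsg.IsStronglyEmbedded K) ∨ NoFpf N) :
    (∃ K : Subgroup X, Cfsg.IsStronglyEmbedded K) ∨ NoFpf X := by
  obtain ⟨N, hNn, hNs, hNns⟩ := h.exists_simple_normal hns h2
  haveI := hNn
  rcases hsimple N hNs hNns with ⟨K, hK⟩ | hno
  · exact Or.inl (h.strong_of_normal h2 hNns hK)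
  · exact Or.inr fun W _ _ hW φ hφ => hno W hW (φ.comp N.subtype) (hφ.comp _ N.subtype_injective)

end CfsgLib.CIT
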