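import Cfsg.Agent.CITGroups.Second
import Cfsg.Agent.Invol.BaerSuzuki

/-!
# Local analysis of a CIT group with a nonsolvable 2-local and no strongly embedded subgroup
-/

set_option autoImplicit false
set_option linter.style.haveILetI false
set_option linter.unusedSectionVars false

namespace CfsgLib.CIT

open Subgroup
open scoped Pointwise

universe u

variable {G : Type u} [Group G] [Finite G]

/-! ### Generalities -/

/-- A maximal nonsolvable 2-local. -/
theorem exists_max_local (hloc : ∃ R : Subgroup G, IsPGroup 2 R ∧ R ≠ ⊥ ∧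
      ¬ Group.IsSolvable (normalizer (R : Set G))) :
    ∃ M U : Subgroup G, IsPGroup 2 U ∧ U ≠ ⊥ ∧ M = normalizer (U : Set G) ∧ ¬ Group.IsSolvable M ∧
      (∀ N : Subgroup G, N ≤ M → (∀ m ∈ M, ∀ x ∈ N, m * x * m⁻¹ ∈ N) → IsPGroup 2 N → N ≤ U) ∧
      ∀ R : Subgroup G, IsPGroup 2 R → R ≠ ⊥ → M ≤ normalizer (R : Set G) → normalizer (R : Set G) = M := by
  classical
  haveI := Fintype.ofFinite (Subgroup G)
  obtain ⟨R₁, hR₁⟩ := hloc
  obtain ⟨R, hR, hmax⟩ := (Finset.univ.filter fun R : Subgroup G => IsPGroup 2 R ∧ R ≠ ⊥ ∧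
    ¬ Group.IsSolvable (normalizer (R : Set G))).exists_max_image
    (fun R => Nat.card (normalizer (R : Set G))) ⟨R₁, by simp [hR₁]⟩
  simp only [Finset.mem_filter, Finset.mem_univ, true_and] at hR hmax
  set M := normalizer (R : Set G)
  set U := (Cfsg.pCore 2 M).map M.subtype with hU
  haveI := CfsgLib.Solvable.pCore_normal (G := M) 2
  have hU2 : IsPGroup 2 U := (CfsgLib.Solvable.isPGroup_pCore 2).map _
  have hcore : ∀ N : Subgroup G, N ≤ M → (∀ m ∈ M, ∀ x ∈ N, m * x * m⁻¹ ∈ N) → IsPGroup 2 N → N ≤ U := by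
    intro N hNM hN hN2 x hx
    have hn : (N.subgroupOf M).Normal := ⟨fun y hy g => hN g g.2 y hy⟩
    exact ⟨⟨x, hNM hx⟩, CfsgLib.Solvable.le_pCore 2 hn (hN2.of_equiv (subgroupOfEquivOfLe hNM).symm) hx, rfl⟩
  have hMU : M ≤ normalizer (U : Set G) := fun g hg => mem_normalizer_of_conj_le (by
    rintro _ ⟨y, hy, rfl⟩
    exact ⟨⟨g, hg⟩ * y * ⟨g, hg⟩⁻¹, Normal.conj_mem inferInstance y hy _, rfl⟩)
  have hRU : R ≤ U :=
    hcore R le_normalizer (fun m hm x hx => (mem_normalizer_iff.1 hm x).1 hx) hR.1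
  have hU1 : U ≠ ⊥ := fun e => hR.2.1 (le_bot_iff.1 (e ▸ hRU))
  have hmaxl : ∀ S : Subgroup G, IsPGroup 2 S → S ≠ ⊥ → M ≤ normalizer (S : Set G) →
      normalizer (S : Set G) = M := fun S hS2 hS1 hle =>
    (eq_of_le_of_card_ge hle (hmax S ⟨hS2, hS1, not_solvable_of_le hle hR.2.2⟩)).symm
  exact ⟨M, U, hU2, hU1, (hmaxl U hU2 hU1 hMU).symm, hR.2.2, hcore, hmaxl⟩

theorem exists_sylow_in {M U : Subgroup G} (hUM : U ≤ M) (hU : IsPGroup 2 U) :
    ∃ T : Subgroup G, U ≤ T ∧ T ≤ M ∧ IsPGroup 2 T ∧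
      ∀ P : Subgroup G, P ≤ M → IsPGroup 2 P → T ≤ P → P = T := by
  obtain ⟨S, hS⟩ := (hU.of_equiv (subgroupOfEquivOfLe hUM).symm).exists_le_sylow
  refine ⟨(S : Subgroup M).map M.subtype, fun x hx => ⟨⟨x, hUM hx⟩, hS hx, rfl⟩, map_subtype_le _, S.2.map _,
    fun P hPM hP hle => ?_⟩
  have e := S.3 (hP.of_equiv (subgroupOfEquivOfLe hPM).symm) fun x hx => mem_subgroupOf.2 (hle ⟨x, hx, rfl⟩)
  rw [← e, map_subgroupOf_eq_of_le hPM]

theorem exists_normalizing {A P : Subgroup G} (hP : IsPGroup 2 P) (hlt : A < P) :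
    ∃ p ∈ P, p ∉ A ∧ p ∈ normalizer (A : Set G) := by
  haveI : Fact (Nat.Prime 2) := ⟨Nat.prime_two⟩
  haveI := hP.isNilpotent
  have hne : A.subgroupOf P < ⊤ := lt_top_iff_ne_top.2 fun e => hlt.not_ge fun x hx => by
    have : (⟨x, hx⟩ : P) ∈ A.subgroupOf P := e ▸ mem_top _
    exact this
  obtain ⟨p, hp, hpA⟩ := SetLike.exists_of_lt (normalizerCondition_of_isNilpotent (A.subgroupOf P) hne)
  refine ⟨p, p.2, hpA, mem_normalizer_of_conj_le fun x hx => ?_⟩
  exact (mem_normalizer_iff.1 hp ⟨x, hlt.le hx⟩).1 hx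

/-! ### Elementary abelian subgroups of maximal order -/

/-- An elementary abelian subgroup of `T` of maximal order. -/
def MaxElem (T A : Subgroup G) : Prop :=
  A ≤ T ∧ (∀ x ∈ A, x * x = 1) ∧ ∀ B : Subgroup G, B ≤ T → (∀ x ∈ B, x * x = 1) → Nat.card B ≤ Nat.card A

theorem exists_maxElem (T : Subgroup G) : ∃ A, MaxElem T A := by
  classical
  haveI := Fintype.ofFinite (Subgroup G)
  obtain ⟨A, hA, hmax⟩ := (Finset.univ.filter fun A : Subgroup G => A ≤ T ∧ ∀ x ∈ A, x * x = 1).exists_max_image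
    (fun A => Nat.card A) ⟨⊥, by simp⟩
  simp only [Finset.mem_filter, Finset.mem_univ, true_and] at hA hmax
  exact ⟨A, hA.1, hA.2, fun B hB hB2 => hmax B ⟨hB, hB2⟩⟩

/-- The Thompson subgroup. -/
def thompsonJ (T : Subgroup G) : Subgroup G := sSup {A | MaxElem T A}

theorem thompsonJ_le (T : Subgroup G) : thompsonJ T ≤ T := sSup_le fun _ hA => hA.1

theorem thompsonJ_ne_bot {T : Subgroup G} (hT : IsPGroup 2 T) (h1 : T ≠ ⊥) : thompsonJ T ≠ ⊥ := by
  obtain ⟨x, hxT, hx⟩ := exists_invol_of_isPGroup hT h1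
  obtain ⟨A, hA⟩ := exists_maxElem T
  intro e
  have hAb : A = ⊥ := le_bot_iff.1 (e ▸ le_sSup (show A ∈ {A | MaxElem T A} from hA))
  have := hA.2.2 (zpowers x) (zpowers_le.2 hxT) fun y hy => by
    obtain ⟨k, rfl⟩ := mem_zpowers_iff.1 hy
    rw [← zpow_add, ← two_mul, zpow_mul, zpow_two, CfsgLib.Invol.mul_self_eq_one hx, one_zpow]
  rw [Nat.card_zpowers, hx, hAb, card_bot] at this
  omega

theorem mem_normalizer_thompsonJ {T : Subgroup G} {g : G}
    (hg : ∀ A, MaxElem T A → ∀ x ∈ A, g * x * g⁻¹ ∈ T) : g ∈ normalizer (thompsonJ T : Set G) := by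
  refine mem_normalizer_of_conj_le fun x hx => ?_
  have hle : thompsonJ T ≤ (thompsonJ T).comap (MulAut.conj g).toMonoidHom := sSup_le fun A hA y hy => by
    have hmem : MaxElem T (A.map (MulAut.conj g).toMonoidHom) := by
      refine ⟨?_, ?_, fun B hB hB2 => ?_⟩
      · rintro _ ⟨z, hz, rfl⟩; exact hg A hA z hz
      · rintro _ ⟨z, hz, rfl⟩
        rw [← map_mul, hA.2.1 z hz, map_one]
      · rw [card_map_of_injective (f := (MulAut.conj g).toMonoidHom) (MulAut.conj g).injective]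
        exact hA.2.2 B hB hB2
    exact le_sSup (show A.map _ ∈ {A | MaxElem T A} from hmem) (mem_map_of_mem _ hy)
  exact hle hx

theorem normalizer_le_thompsonJ (T : Subgroup G) :
    normalizer (T : Set G) ≤ normalizer (thompsonJ T : Set G) := fun g hg =>
  mem_normalizer_thompsonJ fun _ hA x hx => (mem_normalizer_iff.1 hg x).1 (hA.1 hx)

theorem le_normalizer_thompsonJ_of_le {T U M : Subgroup G} (hM : M ≤ normalizer (U : Set G)) (hUT : U ≤ T)
    (hall : ∀ A, MaxElem T A → A ≤ U) : M ≤ normalizer (thompsonJ T : Set G) := fun g hg =>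
  mem_normalizer_thompsonJ fun A hA x hx => hUT ((mem_normalizer_iff.1 (hM hg) x).1 (hall A hA hx))

/-! ### Facts at one 2-local -/

variable {M U T D : Subgroup G} {u : G} {q : ℕ}

theorem Loc.T_ne_bot (L : Loc M U T D u q) : T ≠ ⊥ := fun e => L.U_ne (le_bot_iff.1 (e ▸ L.U_le))

theorem Loc.cent_omegaZ' (L : Loc M U T D u q) (h : IsCIT G)
    (hmaxl : normalizer (omegaZ U : Set G) = M) {x : G} (hc : ∀ v ∈ omegaZ U, Commute x v) : x ∈ U :=
  L.cent_omegaZ h (hmaxl ▸ centralizer_le_normalizer _ (mem_centralizer_iff.2 fun v hv => (hc v hv).symm)) hc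

theorem Loc.tight_of_maxElem (L : Loc M U T D u q) (h : IsCIT G) {A : Subgroup G} (hA : MaxElem T A)
    (hAU : ¬ A ≤ U) :
    Loc.Tight M U T q ∧ (A ⊓ U = omegaZ U ⊓ centralizer (T : Set G)) ∧ Nat.card A = q ^ 2 ∧
      ∀ t ∈ T, ∃ e ∈ A, e⁻¹ * t ∈ U :=
  L.tight h hA.1 hA.2.1 hAU
    (hA.2.2 _ (sup_le (inf_le_right.trans L.U_le) ((omegaZ_le U).trans L.U_le)) (elem_inf_omegaZ hA.2.1))

theorem Loc.card_cent_U_sq (L : Loc M U T D u q) (h : IsCIT G) (ht : Loc.Tight M U T q) {e : G} (he : e ∈ T)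
    (heU : e ∉ U) : Nat.card (U ⊓ centralizer ({e} : Set G) : Subgroup G) ^ 2 = Nat.card U := by
  obtain ⟨x, hx, hxo, hx1, hex⟩ := L.exists_inverted e he heU (ht.sq e he)
  exact (h.card_cent_sq L.M_le L.U_two ht.abelian (L.T_le he) hx
    (fun w hw => ht.abelian _ (ht.sq e he) w hw) hxo hx1 (fun w hw => ht.abelian _ hex w hw)).1

/-- An abelian subgroup of `T` not inside `U` has order at most `q` times the square root of `|U|`. -/
theorem Loc.abelian_bound (L : Loc M U T D u q) (h : IsCIT G) (ht : Loc.Tight M U T q) {A : Subgroup G}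
    (hAT : A ≤ T) (hA : ∀ a ∈ A, ∀ b ∈ A, a * b = b * a) (hAU : ¬ A ≤ U) :
    Nat.card A * Nat.card A ≤ q * q * Nat.card U := by
  obtain ⟨a, ha, haU⟩ := SetLike.not_le_iff_exists.1 hAU
  set c := Nat.card (U ⊓ centralizer ({a} : Set G) : Subgroup G) with hc
  have hc2 : c ^ 2 = Nat.card U := L.card_cent_U_sq h ht (hAT ha) haU
  have h1 : Nat.card (A ⊓ U : Subgroup G) ≤ c := Nat.le_of_dvd Nat.card_pos (card_dvd_of_le fun x hx =>
    ⟨hx.2, mem_centralizer_self_iff.2 (hA a ha x hx.1)⟩)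
  have h2 := CfsgLib.Solvable.card_sup_mul_card_inf (A := A) (K := U) ((hAT.trans L.T_le).trans L.M_le)
  have h3 : Nat.card (A ⊔ U : Subgroup G) ≤ q * Nat.card U :=
    ht.card_T ▸ Nat.le_of_dvd Nat.card_pos (card_dvd_of_le (sup_le hAT L.U_le))
  have h4 : Nat.card A ≤ q * c := by
    refine Nat.le_of_mul_le_mul_right ?_ (Nat.card_pos (α := U))
    calc Nat.card A * Nat.card U = Nat.card (A ⊔ U : Subgroup G) * Nat.card (A ⊓ U : Subgroup G) := h2.symm
      _ ≤ q * Nat.card U * c := Nat.mul_le_mul h3 h1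
      _ = q * c * Nat.card U := by ring
  calc Nat.card A * Nat.card A ≤ q * c * (q * c) := Nat.mul_le_mul h4 h4
    _ = q * q * c ^ 2 := by ring
    _ = _ := by rw [hc2]

/-! ### The branch in which `N(T)` leaves `M` -/

theorem second_of_not_normalizer (h : IsCIT G) (hgood : Good G) (L : Loc M U T D u q)
    (hmaxl : ∀ R : Subgroup G, IsPGroup 2 R → R ≠ ⊥ → M ≤ normalizer (R : Set G) → normalizer (R : Set G) = M)
    {g : G} (hgT : g ∈ normalizer (T : Set G)) (hgM : g ∉ M) :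
    ∃ (q' : ℕ) (M' X V E' T' D' : Subgroup G) (w w' : G), Second q' M' X V E' T' D' w w' := by
  obtain ⟨A, hA, hAU⟩ : ∃ A, MaxElem T A ∧ ¬ A ≤ U := by
    by_contra hcon
    push Not at hcon
    refine hgM ?_
    rw [← hmaxl (thompsonJ T) (L.T_two.to_le (thompsonJ_le T)) (thompsonJ_ne_bot L.T_two L.T_ne_bot)
      (le_normalizer_thompsonJ_of_le L.M_le L.U_le hcon)]
    exact normalizer_le_thompsonJ T hgT
  obtain ⟨ht, -, hAq, -⟩ := L.tight_of_maxElem h hA hAU
  set E := U.map (MulAut.conj g).toMonoidHom with hE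
  have hEmem : ∀ x, x ∈ E ↔ g⁻¹ * x * g ∈ U := fun x =>
    ⟨by rintro ⟨y, hy, rfl⟩; simpa [mul_assoc] using hy, fun hx => ⟨_, hx, by simp [mul_assoc]⟩⟩
  have hgUE : ∀ x ∈ U, g * x * g⁻¹ ∈ E := fun x hx => ⟨x, hx, rfl⟩
  have hET : E ≤ T := by
    rintro _ ⟨x, hx, rfl⟩
    exact (mem_normalizer_iff.1 hgT x).1 (L.U_le hx)
  have hEc : Nat.card E = Nat.card U :=
    card_map_of_injective (f := (MulAut.conj g).toMonoidHom) (MulAut.conj g).injective
  have hEU : ¬ E ≤ U := fun hle => hgM (by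
    rw [L.M_eq]
    exact mem_normalizer_of_conj_le fun x hx => hle (hgUE x hx))
  have hEab : ∀ a ∈ E, ∀ b ∈ E, a * b = b * a := by
    rintro _ ⟨a, ha, rfl⟩ _ ⟨b, hb, rfl⟩
    rw [← map_mul, ← map_mul, ht.abelian a ha b hb]
  have hUV : ∀ x ∈ U, x * x = 1 := by
    have h1 := L.abelian_bound h ht hET hEab hEU
    rw [hEc] at h1
    have h2 : Nat.card U ≤ q * q := Nat.le_of_mul_le_mul_right h1 Nat.card_pos
    have h3 : omegaZ U = U := eq_of_le_of_card_ge (omegaZ_le U) (by rw [ht.card_V, pow_two]; exact h2)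
    exact fun x hx => omegaZ_sq (h3.symm ▸ hx : x ∈ omegaZ U)
  have hE2 : ∀ x ∈ E, x * x = 1 := by
    rintro _ ⟨y, hy, rfl⟩
    rw [← map_mul, hUV y hy, map_one]
  -- the conjugate 2-local
  have hX : ∀ y, y ∈ normalizer (E : Set G) ↔ g⁻¹ * y * g ∈ M := by
    intro y
    rw [L.M_eq]
    constructor
    · intro hy
      refine mem_normalizer_of_conj_le fun x hx => ?_
      have := (hEmem _).1 ((mem_normalizer_iff.1 hy _).1 (hgUE x hx))
      simpa [mul_assoc] using this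
    · intro hy
      refine mem_normalizer_of_conj_le fun x hx => ?_
      have := (mem_normalizer_iff.1 hy _).1 ((hEmem x).1 hx)
      exact (hEmem _).2 (by simpa [mul_assoc] using this)
  refine exists_second_of_pair h hgood L hUV hET hE2 hEU hEc.ge ?_ (fun t htT => (hX t).2 ?_)
    (fun N hN hNn hN2 x hx => ?_) fun P hP hP2 hTP => ?_
  · intro hs
    refine L.not_solvable ?_
    let f : M →* normalizer (E : Set G) :=
      { toFun := fun y => ⟨g * y * g⁻¹, (hX _).2 (by simp [mul_assoc])⟩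
        map_one' := Subtype.ext (by simp)
        map_mul' := fun a b => Subtype.ext (by simp [mul_assoc]) }
    haveI := hs
    exact Group.isSolvable_of_isSolvable_injective (f := f) fun a b e => Subtype.ext (by
      have e' : g * (a : G) * g⁻¹ = g * b * g⁻¹ := congrArg Subtype.val e
      exact mul_left_cancel (mul_right_cancel e'))
  · refine L.T_le ((mem_normalizer_iff.1 hgT _).2 ?_)
    rwa [show g * (g⁻¹ * t * g) * g⁻¹ = t by group]
  · set N' := N.map (MulAut.conj g⁻¹).toMonoidHom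
    have hN'mem : ∀ y ∈ N, g⁻¹ * y * g ∈ N' := fun y hy => ⟨y, hy, by simp⟩
    have hle : N' ≤ U := by
      refine L.U_core N' ?_ ?_ (hN2.map _)
      · rintro _ ⟨y, hy, rfl⟩
        simpa using (hX y).1 (hN hy)
      · rintro m hm _ ⟨y, hy, rfl⟩
        have hgm : g * m * g⁻¹ ∈ normalizer (E : Set G) := (hX _).2 (by simpa [mul_assoc] using hm)
        exact ⟨_, hNn _ hgm y hy, by simp [mul_assoc]⟩
    exact (hEmem x).2 (hle (hN'mem x hx))
  · set P' := P.map (MulAut.conj g⁻¹).toMonoidHom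
    have e : P' = T := by
      refine L.T_max P' ?_ (hP2.map _) fun t htT => ⟨g * t * g⁻¹, hTP ((mem_normalizer_iff.1 hgT t).1 htT),
        by simp [mul_assoc]⟩
      rintro _ ⟨y, hy, rfl⟩
      simpa using (hX y).1 (hP hy)
    refine (eq_of_le_of_card_ge hTP (le_of_eq ?_)).symm
    rw [← e, card_map_of_injective (f := (MulAut.conj g⁻¹).toMonoidHom) (MulAut.conj g⁻¹).injective]

/-! ### The branch in which `N(T)` lies in `M` -/

/-- An escaping 2-local: `R ≤ T`, `N(R) ⊄ M`, with `T ⊓ N(R)` Sylow in `N(R)` and of maximal order. -/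
structure Escape (M T R : Subgroup G) : Prop where
  ne_bot : R ≠ ⊥
  le_T : R ≤ T
  out : ¬ normalizer (R : Set G) ≤ M
  max : ∀ R' : Subgroup G, R' ≠ ⊥ → R' ≤ T → ¬ normalizer (R' : Set G) ≤ M →
    Nat.card (T ⊓ normalizer (R' : Set G) : Subgroup G) ≤ Nat.card (T ⊓ normalizer (R : Set G) : Subgroup G)
  sylow : ∀ P : Subgroup G, P ≤ normalizer (R : Set G) → IsPGroup 2 P →
    T ⊓ normalizer (R : Set G) ≤ P → P = T ⊓ normalizer (R : Set G)
  core : ∀ N : Subgroup G, N ≤ normalizer (R : Set G) →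
    (∀ m ∈ normalizer (R : Set G), ∀ x ∈ N, m * x * m⁻¹ ∈ N) → IsPGroup 2 N → N ≤ R

theorem conj_into (L : Loc M U T D u q) {P : Subgroup G} (hP : P ≤ M) (hP2 : IsPGroup 2 P) :
    ∃ m ∈ M, ∀ x ∈ P, m * x * m⁻¹ ∈ T := by
  haveI : Fact (Nat.Prime 2) := ⟨Nat.prime_two⟩
  obtain ⟨S, hS⟩ := (hP2.of_equiv (subgroupOfEquivOfLe hP).symm).exists_le_sylow
  let ST : Sylow 2 M := ⟨T.subgroupOf M, L.T_two.of_equiv (subgroupOfEquivOfLe L.T_le).symm,
    fun {Q} hQ hle => by
      have e := L.T_max (Q.map M.subtype) (map_subtype_le _) (hQ.map _)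
        (fun t ht => ⟨⟨t, L.T_le ht⟩, hle ht, rfl⟩)
      rw [show T.subgroupOf M = (Q.map M.subtype).subgroupOf M by rw [e]]
      exact (comap_map_eq_self_of_injective M.subtype_injective _).symm⟩
  obtain ⟨m, hm⟩ := MulAction.exists_smul_eq M S ST
  refine ⟨m, m.2, fun x hx => ?_⟩
  have hmem : (MulAut.conj m) ⟨x, hP hx⟩ ∈ (ST : Subgroup M) := by
    rw [← hm, Sylow.coe_subgroup_smul, Subgroup.pointwise_smul_def]
    exact mem_map_of_mem _ (hS (mem_subgroupOf.2 hx))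
  exact hmem

theorem exists_escape (L : Loc M U T D u q) (hM : M ≠ ⊤) (hP : normalizer (T : Set G) ≤ M)
    (hTsyl : ∀ P : Subgroup G, IsPGroup 2 P → T ≤ P → P = T) (hnse : ¬ ∃ K : Subgroup G, Cfsg.IsStronglyEmbedded K) :
    ∃ R, Escape M T R := by
  classical
  haveI : Fact (Nat.Prime 2) := ⟨Nat.prime_two⟩
  haveI := Fintype.ofFinite (Subgroup G)
  have hconjT : ∀ P : Subgroup G, P ≤ M → IsPGroup 2 P → P ≠ ⊥ → ∀ g, g ∈ normalizer (P : Set G) → g ∉ M →
      ∃ R, R ≠ ⊥ ∧ R ≤ T ∧ ¬ normalizer (R : Set G) ≤ M := by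
    intro P hP' hP2 hP1 g hg hgM
    obtain ⟨m, hm, hmT⟩ := conj_into L hP' hP2
    refine ⟨P.map (MulAut.conj m).toMonoidHom, fun e => hP1 ?_, ?_, fun hle => hgM ?_⟩
    · exact (map_eq_bot_iff_of_injective _ (MulAut.conj m).injective).1 e
    · rintro _ ⟨x, hx, rfl⟩; exact hmT x hx
    · have hmg : m * g * m⁻¹ ∈ normalizer (P.map (MulAut.conj m).toMonoidHom : Set G) := by
        refine mem_normalizer_of_conj_le ?_
        rintro _ ⟨x, hx, rfl⟩
        exact ⟨g * x * g⁻¹, (mem_normalizer_iff.1 hg x).1 hx, by simp [mul_assoc]⟩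
      have := M.mul_mem (M.mul_mem (M.inv_mem hm) (hle hmg)) hm
      simpa [mul_assoc] using this
  have hexR : ∃ R, R ≠ ⊥ ∧ R ≤ T ∧ ¬ normalizer (R : Set G) ≤ M := by
    by_contra hcon
    push Not at hcon
    have hall : ∀ P : Subgroup G, P ≤ M → IsPGroup 2 P → P ≠ ⊥ → normalizer (P : Set G) ≤ M := by
      intro P hP' hP2 hP1 g hg
      by_contra hgM
      obtain ⟨R, hR1, hRT, hR⟩ := hconjT P hP' hP2 hP1 g hg hgM
      exact hR (hcon R hR1 hRT)
    refine hnse ⟨M, hM, ?_, fun g hg => odd_card_of_no_invol fun i hi hi2 => hg ?_⟩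
    · obtain ⟨x, hx, hx2⟩ := exists_invol_of_isPGroup L.U_two L.U_ne
      exact even_iff_two_dvd.2 (hx2 ▸ Subgroup.orderOf_dvd_natCard M (L.U_le_M hx))
    set I := M ⊓ M.map (MulAut.conj g).toMonoidHom
    obtain ⟨P, hiP, hPI, hP2, hPmax⟩ := exists_sylow_in (M := I) (U := zpowers i) (zpowers_le.2 hi)
      (IsPGroup.of_card (n := 1) (by rw [Nat.card_zpowers, hi2, pow_one]))
    have hP1 : P ≠ ⊥ := fun e => CfsgLib.Invol.ne_one hi2 (mem_bot.1 (e ▸ hiP (mem_zpowers i)))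
    set P₀ := P.map (MulAut.conj g⁻¹).toMonoidHom
    have hP₀M : P₀ ≤ M := by
      rintro _ ⟨x, hx, rfl⟩
      simpa using (CfsgLib.StrongEmbed.mem_inf_conj_iff.1 (hPI hx)).2
    have hPmem : ∀ x ∈ P, g⁻¹ * x * g ∈ P₀ := fun x hx => ⟨x, hx, by simp⟩
    have hNI : normalizer (P : Set G) ≤ I := by
      intro y hy
      refine CfsgLib.StrongEmbed.mem_inf_conj_iff.2 ⟨hall P (fun x hx => (hPI hx).1) hP2 hP1 hy, ?_⟩
      refine hall P₀ hP₀M (hP2.map _)
        (fun e => hP1 ((map_eq_bot_iff_of_injective _ (MulAut.conj g⁻¹).injective).1 e)) ?_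
      refine mem_normalizer_of_conj_le ?_
      rintro _ ⟨x, hx, rfl⟩
      exact ⟨y * x * y⁻¹, (mem_normalizer_iff.1 hy x).1 hx, by simp [mul_assoc]⟩
    have hPsyl : ∀ Q : Subgroup G, IsPGroup 2 Q → P ≤ Q → Q = P := by
      intro Q hQ hle
      by_contra hne
      obtain ⟨y, hyQ, hyP, hyN⟩ := exists_normalizing hQ (lt_of_le_of_ne hle (Ne.symm hne))
      have h2 : IsPGroup 2 (P ⊔ zpowers y : Subgroup G) := hQ.to_le (sup_le hle (zpowers_le.2 hyQ))
      exact hyP (hPmax _ (sup_le hPI (zpowers_le.2 (hNI hyN))) h2 le_sup_left ▸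
        mem_sup_right (mem_zpowers y))
    have hcard : Nat.card P = Nat.card T := by
      obtain ⟨c, hc⟩ := MulAction.exists_smul_eq G
        (⟨P, hP2, fun {Q} h1 h2 => hPsyl Q h1 h2⟩ : Sylow 2 G) (⟨T, L.T_two, fun {Q} h1 h2 => hTsyl Q h1 h2⟩)
      have := congrArg (fun S : Sylow 2 G => Nat.card (S : Subgroup G)) hc
      simp only [Sylow.coe_subgroup_smul] at this
      rw [← this]
      exact Nat.card_congr (Subgroup.equivSMul (MulAut.conj c) P).toEquiv
    obtain ⟨m, hm, hmT⟩ := conj_into L (fun x hx => (hPI hx).1) hP2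
    obtain ⟨m', hm', hmT'⟩ := conj_into L hP₀M (hP2.map _)
    have hN : m' * g⁻¹ * m⁻¹ ∈ normalizer (T : Set G) := by
      have e1 : P.map (MulAut.conj m).toMonoidHom = T := eq_of_le_of_card_ge
        (by rintro _ ⟨x, hx, rfl⟩; exact hmT x hx)
        (by rw [card_map_of_injective (f := (MulAut.conj m).toMonoidHom) (MulAut.conj m).injective, hcard])
      refine mem_normalizer_of_conj_le fun t ht => ?_
      obtain ⟨x, hx, rfl⟩ := (e1.symm ▸ ht : t ∈ P.map (MulAut.conj m).toMonoidHom)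
      convert hmT' _ (hPmem x hx) using 1
      simp [mul_assoc]
    have := M.mul_mem (M.mul_mem (M.inv_mem hm') (hP hN)) hm
    simpa [mul_assoc] using M.inv_mem this
  -- maximal choice
  obtain ⟨R₁, hR₁⟩ := hexR
  set N₀ := Nat.card G + 1
  obtain ⟨R, hR, hmax⟩ := (Finset.univ.filter fun R : Subgroup G =>
      R ≠ ⊥ ∧ R ≤ T ∧ ¬ normalizer (R : Set G) ≤ M).exists_max_image
    (fun R => Nat.card (T ⊓ normalizer (R : Set G) : Subgroup G) * N₀ + Nat.card R)
    ⟨R₁, Finset.mem_filter.2 ⟨Finset.mem_univ _, hR₁⟩⟩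
  simp only [Finset.mem_filter, Finset.mem_univ, true_and] at hR hmax
  have hsmall : ∀ A : Subgroup G, Nat.card A < N₀ := fun A =>
    Nat.lt_succ_of_le (Nat.card_le_card_of_injective _ A.subtype_injective)
  have hmax1 : ∀ R' : Subgroup G, R' ≠ ⊥ → R' ≤ T → ¬ normalizer (R' : Set G) ≤ M →
      Nat.card (T ⊓ normalizer (R' : Set G) : Subgroup G) ≤
        Nat.card (T ⊓ normalizer (R : Set G) : Subgroup G) := by
    intro R' h1 h2 h3
    have := hmax R' ⟨h1, h2, h3⟩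
    have hs := hsmall R
    by_contra hlt
    push Not at hlt
    have := Nat.mul_le_mul_right N₀ hlt
    rw [Nat.succ_mul] at this
    omega
  set TR := T ⊓ normalizer (R : Set G) with hTR
  have hTR2 : IsPGroup 2 TR := L.T_two.to_le inf_le_left
  have hRTR : R ≤ TR := le_inf hR.2.1 le_normalizer
  have hsyl : ∀ P : Subgroup G, P ≤ normalizer (R : Set G) → IsPGroup 2 P → TR ≤ P → P = TR := by
    intro P hPX hP2 hle
    by_contra hne
    by_cases hTT : TR = T
    · exact hne (by rw [hTT]; exact hTsyl P hP2 (hTT ▸ hle))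
    obtain ⟨p, hpP, hpT, hpN⟩ := exists_normalizing hP2 (lt_of_le_of_ne hle (Ne.symm hne))
    have hNM : normalizer (TR : Set G) ≤ M := by
      by_contra hout
      obtain ⟨t, htT, htR, htN⟩ := exists_normalizing L.T_two (lt_of_le_of_ne inf_le_left hTT)
      have h1 := hmax1 TR (fun e => hR.1 (le_bot_iff.1 (e ▸ hRTR))) inf_le_left hout
      have e := eq_of_le_of_card_ge (show TR ≤ T ⊓ normalizer (TR : Set G) from
        le_inf inf_le_left le_normalizer) h1
      have hm : t ∈ T ⊓ normalizer (TR : Set G) := ⟨htT, htN⟩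
      rw [← e] at hm
      exact htR hm
    set P' := TR ⊔ zpowers p
    have hP'P : P' ≤ P := sup_le hle (zpowers_le.2 hpP)
    have hP'M : P' ≤ M := sup_le (inf_le_left.trans L.T_le) (zpowers_le.2 (hNM hpN))
    obtain ⟨m, hm, hmT⟩ := conj_into L hP'M (hP2.to_le hP'P)
    set R' := R.map (MulAut.conj m).toMonoidHom
    have h1 := hmax1 R' (fun e => hR.1 ((map_eq_bot_iff_of_injective _ (MulAut.conj m).injective).1 e))
      (by rintro _ ⟨x, hx, rfl⟩; exact hmT x (mem_sup_left (hRTR hx))) (fun hall => hR.2.2 fun g hg => ?_)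
    · have h2 : P'.map (MulAut.conj m).toMonoidHom ≤ T ⊓ normalizer (R' : Set G) := by
        rintro _ ⟨y, hy, rfl⟩
        refine ⟨hmT y hy, mem_normalizer_of_conj_le ?_⟩
        rintro _ ⟨x, hx, rfl⟩
        exact ⟨y * x * y⁻¹, (mem_normalizer_iff.1 (hPX (hP'P hy)) x).1 hx, by simp [mul_assoc]⟩
      have h3 := (Nat.le_of_dvd Nat.card_pos (card_dvd_of_le h2)).trans h1
      rw [card_map_of_injective (f := (MulAut.conj m).toMonoidHom) (MulAut.conj m).injective] at h3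
      exact hpT ((eq_of_le_of_card_ge (le_sup_left : TR ≤ P') h3).symm ▸ mem_sup_right (mem_zpowers p))
    · have hmg : m * g * m⁻¹ ∈ normalizer (R' : Set G) := by
        refine mem_normalizer_of_conj_le ?_
        rintro _ ⟨x, hx, rfl⟩
        exact ⟨g * x * g⁻¹, (mem_normalizer_iff.1 hg x).1 hx, by simp [mul_assoc]⟩
      have := M.mul_mem (M.mul_mem (M.inv_mem hm) (hall hmg)) hm
      simpa [mul_assoc] using this
  refine ⟨R, hR.1, hR.2.1, hR.2.2, hmax1, hsyl, fun N hNX hNn hN2 => ?_⟩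
  have hnN : normalizer (R : Set G) ≤ normalizer (N : Set G) := fun g hg =>
    mem_normalizer_of_conj_le (hNn g hg)
  have hNTR : N ≤ TR := by
    have h2 : IsPGroup 2 (TR ⊔ N : Subgroup G) :=
      hTR2.to_sup_of_normal_right' hN2 (inf_le_right.trans hnN)
    exact hsyl _ (sup_le inf_le_right hNX) h2 le_sup_left ▸ le_sup_right
  set Q := R ⊔ N
  have hQT : Q ≤ T := sup_le hR.2.1 (hNTR.trans inf_le_left)
  have hXQ : normalizer (R : Set G) ≤ normalizer (Q : Set G) := fun g hg => by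
    refine mem_normalizer_iff_map_conj_eq.2 ?_
    rw [Subgroup.map_sup, mem_normalizer_iff_map_conj_eq.1 hg, mem_normalizer_iff_map_conj_eq.1 (hnN hg)]
  have hQ1 : Q ≠ ⊥ := fun e => hR.1 (le_bot_iff.1 (e ▸ le_sup_left))
  have hout : ¬ normalizer (Q : Set G) ≤ M := fun hle => hR.2.2 (hXQ.trans hle)
  have e1 : T ⊓ normalizer (Q : Set G) = TR :=
    (eq_of_le_of_card_ge (inf_le_inf_left T hXQ) (hmax1 Q hQ1 hQT hout)).symm
  have := hmax Q ⟨hQ1, hQT, hout⟩
  rw [e1] at this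
  exact (eq_of_le_of_card_ge (le_sup_left : R ≤ Q) (Nat.le_of_add_le_add_left this)).symm ▸ le_sup_right

/-- The facts shared by the branches with `N(T) ≤ M`. -/
structure Ctx (M U T D : Subgroup G) (u : G) (q : ℕ) : Prop where
  loc : Loc M U T D u q
  maxl : ∀ R : Subgroup G, IsPGroup 2 R → R ≠ ⊥ → M ≤ normalizer (R : Set G) → normalizer (R : Set G) = M
  norm : normalizer (T : Set G) ≤ M
  sylow : ∀ P : Subgroup G, IsPGroup 2 P → T ≤ P → P = T

namespace Ctx

variable {R : Subgroup G}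

theorem omegaZ_norm (C : Ctx M U T D u q) : normalizer (omegaZ U : Set G) = M :=
  C.maxl _ C.loc.omegaZ_two (omegaZ_ne_bot C.loc.U_two C.loc.U_ne) C.loc.M_le_omegaZ

theorem cent_fixed (C : Ctx M U T D u q) (h : IsCIT G) {z : G}
    (hz : z ∈ omegaZ U ⊓ centralizer (T : Set G)) (hz1 : z ≠ 1) {g : G} (hg : Commute z g) : g ∈ T := by
  have hz2 := CfsgLib.Invol.orderOf_eq_two (omegaZ_sq hz.1) hz1
  have e := C.sylow _ (h z hz2) fun t ht =>
    mem_centralizer_self_iff.2 (show Commute z t from (mem_centralizer_iff.1 hz.2 t ht).symm)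
  exact e ▸ mem_centralizer_self_iff.2 hg

theorem cent_R_le (h : IsCIT G) (hR : Escape M T R) (hT2 : IsPGroup 2 T) {x : G}
    (hc : ∀ r ∈ R, Commute x r) : x ∈ R := by
  obtain ⟨i, hi, hi2⟩ := exists_invol_of_isPGroup (hT2.to_le hR.le_T) hR.ne_bot
  refine hR.core (centralizer (R : Set G)) (centralizer_le_normalizer _) (fun m hm y hy => ?_) ?_
    (mem_centralizer_iff.2 fun r hr => (hc r hr).symm.eq)
  · refine mem_centralizer_iff.2 fun w hw => ?_
    have hw' : m⁻¹ * w * m ∈ R := (mem_normalizer_iff.1 hm _).2 (by simpa [mul_assoc] using hw)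
    calc w * (m * y * m⁻¹) = m * (m⁻¹ * w * m * y) * m⁻¹ := by group
      _ = m * (y * (m⁻¹ * w * m)) * m⁻¹ := by rw [mem_centralizer_iff.1 hy _ hw']
      _ = m * y * m⁻¹ * w := by group
  · exact isPGroup_of_no_odd fun y hy hyo => h.eq_one_of_commute hi2 (mem_centralizer_iff.1 hy i hi) hyo

theorem fixed_le_R0 (C : Ctx M U T D u q) (h : IsCIT G) (hR : Escape M T R) :
    omegaZ U ⊓ centralizer (T : Set G) ≤ omegaZ R := fun z hz => by
  have hc : ∀ r ∈ R, Commute z r := fun r hr => (mem_centralizer_iff.1 hz.2 r (hR.le_T hr)).symm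
  exact ⟨cent_R_le h hR C.loc.T_two hc, omegaZ_sq hz.1, hc⟩

theorem sq_le_R0 (C : Ctx M U T D u q) (h : IsCIT G) (hR : Escape M T R) :
    q * q ≤ Nat.card (omegaZ R) := by
  obtain ⟨x, hxX, hxM⟩ := SetLike.not_le_iff_exists.1 hR.out
  set Z := omegaZ U ⊓ centralizer (T : Set G)
  have hint : ∀ a ∈ Z, x * a * x⁻¹ ∈ Z → a = 1 := by
    intro a ha hxa
    by_contra ha1
    refine hxM (C.norm (mem_normalizer_of_conj_le fun t ht => ?_))
    refine C.cent_fixed h hxa (fun e => ha1 (conj_eq_one_iff.1 e)) ?_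
    show x * a * x⁻¹ * (x * t * x⁻¹) = x * t * x⁻¹ * (x * a * x⁻¹)
    calc x * a * x⁻¹ * (x * t * x⁻¹) = x * (a * t) * x⁻¹ := by group
      _ = x * (t * a) * x⁻¹ := by rw [mem_centralizer_iff.1 ha.2 t ht]
      _ = _ := by group
  have hq := C.loc.q_le_fixed h
  refine (Nat.mul_le_mul hq hq).trans ?_
  rw [← Nat.card_prod]
  refine Nat.card_le_card_of_injective (fun p : Z × Z => (⟨(p.1 : G) * (x * p.2 * x⁻¹),
    mul_mem (C.fixed_le_R0 h hR p.1.2) (omegaZ_conj hxX (C.fixed_le_R0 h hR p.2.2))⟩ : omegaZ R)) ?_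
  intro p p' e
  have e1 : (p.1 : G) * (x * p.2 * x⁻¹) = p'.1 * (x * p'.2 * x⁻¹) := congrArg Subtype.val e
  have e2 : x * ((p.2 : G) * (p'.2 : G)⁻¹) * x⁻¹ = (p.1 : G)⁻¹ * p'.1 := by
    calc x * ((p.2 : G) * (p'.2 : G)⁻¹) * x⁻¹
        = (p.1 : G)⁻¹ * ((p.1 : G) * (x * p.2 * x⁻¹)) * (x * p'.2 * x⁻¹)⁻¹ := by group
      _ = _ := by rw [e1]; group
  have h1 := hint _ (Z.mul_mem p.2.2 (Z.inv_mem p'.2.2)) (e2 ▸ Z.mul_mem (Z.inv_mem p.1.2) p'.1.2)
  rw [h1, mul_one, mul_inv_cancel] at e2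
  exact Prod.ext (Subtype.ext (inv_mul_eq_one.1 e2.symm)) (Subtype.ext (mul_inv_eq_one.1 h1))

/-- Two distinct cosets of `R` in a group of exponent two make the 2-local nonsolvable. -/
theorem not_solvable_X (h : IsCIT G) (hR : Escape M T R) (hT2 : IsPGroup 2 T) {A : Subgroup G}
    (hA : ∀ x ∈ A, x * x = 1) (hAX : A ≤ normalizer (R : Set G)) {a b : G} (ha : a ∈ A) (hb : b ∈ A)
    (haR : a ∉ R) (hbR : b ∉ R) (habR : a⁻¹ * b ∉ R) :
    ¬ Group.IsSolvable (normalizer (R : Set G)) := by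
  intro hs
  set X := normalizer (R : Set G) with hX
  haveI := hs
  haveI : (R.subgroupOf X).Normal := by rw [hX]; infer_instance
  set R' := R.subgroupOf X
  set π := QuotientGroup.mk' R'
  have hR'2 : IsPGroup 2 R' := (hT2.to_le hR.le_T).of_equiv (subgroupOfEquivOfLe le_normalizer).symm
  haveI : Group.IsSolvable (X ⧸ R') := Group.isSolvable_of_surjective (QuotientGroup.mk'_surjective R')
  have hpc : Cfsg.pCore 2 (X ⧸ R') = ⊥ := by
    rw [eq_bot_iff]
    intro y hy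
    obtain ⟨x, rfl⟩ := QuotientGroup.mk'_surjective R' y
    haveI := CfsgLib.Solvable.pCore_normal (G := X ⧸ R') 2
    set Q := (Cfsg.pCore 2 (X ⧸ R')).comap π
    haveI hQn : Q.Normal := Normal.comap inferInstance π
    have hQ2 : IsPGroup 2 Q := (CfsgLib.Solvable.isPGroup_pCore 2).comap_of_ker_isPGroup _ (by
      rw [QuotientGroup.ker_mk']; exact hR'2)
    have hle := hR.core (Q.map X.subtype) (map_subtype_le _) (by
      rintro m hm _ ⟨z, hz, rfl⟩
      exact ⟨⟨m, hm⟩ * z * ⟨m, hm⟩⁻¹, hQn.conj_mem z hz _, rfl⟩) (hQ2.map _)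
    exact mem_bot.2 ((QuotientGroup.eq_one_iff x).2 (hle (mem_map_of_mem X.subtype (show x ∈ Q from hy))))
  have hord : ∀ c : G, (hc : c ∈ A) → c ∉ R → orderOf (π ⟨c, hAX hc⟩) = 2 := fun c hc hcR =>
    CfsgLib.Invol.orderOf_eq_two (by
      rw [← map_mul, show (⟨c, hAX hc⟩ : X) * ⟨c, hAX hc⟩ = 1 from Subtype.ext (hA c hc), map_one])
      fun e => hcR ((QuotientGroup.eq_one_iff (N := R') _).1 e)
  refine ((h.subgroup X).quotient R' hR'2).not_klein hpc (hord a ha haR) (hord b hb hbR) (fun e => habR ?_) ?_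
  · exact (QuotientGroup.eq (s := R')).1 e
  · exact (show Commute (⟨a, hAX ha⟩ : X) ⟨b, hAX hb⟩ from Subtype.ext (comm_of_sq hA ha hb).eq).map π

/-- An elementary subgroup of `T ⊓ N(R)` of maximal order not inside `R` makes `N(R)` nonsolvable. -/
theorem not_solvable_of_maxElem (C : Ctx M U T D u q) (h : IsCIT G) (hR : Escape M T R) {A : Subgroup G}
    (hA : MaxElem (T ⊓ normalizer (R : Set G)) A) (hAR : ¬ A ≤ R) :
    ¬ Group.IsSolvable (normalizer (R : Set G)) := by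
  intro hs
  haveI : Fact (Nat.Prime 2) := ⟨Nat.prime_two⟩
  set X := normalizer (R : Set G) with hX
  have hAX : A ≤ X := hA.1.trans inf_le_right
  obtain ⟨a, ha, haR⟩ := SetLike.not_le_iff_exists.1 hAR
  have hR2 : IsPGroup 2 R := C.loc.T_two.to_le hR.le_T
  have hone : ∀ b ∈ A, b ∈ R ∨ a⁻¹ * b ∈ R := fun b hb => by
    by_contra hcon
    push Not at hcon
    exact not_solvable_X h hR C.loc.T_two hA.2.1 hAX ha hb haR hcon.1 hcon.2 hs
  have hA2 : Nat.card A ≤ 2 * Nat.card (A ⊓ R : Subgroup G) := by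
    classical
    let f : A → Bool × (A ⊓ R : Subgroup G) := fun b =>
      if hb : (b : G) ∈ R then (false, ⟨b, b.2, hb⟩)
      else (true, ⟨a⁻¹ * b, A.mul_mem (A.inv_mem ha) b.2, (hone b b.2).resolve_left hb⟩)
    have hf : Function.Injective f := fun b c e => by
      simp only [f] at e
      split_ifs at e with h1 h2 h2
      · exact Subtype.ext (congrArg (fun p => ((p.2 : (A ⊓ R : Subgroup G)) : G)) e)
      · simp at e
      · simp at e
      · exact Subtype.ext (mul_left_cancel (congrArg (fun p => ((p.2 : (A ⊓ R : Subgroup G)) : G)) e))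
    refine (Nat.card_le_card_of_injective f hf).trans (le_of_eq ?_)
    rw [Nat.card_prod]; simp
  -- an odd element inverted by `a` modulo `R`
  haveI : (R.subgroupOf X).Normal := by rw [hX]; infer_instance
  set R' := R.subgroupOf X
  set π := QuotientGroup.mk' R'
  have hR'2 : IsPGroup 2 R' := hR2.of_equiv (subgroupOfEquivOfLe le_normalizer).symm
  have haa : a * a = 1 := hA.2.1 a ha
  have hao : orderOf (π ⟨a, hAX ha⟩) = 2 := CfsgLib.Invol.orderOf_eq_two (by
      rw [← map_mul, show (⟨a, hAX ha⟩ : X) * ⟨a, hAX ha⟩ = 1 from Subtype.ext haa, map_one])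
    fun e => haR ((QuotientGroup.eq_one_iff (N := R') _).1 e)
  have hnot : π ⟨a, hAX ha⟩ ∉ Cfsg.pCore 2 (X ⧸ R') := fun hmem => haR (by
    haveI := CfsgLib.Solvable.pCore_normal (G := X ⧸ R') 2
    set Q := (Cfsg.pCore 2 (X ⧸ R')).comap π
    haveI hQn : Q.Normal := Normal.comap inferInstance π
    have hQ2 : IsPGroup 2 Q := (CfsgLib.Solvable.isPGroup_pCore 2).comap_of_ker_isPGroup _ (by
      rw [QuotientGroup.ker_mk']; exact hR'2)
    exact hR.core (Q.map X.subtype) (map_subtype_le _) (by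
      rintro m hm _ ⟨z, hz, rfl⟩
      exact ⟨⟨m, hm⟩ * z * ⟨m, hm⟩⁻¹, hQn.conj_mem z hz _, rfl⟩) (hQ2.map _)
      ⟨_, (hmem : (⟨a, hAX ha⟩ : X) ∈ Q), rfl⟩)
  obtain ⟨y, hy1, hyo, hy⟩ := CfsgLib.Invol.exists_inverted_odd _ hao hnot
  obtain ⟨x₀, rfl⟩ := QuotientGroup.mk'_surjective R' y
  obtain ⟨j, n, hn, hom⟩ := Nat.exists_eq_two_pow_mul_odd (isOfFinOrder_of_finite x₀).orderOf_pos.ne'
  set x := x₀ ^ 2 ^ j
  have hxo : Odd (orderOf (x : G)) := by
    rw [orderOf_coe, orderOf_pow' x₀ (by positivity), hom, Nat.gcd_mul_right_left,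
      Nat.mul_div_cancel_left _ (by positivity)]
    exact hn
  have hxe : a * (x : G) * a⁻¹ * (x : G) ∈ R := by
    refine (QuotientGroup.eq_one_iff (N := R') (⟨a, hAX ha⟩ * x * ⟨a, hAX ha⟩⁻¹ * x)).1 ?_
    show π _ = 1
    simp only [x, map_mul, map_inv, map_pow]
    rw [← conj_pow, hy, inv_pow, inv_mul_cancel]
  have hx1 : (x : G) ≠ 1 := fun e => hy1 (eq_one_of_odd_of_pow hyo (k := j) (by
    rw [← map_pow, show x₀ ^ 2 ^ j = 1 from Subtype.ext e, map_one]))
  have hXW : X ≤ normalizer (omegaZ R : Set G) := fun g hg =>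
    mem_normalizer_of_conj_le fun v hv => omegaZ_conj hg hv
  obtain ⟨hsq, -⟩ := h.card_cent_sq hXW (hR2.to_le (omegaZ_le R))
    (fun v hv w hw => (omegaZ_commute hv (omegaZ_le R hw)).eq) (hAX ha) x.2
    (fun w _ => by rw [haa]; exact Commute.one_left w) hxo hx1 (fun w hw => (omegaZ_commute hw hxe).symm)
  set c := Nat.card (omegaZ R ⊓ centralizer ({a} : Set G) : Subgroup G)
  have hprod : Nat.card ((A ⊓ R) ⊔ omegaZ R : Subgroup G) * Nat.card ((A ⊓ R) ⊓ omegaZ R : Subgroup G) =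
      Nat.card (A ⊓ R : Subgroup G) * Nat.card (omegaZ R) :=
    CfsgLib.Solvable.card_sup_mul_card_inf fun y hy => hXW (hAX hy.1)
  have h1 : Nat.card ((A ⊓ R) ⊓ omegaZ R : Subgroup G) ≤ c :=
    Nat.le_of_dvd Nat.card_pos (card_dvd_of_le fun y hy =>
      ⟨hy.2, mem_centralizer_self_iff.2 (comm_of_sq hA.2.1 ha hy.1.1)⟩)
  have hRX : R ≤ T ⊓ normalizer (R : Set G) := le_inf hR.le_T le_normalizer
  have h2 := hA.2.2 _ (sup_le (inf_le_right.trans hRX) ((omegaZ_le R).trans hRX)) (elem_inf_omegaZ hA.2.1)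
  have hc : c ≤ 2 := by
    refine Nat.le_of_mul_le_mul_left ?_ (show 0 < c from Nat.card_pos)
    refine Nat.le_of_mul_le_mul_left ?_ (Nat.card_pos (α := (A ⊓ R : Subgroup G)))
    calc Nat.card (A ⊓ R : Subgroup G) * (c * c) = Nat.card (A ⊓ R : Subgroup G) * Nat.card (omegaZ R) := by
          rw [← hsq, pow_two]
      _ = _ := hprod.symm
      _ ≤ Nat.card A * c := Nat.mul_le_mul h2 h1
      _ ≤ 2 * Nat.card (A ⊓ R : Subgroup G) * c := Nat.mul_le_mul_right _ hA2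
      _ = _ := by ring
  have h3 := C.sq_le_R0 h hR
  have h4 := C.loc.four_le
  rw [← hsq] at h3
  nlinarith

/-- If `N(R)` has a Sylow 2-subgroup of `G` some elementary subgroup of maximal order of `T` lies outside `U`,
and we get the configuration. -/
theorem second_of_eq (C : Ctx M U T D u q) (h : IsCIT G) (hgood : Good G) (hR : Escape M T R)
    (hTX : T ≤ normalizer (R : Set G)) :
    ∃ (q' : ℕ) (M' X V E' T' D' : Subgroup G) (w w' : G), Second q' M' X V E' T' D' w w' := by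
  have L := C.loc
  set X := normalizer (R : Set G) with hX
  have hTR : T ⊓ X = T := inf_eq_left.2 hTX
  have hR2 : IsPGroup 2 R := L.T_two.to_le hR.le_T
  set R0 := omegaZ R with hR0
  have hR0T : R0 ≤ T := (omegaZ_le R).trans hR.le_T
  have hXR0 : X ≤ normalizer (R0 : Set G) := fun g hg =>
    mem_normalizer_of_conj_le fun v hv => omegaZ_conj hg hv
  have hR0sq : ∀ x ∈ R0, x * x = 1 := fun x hx => omegaZ_sq hx
  have h4 := L.four_le
  have hXV : omegaZ U ≠ R0 := fun e => hR.out fun g hg => C.omegaZ_norm ▸ (e.symm ▸ hXR0 hg)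
  by_cases hcase : ∀ A, MaxElem T A → A ≤ U
  · -- impossible
    exfalso
    have hM := C.maxl (thompsonJ T) (L.T_two.to_le (thompsonJ_le T)) (thompsonJ_ne_bot L.T_two L.T_ne_bot)
      (le_normalizer_thompsonJ_of_le L.M_le L.U_le hcase)
    obtain ⟨A, hA, hAR⟩ : ∃ A, MaxElem T A ∧ ¬ A ≤ R := by
      by_contra hcon
      push Not at hcon
      exact hR.out fun g hg => hM ▸ le_normalizer_thompsonJ_of_le le_rfl hR.le_T hcon hg
    have hAT' : MaxElem (T ⊓ normalizer (R : Set G)) A := hTR.symm ▸ hA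
    obtain ⟨D₁, u₁, q₁, LX⟩ := exists_loc_of_good h hgood hR2 hR.ne_bot (C.not_solvable_of_maxElem h hR hAT' hAR)
      hR.core hTX L.T_two (fun P hP hP2 hle => C.sylow P hP2 hle)
    obtain ⟨ht, -, hAq, -⟩ := LX.tight_of_maxElem h hA hAR
    obtain ⟨a, ha, haR⟩ := SetLike.not_le_iff_exists.1 hAR
    have hR0max : MaxElem T R0 := ⟨hR0T, hR0sq, fun B hB hB2 =>
      (hA.2.2 B hB hB2).trans (le_of_eq (hAq.trans ht.card_V.symm))⟩
    have hR0U := hcase R0 hR0max
    have hVc : ∀ v ∈ omegaZ U, ∀ t ∈ T, Commute t v := by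
      intro v hv t htT
      have hvT : v ∈ T := L.U_le (omegaZ_le U hv)
      have hvR : v ∈ R := by
        by_contra hvR
        have h1 : ∀ w ∈ omegaZ R, w ∈ centralizer (T : Set G) := fun w hw =>
          ht.fix v hvT hvR w hw (omegaZ_commute hv (hR0U hw))
        have h2 : omegaZ R ⊓ centralizer (T : Set G) = omegaZ R := inf_eq_left.2 h1
        have h3 := ht.card_fixed
        rw [h2, ht.card_V] at h3
        nlinarith [LX.four_le]
      have hvR0 : v ∈ omegaZ R := ht.omega v hvR (omegaZ_sq hv)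
      exact mem_centralizer_iff.1 (ht.fix a (hA.1 ha) haR v hvR0 (omegaZ_commute hv (hcase A hA ha)).symm) t htT
    exact L.T_ne_U fun t htT => L.cent_omegaZ h (L.T_le htT) fun v hv => hVc v hv t htT
  · push Not at hcase
    obtain ⟨A, hA, hAU⟩ := hcase
    obtain ⟨ht, -, hAq, -⟩ := L.tight_of_maxElem h hA hAU
    have hR0c : Nat.card R0 = q ^ 2 := le_antisymm (hAq ▸ hA.2.2 R0 hR0T hR0sq)
      (by rw [pow_two]; exact C.sq_le_R0 h hR)
    have hR0U : ¬ R0 ≤ U := fun hle => hXV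
      (eq_of_le_of_card_ge (fun x hx => ht.omega x (hle hx) (hR0sq x hx)) (by rw [hR0c, ht.card_V])).symm
    have hR0max : MaxElem T R0 := ⟨hR0T, hR0sq, fun B hB hB2 => (hA.2.2 B hB hB2).trans (by rw [hAq, hR0c])⟩
    obtain ⟨-, hinf, -, hcov⟩ := L.tight_of_maxElem h hR0max hR0U
    obtain ⟨e, he, heU⟩ := SetLike.not_le_iff_exists.1 hR0U
    have hTnR0 : ∀ t ∈ T, t ∈ normalizer (R0 : Set G) := fun t htT => hXR0 (hTX htT)
    -- `U` is elementary
    have hc2 := L.card_cent_U_sq h ht (hR0T he) heU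
    set c := Nat.card (U ⊓ centralizer ({e} : Set G) : Subgroup G)
    have hker : Nat.card U ≤ c * q := by
      have hmem : ∀ w ∈ U, w * e * w⁻¹ * e⁻¹ ∈ R0 ⊓ U := fun w hw =>
        ⟨R0.mul_mem ((mem_normalizer_iff.1 (hTnR0 w (L.U_le hw)) e).1 he) (R0.inv_mem he),
          by rw [show w * e * w⁻¹ * e⁻¹ = w * (e * w⁻¹ * e⁻¹) by group]
             exact U.mul_mem hw ((mem_normalizer_iff.1 (L.M_le (L.T_le (hR0T he))) _).1 (U.inv_mem hw))⟩
      let f : U →* (R0 ⊓ U : Subgroup G) :=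
        { toFun := fun w => ⟨(w : G) * e * (w : G)⁻¹ * e⁻¹, hmem w w.2⟩
          map_one' := Subtype.ext (by simp)
          map_mul' := fun a b => Subtype.ext (by
            show (a : G) * b * e * ((a : G) * b)⁻¹ * e⁻¹ = a * e * (a : G)⁻¹ * e⁻¹ * (b * e * (b : G)⁻¹ * e⁻¹)
            have h1 := ht.abelian a a.2 _ (hmem b b.2).2
            have h2 := ht.abelian _ (hmem a a.2).2 _ (hmem b b.2).2
            rw [h2]
            calc (a : G) * b * e * ((a : G) * b)⁻¹ * e⁻¹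
                = (a : G) * ((b : G) * e * (b : G)⁻¹ * e⁻¹) * (e * (a : G)⁻¹ * e⁻¹) := by group
              _ = (b : G) * e * (b : G)⁻¹ * e⁻¹ * a * (e * (a : G)⁻¹ * e⁻¹) := by rw [h1]
              _ = _ := by group) }
      have hkerle : Nat.card f.ker ≤ c := by
        refine Nat.card_le_card_of_injective (fun w => (⟨((w : U) : G), mem_inf.2 ⟨(w : U).2,
          mem_centralizer_self_iff.2 ?_⟩⟩ : (U ⊓ centralizer ({e} : Set G) : Subgroup G))) fun a b e' =>
          Subtype.ext (Subtype.ext (congrArg (fun z : (U ⊓ centralizer ({e} : Set G) : Subgroup G) => (z : G)) e'))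
        exact (mul_inv_eq_iff_eq_mul.1 (mul_inv_eq_one.1 (congrArg Subtype.val w.2))).symm
      have hrange : Nat.card f.range ≤ q := by
        refine (Nat.card_le_card_of_injective _ f.range.subtype_injective).trans (le_of_eq ?_)
        rw [hinf, ht.card_fixed]
      calc Nat.card U = Nat.card f.ker * Nat.card f.range := by rw [← index_ker, card_mul_index]
        _ ≤ c * q := Nat.mul_le_mul hkerle hrange
    have hUV : ∀ x ∈ U, x * x = 1 := by
      have hcq : c ≤ q := Nat.le_of_mul_le_mul_left (by rwa [← hc2, pow_two] at hker) Nat.card_pos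
      have h3 : omegaZ U = U := eq_of_le_of_card_ge (omegaZ_le U) (by
        rw [ht.card_V, ← hc2]; exact Nat.pow_le_pow_left hcq 2)
      exact fun x hx => omegaZ_sq (h3.symm ▸ hx : x ∈ omegaZ U)
    -- `R` is elementary
    have hRR0 : R = R0 := by
      refine le_antisymm (fun r hr => ?_) (omegaZ_le R)
      obtain ⟨f, hf, hw⟩ := hcov r (hR.le_T hr)
      have hwe : Commute e (f⁻¹ * r) :=
        ((comm_of_sq hR0sq he hf).inv_right).mul_right (omegaZ_commute he hr)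
      have hwV : f⁻¹ * r ∈ omegaZ U := ht.omega _ hw (hUV _ hw)
      have : f⁻¹ * r ∈ R0 ⊓ U := hinf.symm ▸ ⟨hwV, ht.fix e (hR0T he) heU _ hwV hwe⟩
      rw [← mul_inv_cancel_left f r]
      exact R0.mul_mem hf this.1
    have hUVe : omegaZ U = U := omegaZ_eq_self hUV
    -- `N(R)` is not solvable
    have hUinf : Nat.card (U ⊓ R : Subgroup G) = q := by rw [hRR0, inf_comm, hinf, ht.card_fixed]
    have hUR : ¬ U ≤ R := fun hle => by
      rw [inf_eq_left.2 hle, ← hUVe, ht.card_V] at hUinf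
      nlinarith
    obtain ⟨a, ha, haR⟩ := SetLike.not_le_iff_exists.1 hUR
    obtain ⟨b, hb, hbR, hbR'⟩ : ∃ b ∈ U, b ∉ R ∧ a⁻¹ * b ∉ R := by
      by_contra hcon
      push Not at hcon
      classical
      have hle : Nat.card U ≤ Nat.card (Bool × (U ⊓ R : Subgroup G)) := by
        refine Nat.card_le_card_of_injective (fun b : U =>
          if hb : (b : G) ∈ R then (false, (⟨b, b.2, hb⟩ : (U ⊓ R : Subgroup G)))
          else (true, ⟨a⁻¹ * b, U.mul_mem (U.inv_mem ha) b.2, hcon b b.2 hb⟩)) fun b c e => ?_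
        simp only at e
        split_ifs at e with h1 h2 h2
        · exact Subtype.ext (congrArg (fun p => ((p.2 : (U ⊓ R : Subgroup G)) : G)) e)
        · simp at e
        · simp at e
        · exact Subtype.ext (mul_left_cancel (congrArg (fun p => ((p.2 : (U ⊓ R : Subgroup G)) : G)) e))
      rw [Nat.card_prod, hUinf, ← hUVe, ht.card_V] at hle
      simp only [Nat.card_eq_fintype_card, Fintype.card_bool] at hle
      nlinarith
    exact exists_second_of_pair h hgood L hUV hR.le_T (fun x hx => hR0sq x (hRR0 ▸ hx)) (hRR0 ▸ hR0U)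
      (by rw [hRR0, hR0c, ← hUVe, ht.card_V]) (not_solvable_X h hR L.T_two hUV
        (L.U_le.trans hTX) ha hb haR hbR hbR') hTX hR.core fun P hP hP2 hle => C.sylow P hP2 hle

/-- The Sylow 2-subgroup of `T ⊓ N(R)` cannot be smaller than `T`. -/
theorem eq_of_escape (C : Ctx M U T D u q) (h : IsCIT G) (hgood : Good G) (hR : Escape M T R) :
    T ≤ normalizer (R : Set G) := by
  by_contra hlt'
  haveI : Fact (Nat.Prime 2) := ⟨Nat.prime_two⟩
  have L := C.loc
  set X := normalizer (R : Set G) with hX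
  set TR := T ⊓ X with hTRdef
  have hTR2 : IsPGroup 2 TR := L.T_two.to_le inf_le_left
  have hlt : TR < T := lt_of_le_of_ne inf_le_left fun e => hlt' (e ▸ inf_le_right)
  have hR2 : IsPGroup 2 R := L.T_two.to_le hR.le_T
  have hRTR : R ≤ TR := le_inf hR.le_T le_normalizer
  have hTR1 : TR ≠ ⊥ := fun e => hR.ne_bot (le_bot_iff.1 (e ▸ hRTR))
  obtain ⟨p₀, hp₀T, hp₀R, hp₀N⟩ := exists_normalizing L.T_two hlt
  -- a normal subgroup of `X` inside `T` has the same normaliser in `T`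
  have hsame : ∀ S : Subgroup G, S ≠ ⊥ → S ≤ T → X ≤ normalizer (S : Set G) →
      ∀ t ∈ T, t ∈ normalizer (S : Set G) → t ∈ TR := fun S hS1 hST hXS t ht htS => by
    have e := eq_of_le_of_card_ge (inf_le_inf_left T hXS : TR ≤ T ⊓ normalizer (S : Set G))
      (hR.max S hS1 hST fun hle => hR.out (hXS.trans hle))
    exact (le_of_eq e.symm : _ ≤ TR) ⟨ht, htS⟩
  have hNTR : normalizer (TR : Set G) ≤ M := by
    by_contra hout
    refine hp₀R ?_
    rw [eq_of_le_of_card_ge (le_inf inf_le_left le_normalizer : TR ≤ T ⊓ normalizer (TR : Set G))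
      (hR.max TR hTR1 inf_le_left hout)]
    exact ⟨hp₀T, hp₀N⟩
  obtain ⟨A, hA, hAR⟩ : ∃ A, MaxElem TR A ∧ ¬ A ≤ R := by
    by_contra hcon
    push Not at hcon
    exact hp₀R (hsame (thompsonJ TR) (thompsonJ_ne_bot hTR2 hTR1) ((thompsonJ_le _).trans inf_le_left)
      (le_normalizer_thompsonJ_of_le le_rfl hRTR hcon) p₀ hp₀T (normalizer_le_thompsonJ _ hp₀N))
  obtain ⟨D₁, u₁, q₁, LX⟩ := exists_loc_of_good h hgood hR2 hR.ne_bot (C.not_solvable_of_maxElem h hR hA hAR)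
    hR.core inf_le_right hTR2 hR.sylow
  obtain ⟨htX, -, hAq, -⟩ := LX.tight_of_maxElem h hA hAR
  set R0 := omegaZ R with hR0
  set Z1 := R0 ⊓ centralizer (TR : Set G) with hZ1
  set Z0 := omegaZ U ⊓ centralizer (T : Set G) with hZ0
  have hR0T : R0 ≤ T := (omegaZ_le R).trans hR.le_T
  have hXR0 : X ≤ normalizer (R0 : Set G) := fun g hg =>
    mem_normalizer_of_conj_le fun v hv => omegaZ_conj hg hv
  have hR0sq : ∀ x ∈ R0, x * x = 1 := fun x hx => omegaZ_sq hx
  have hR01 : R0 ≠ ⊥ := omegaZ_ne_bot hR2 hR.ne_bot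
  have hnormR0 : ∀ t ∈ T, t ∈ normalizer (R0 : Set G) → t ∈ TR := hsame R0 hR01 hR0T hXR0
  have hD₁M : ∀ δ ∈ D₁, δ ∈ M := fun δ hδ => hNTR (mem_normalizer_of_conj_le (LX.D_norm δ hδ))
  have hZ01 : Z0 ≤ Z1 := fun z hz => ⟨C.fixed_le_R0 h hR hz, mem_centralizer_iff.2 fun t ht =>
    mem_centralizer_iff.1 hz.2 t ht.1⟩
  obtain ⟨z, hz, hz1⟩ := Z0.bot_or_exists_ne_one.resolve_left L.exists_fixed_ne
  have hz1' : z ∈ Z1 := hZ01 hz
  have hq₁ := LX.four_le
  have hq := L.four_le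
  have hD₁c : Nat.card D₁ = q₁ - 1 := by have := LX.D_card; omega
  -- `D₁` moves `z` to every nontrivial element of `Z1`
  have htrans : ∀ w ∈ Z1, w ≠ 1 → ∃ δ ∈ D₁, δ * z * δ⁻¹ = w := by
    let f : D₁ → {w : Z1 // w ≠ 1} := fun δ => ⟨⟨δ * z * (δ : G)⁻¹, LX.fixed_inv δ.2 hz1'⟩, fun e =>
      hz1 (conj_eq_one_iff.1 (congrArg Subtype.val e))⟩
    have hfi : Function.Injective f := fun δ δ' e => by
      have e' : (δ : G) * z * (δ : G)⁻¹ = δ' * z * (δ' : G)⁻¹ :=
        congrArg (fun w : {w : Z1 // w ≠ 1} => ((w : Z1) : G)) e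
      have hc : Commute z ((δ' : G)⁻¹ * δ) := by
        refine (mul_inv_eq_iff_eq_mul.1 ?_).symm
        calc (δ' : G)⁻¹ * δ * z * ((δ' : G)⁻¹ * δ)⁻¹ = (δ' : G)⁻¹ * (δ * z * (δ : G)⁻¹) * δ' := by group
          _ = z := by rw [e']; group
      exact Subtype.ext (inv_mul_eq_one.1 (h.eq_one_of_commute (CfsgLib.Invol.orderOf_eq_two (omegaZ_sq hz.1) hz1)
        hc (LX.D_odd.of_dvd_nat (orderOf_dvd_natCard D₁ (D₁.mul_mem (D₁.inv_mem δ'.2) δ.2))))).symm
    haveI := Fintype.ofFinite Z1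
    classical
    have hcard : Nat.card {w : Z1 // w ≠ 1} = q₁ - 1 := by
      rw [Nat.card_eq_fintype_card, Fintype.card_subtype_compl, Fintype.card_subtype_eq,
        ← Nat.card_eq_fintype_card, htX.card_fixed]
    intro w hw hw1
    obtain ⟨δ, hδ⟩ := ((Nat.bijective_iff_injective_and_card f).2 ⟨hfi, hD₁c.trans hcard.symm⟩).2
      ⟨⟨w, hw⟩, fun e => hw1 (congrArg Subtype.val e)⟩
    exact ⟨δ, δ.2, congrArg (fun w : {w : Z1 // w ≠ 1} => ((w : Z1) : G)) hδ⟩
  have hDV : ∀ δ ∈ D₁, ∀ v ∈ omegaZ U, δ * v * δ⁻¹ ∈ omegaZ U := fun δ hδ v hv =>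
    omegaZ_conj (L.M_le (hD₁M δ hδ)) hv
  have hVc : ∀ v ∈ omegaZ U, v * v = 1 := fun v hv => omegaZ_sq hv
  by_cases hTRU : TR ≤ U
  · -- `T ⊓ N(R)` inside `U`
    have hVR0 : omegaZ U ≤ R0 := fun v hv => by
      have hvR : v ∈ R := cent_R_le h hR L.T_two fun r hr => omegaZ_commute hv (hTRU (hRTR hr))
      exact ⟨hvR, hVc v hv, fun r hr => omegaZ_commute hv (hTRU (hRTR hr))⟩
    have hVZ1 : omegaZ U ≤ Z1 := fun v hv => ⟨hVR0 hv, mem_centralizer_iff.2 fun t ht =>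
      (omegaZ_commute hv (hTRU ht)).symm.eq⟩
    have hVe : omegaZ U = Z1 := by
      have := LX.gap h (A := ⊥) bot_le (Ne.symm (omegaZ_ne_bot L.U_two L.U_ne)) L.omegaZ_two
        (fun d _ a ha => by rw [mem_bot.1 ha]; simp) hDV
      rw [card_bot, mul_one] at this
      exact eq_of_le_of_card_ge hVZ1 (le_of_eq_of_le htX.card_fixed this)
    obtain ⟨z', hz', hz'1, hz'z⟩ : ∃ z' ∈ Z0, z' ≠ 1 ∧ z' ≠ z := by
      by_contra hcon
      push Not at hcon
      have : Nat.card Z0 ≤ 2 := by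
        have e : (Z0 : Set G) ⊆ {1, z} := fun w hw => by
          by_cases hw1 : w = 1
          · exact Or.inl hw1
          · exact Or.inr (hcon w hw hw1)
        calc Nat.card Z0 = (Z0 : Set G).ncard := rfl
          _ ≤ ({1, z} : Set G).ncard := Set.ncard_le_ncard e
          _ ≤ 2 := (Set.ncard_insert_le _ _).trans (by rw [Set.ncard_singleton])
      have := (L.q_le_fixed h).trans this
      omega
    obtain ⟨δ, hδ, hδz⟩ := htrans z' (hZ01 hz') hz'1
    have hδ1 : δ ≠ 1 := fun e => hz'z (by rw [← hδz, e]; simp)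
    have hδT : δ ∈ normalizer (T : Set G) := mem_normalizer_of_conj_le fun t ht => by
      refine C.cent_fixed h hz' hz'1 ?_
      rw [← hδz]
      exact (show Commute z t from (mem_centralizer_iff.1 hz.2 t ht).symm).map (MulAut.conj δ).toMonoidHom
    have hDn : D ≤ normalizer (T : Set G) := fun d hd => mem_normalizer_of_conj_le (L.D_norm d hd)
    have hcopD : (Nat.card D).Coprime (Nat.card T) := by
      obtain ⟨k, hk⟩ := L.T_two.exists_card_eq
      rw [hk]; exact (Nat.coprime_two_right.2 L.D_odd).pow_right k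
    obtain ⟨k, hk, hke⟩ := CfsgLib.SZ.conj_le hDn hcopD (Or.inr (haveI := L.T_two.isNilpotent; inferInstance))
      (U := zpowers δ) (zpowers_le.2 (by
        obtain ⟨t, ht, d, hd, e⟩ := L.normalizer_T δ (hD₁M δ hδ) hδT
        rw [e]
        exact mul_mem (mem_sup_right ht) (mem_sup_left hd))) (by
      obtain ⟨j, hj⟩ := L.T_two.exists_card_eq
      rw [hj, Nat.card_zpowers]
      exact (Nat.coprime_two_right.2 (LX.D_odd.of_dvd_nat (orderOf_dvd_natCard D₁ hδ))).pow_right j)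
    have hd : k * δ * k⁻¹ ∈ D := hke ⟨δ, mem_zpowers δ, rfl⟩
    have hd1 : k * δ * k⁻¹ ≠ 1 := fun e => hδ1 (conj_eq_one_iff.1 e)
    have hD₁T : ∀ g ∈ D₁, g ∈ normalizer (T : Set G) := by
      intro g hg
      haveI := LX.D_cyclic
      have hcm : g * δ = δ * g := by
        letI := IsCyclic.commGroup (α := D₁)
        exact congrArg Subtype.val (mul_comm (⟨g, hg⟩ : D₁) ⟨δ, hδ⟩)
      have hkM : k ∈ M := L.T_le hk
      obtain ⟨w, hw, d', hd', e⟩ := L.cent_D _ hd hd1 (k * g * k⁻¹)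
        (M.mul_mem (M.mul_mem hkM (hD₁M g hg)) (M.inv_mem hkM)) (by
          rw [show k * g * k⁻¹ * (k * δ * k⁻¹) * (k * g * k⁻¹)⁻¹ * (k * δ * k⁻¹)⁻¹ =
            k * (g * δ * g⁻¹ * δ⁻¹) * k⁻¹ by group, hcm, mul_inv_cancel_right, mul_inv_cancel, mul_one,
            mul_inv_cancel]
          exact U.one_mem)
      have hN : k * g * k⁻¹ ∈ normalizer (T : Set G) :=
        e ▸ mul_mem (le_normalizer (L.U_le hw)) (hDn hd')
      have := mul_mem (mul_mem (inv_mem (le_normalizer hk : k ∈ normalizer (T : Set G))) hN) (le_normalizer hk)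
      simpa [mul_assoc] using this
    refine L.T_ne_U fun t htT => L.cent_omegaZ h (L.T_le htT) fun v hv => ?_
    by_cases hv1 : v = 1
    · rw [hv1]; exact Commute.one_right t
    obtain ⟨g, hg, rfl⟩ := htrans v (hVe ▸ hv) hv1
    have ht' : g⁻¹ * t * g ∈ T := (mem_normalizer_iff.1 (hD₁T g hg) _).2 (by
      rwa [show g * (g⁻¹ * t * g) * g⁻¹ = t by group])
    show t * (g * z * g⁻¹) = g * z * g⁻¹ * t
    calc t * (g * z * g⁻¹) = g * (g⁻¹ * t * g * z) * g⁻¹ := by group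
      _ = g * (z * (g⁻¹ * t * g)) * g⁻¹ := by rw [mem_centralizer_iff.1 hz.2 _ ht']
      _ = g * z * g⁻¹ * t := by group
  -- `T ⊓ N(R)` not inside `U`
  obtain ⟨t₀, ht₀, ht₀U⟩ := SetLike.not_le_iff_exists.1 hTRU
  have hD₁T : ∀ δ ∈ D₁, δ ∈ normalizer (T : Set G) := fun δ hδ =>
    L.trap t₀ ht₀.1 ht₀U δ (hD₁M δ hδ) (LX.D_norm δ hδ t₀ ht₀).1
  have hD₁Z0 : ∀ δ ∈ D₁, ∀ w ∈ Z0, δ * w * δ⁻¹ ∈ Z0 := fun δ hδ w hw => by
    refine ⟨omegaZ_conj (L.M_le (hD₁M δ hδ)) hw.1, mem_centralizer_iff.2 fun t ht => ?_⟩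
    have ht' : δ⁻¹ * t * δ ∈ T := (mem_normalizer_iff.1 (hD₁T δ hδ) _).2 (by
      rwa [show δ * (δ⁻¹ * t * δ) * δ⁻¹ = t by group])
    calc t * (δ * w * δ⁻¹) = δ * (δ⁻¹ * t * δ * w) * δ⁻¹ := by group
      _ = δ * (w * (δ⁻¹ * t * δ)) * δ⁻¹ := by rw [mem_centralizer_iff.1 hw.2 _ ht']
      _ = δ * w * δ⁻¹ * t := by group
  have hZeq : Z1 = Z0 := by
    refine le_antisymm (fun w hw => ?_) hZ01
    by_cases hw1 : w = 1
    · exact hw1 ▸ Z0.one_mem
    obtain ⟨δ, hδ, rfl⟩ := htrans w hw hw1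
    exact hD₁Z0 δ hδ z hz
  have hZ0c : Nat.card Z0 = q₁ := hZeq ▸ htX.card_fixed
  have hqeq : q₁ = q := by
    refine le_antisymm ?_ (hZ0c ▸ L.q_le_fixed h)
    have hDn : D ≤ normalizer (T : Set G) := fun d hd => mem_normalizer_of_conj_le (L.D_norm d hd)
    have hcopD : ∀ E : Subgroup G, Odd (Nat.card E) → (Nat.card E).Coprime (Nat.card T) := fun E hE => by
      obtain ⟨k, hk⟩ := L.T_two.exists_card_eq
      rw [hk]; exact (Nat.coprime_two_right.2 hE).pow_right k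
    obtain ⟨k, -, hke⟩ := CfsgLib.SZ.conj_le hDn (hcopD D L.D_odd)
      (Or.inr (haveI := L.T_two.isNilpotent; inferInstance)) (U := D₁) (fun δ hδ => by
        obtain ⟨t, ht, d, hd, e⟩ := L.normalizer_T δ (hD₁M δ hδ) (hD₁T δ hδ)
        rw [e]
        exact mul_mem (mem_sup_right ht) (mem_sup_left hd)) (hcopD D₁ LX.D_odd)
    have := Nat.le_of_dvd Nat.card_pos (card_dvd_of_le hke)
    rw [Nat.card_congr (Subgroup.equivSMul (MulAut.conj k) D₁).toEquiv.symm] at this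
    have := L.D_card; have := LX.D_card
    omega
  have hR0c : Nat.card R0 = q ^ 2 := hqeq ▸ htX.card_V
  have hR0e : Nat.card R0 = q ^ 2 → Nat.card Z0 = q := fun _ => hqeq ▸ hZ0c
  have hZq : Nat.card Z0 = q := hR0e hR0c
  have hV2 : Nat.card (omegaZ U) ≠ q := fun e => by
    have hZV : Z0 = omegaZ U := eq_of_le_of_card_ge inf_le_left (by rw [hZq, e])
    exact L.T_ne_U fun t htT => L.cent_omegaZ h (L.T_le htT) fun v hv =>
      mem_centralizer_iff.1 (hZV.symm ▸ hv : v ∈ Z0).2 t htT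
  have hR0U : ¬ R0 ≤ U := fun hle => by
    have hVX : omegaZ U ≤ TR := fun v hv => hnormR0 v (L.U_le (omegaZ_le U hv))
      (mem_normalizer_of_conj_le fun x hx => by
        rw [(omegaZ_commute hv (hle hx)).eq, mul_inv_cancel_right]; exact hx)
    have hVR : omegaZ U ≤ R := fun v hv => by
      by_contra hvR
      have h1 : omegaZ R ⊓ centralizer (TR : Set G) = omegaZ R := inf_eq_left.2 fun x hx =>
        htX.fix v (hVX hv) hvR x hx (omegaZ_commute hv (hle hx))
      have h2 := htX.card_fixed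
      rw [h1, htX.card_V] at h2
      nlinarith
    have hVR0 : omegaZ U ≤ R0 := fun v hv => htX.omega v (hVR hv) (hVc v hv)
    refine hR.out fun g hg => C.omegaZ_norm ▸ ?_
    have hVeq : omegaZ U = R0 := by
      refine eq_of_le_of_card_ge hVR0 (hR0c ▸ ?_)
      have hgap := L.gap h (A := Z0) (B := omegaZ U) inf_le_left
        (fun e => hV2 (by rw [← e]; exact hZq)) L.omegaZ_two (fun d hd a ha => L.fixed_inv hd ha)
        fun d hd b hb => omegaZ_conj (L.M_le (L.D_le hd)) hb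
      rw [hZq, ← pow_two] at hgap
      exact hgap
    exact hVeq.symm ▸ hXR0 hg
  have hinfU : R0 ⊓ U = Z0 := by
    have hle : Z0 ≤ R0 ⊓ U := fun w hw => ⟨(hZ01 hw).1, omegaZ_le U hw.1⟩
    by_contra hne
    have hgap := LX.gap h hle (fun e => hne e.symm) (LX.omegaZ_two.to_le inf_le_left) hD₁Z0
      fun d hd b hb => ⟨omegaZ_conj (LX.M_le (LX.D_le hd)) hb.1,
        (mem_normalizer_iff.1 (L.M_le (hD₁M d hd)) b).1 hb.2⟩
    rw [hZ0c, ← pow_two, hqeq, ← hR0c] at hgap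
    exact hR0U ((eq_of_le_of_card_ge inf_le_left hgap) ▸ inf_le_right)
  have hR0Z : ∀ w ∈ omegaZ U, w ∈ R0 → w ∈ Z0 := fun w hw hw' => hinfU ▸ ⟨hw', omegaZ_le U hw⟩
  have hee : ∀ e ∈ R0, e * e ∈ U := fun e he => by rw [hR0sq e he]; exact U.one_mem
  -- every element of `R0` outside `U` fixes exactly `Z0`
  have hVq : Nat.card (omegaZ U) = q ^ 2 := by
    obtain ⟨e, he, heU⟩ := SetLike.not_le_iff_exists.1 hR0U
    set Cv := omegaZ U ⊓ centralizer ({e} : Set G)
    have hCc := L.card_cent_sq h (hR0T he) heU (hee e he)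
    by_contra hne
    haveI := L.T_two.isNilpotent
    have hCT : Cv ≤ T := inf_le_left.trans ((omegaZ_le U).trans L.U_le)
    have hZC : Z0 ≤ Cv := fun w hw =>
      ⟨hw.1, mem_centralizer_self_iff.2 (mem_centralizer_iff.1 hw.2 e (hR0T he))⟩
    haveI : (Cv.subgroupOf T).Normal := ⟨fun x hx g => by
      refine ⟨omegaZ_conj (L.M_le (L.T_le g.2)) hx.1, mem_centralizer_self_iff.2 ?_⟩
      show Commute e ((g : G) * x * (g : G)⁻¹)
      have he' : (g : G) * e * (g : G)⁻¹ * e⁻¹ ∈ U := by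
        have := U.inv_mem (L.inv_central e (hR0T he) (hee e he) g g.2)
        simpa [mul_assoc] using this
      have hv' : (g : G) * x * (g : G)⁻¹ ∈ omegaZ U := omegaZ_conj (L.M_le (L.T_le g.2)) hx.1
      have h1 : Commute ((g : G) * e * (g : G)⁻¹) ((g : G) * x * (g : G)⁻¹) :=
        (mem_centralizer_self_iff.1 hx.2).map (MulAut.conj (g : G)).toMonoidHom
      have h2 := ((omegaZ_commute hv' he').symm.inv_left).mul_left h1
      rwa [show ((g : G) * e * (g : G)⁻¹ * e⁻¹)⁻¹ * ((g : G) * e * (g : G)⁻¹) = e by group] at h2⟩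
    haveI : (Z0.subgroupOf T).Normal := ⟨fun x hx g => by
      show (g : G) * x * (g : G)⁻¹ ∈ Z0
      rw [mem_centralizer_iff.1 (show (x : G) ∈ Z0 from hx).2 g g.2, mul_inv_cancel_right]
      exact hx⟩
    have hne' : Z0 ≠ Cv := fun e' => hne (by
      rw [← hCc, show (omegaZ U ⊓ centralizer ({e} : Set G) : Subgroup G) = Z0 from e'.symm, hZq])
    have hlt2 : Z0.subgroupOf T < Cv.subgroupOf T := lt_of_le_of_ne (fun x hx => hZC hx) fun e' => hne' (by
      rw [← map_subgroupOf_eq_of_le (hZC.trans hCT), e', map_subgroupOf_eq_of_le hCT])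
    obtain ⟨w, hwC, hwZ, hw⟩ := CfsgLib.PGroupBasic.exists_central_mod _ _ hlt2
    have hwN : (w : G) ∈ normalizer (R0 : Set G) := mem_normalizer_of_conj_le fun r hr => by
      have h1 : (w : G) * r * (w : G)⁻¹ * r⁻¹ ∈ Z0 := hw ⟨r, hR0T hr⟩
      have := R0.mul_mem (hZ01 h1).1 hr
      simpa using this
    have hwTR : (w : G) ∈ TR := hnormR0 w w.2 hwN
    have hwR : (w : G) ∉ R := fun hwR => hwZ (show (w : G) ∈ Z0 from
      hR0Z w hwC.1 (htX.omega w hwR (hVc w hwC.1)))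
    have he1 : e ∈ Z1 := ⟨he, htX.fix w hwTR hwR e he (mem_centralizer_self_iff.1 hwC.2).symm⟩
    exact heU (omegaZ_le U (hZeq ▸ he1 : e ∈ Z0).1)
  have hmaxR0 : Nat.card ((R0 ⊓ U) ⊔ omegaZ U : Subgroup G) ≤ Nat.card R0 := by
    rw [hinfU, sup_eq_right.2 inf_le_left, hVq, hR0c]
  obtain ⟨ht, -, -, hcov⟩ := L.tight h hR0T hR0sq hR0U hmaxR0
  -- `V` normalises `R0`
  have hVTR : omegaZ U ≤ TR := fun v hv => hnormR0 v (L.U_le (omegaZ_le U hv))
    (mem_normalizer_of_conj_le fun r hr => by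
      have h1 := ht.comm r (hR0T hr) v hv
      have h1' : r * v * r⁻¹ * v⁻¹ ∈ Z0 := ⟨(omegaZ U).mul_mem (omegaZ_conj (L.M_le (L.T_le (hR0T hr))) hv)
        ((omegaZ U).inv_mem hv), h1⟩
      have := R0.mul_mem ((hZ01 (Z0.inv_mem h1')).1) hr
      simpa [mul_assoc] using this)
  by_cases hUV : U ≤ omegaZ U
  · refine hlt.not_ge fun t ht' => ?_
    obtain ⟨f, hf, hw⟩ := hcov t ht'
    rw [← mul_inv_cancel_left f t]
    exact TR.mul_mem (hRTR (omegaZ_le R hf)) (hVTR (hUV hw))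
  by_cases hRR0 : R ≤ R0
  · -- `T ⊓ N(R) = R0 V`
    have hsup : omegaZ U ⊔ R0 = TR := by
      refine eq_of_le_of_card_ge (sup_le hVTR ((omegaZ_le R).trans hRTR)) ?_
      have h1 := CfsgLib.Solvable.card_sup_mul_card_inf (A := omegaZ U) (K := R0)
        ((hVTR.trans inf_le_right).trans hXR0)
      have h2 : Nat.card (omegaZ U ⊓ R0 : Subgroup G) ≤ q := hZq ▸
        Nat.le_of_dvd Nat.card_pos (card_dvd_of_le fun w hw => hR0Z w hw.1 hw.2)
      rw [htX.card_T, hqeq, le_antisymm hRR0 (omegaZ_le R), hR0c]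
      refine Nat.le_of_mul_le_mul_right ?_ (show 0 < q by omega)
      calc q * q ^ 2 * q = Nat.card (omegaZ U) * Nat.card R0 := by rw [hVq, hR0c]; ring
        _ = _ := h1.symm
        _ ≤ _ := Nat.mul_le_mul_left _ h2
    refine hp₀R (hnormR0 p₀ hp₀T (mem_normalizer_of_conj_le fun r hr => ?_))
    have hcase : ∀ x ∈ R0, x ∉ U → p₀ * x * p₀⁻¹ ∈ R0 := by
      intro x hx hxU
      set y := p₀ * x * p₀⁻¹
      have hyT : y ∈ TR := (mem_normalizer_iff.1 hp₀N x).1 (hRTR (omegaZ_le R hx))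
      have hy2 : y * y = 1 := by
        simp only [y]
        rw [show p₀ * x * p₀⁻¹ * (p₀ * x * p₀⁻¹) = p₀ * (x * x) * p₀⁻¹ by group, hR0sq x hx, mul_one,
          mul_inv_cancel]
      have hyU : y ∉ U := fun hh => hxU ((mem_normalizer_iff.1 (L.M_le (L.T_le hp₀T)) x).2 hh)
      have hsup' : y ∈ omegaZ U ⊔ R0 := hsup.symm ▸ hyT
      obtain ⟨v, hv, r', hr', hvr⟩ :=
        (CfsgLib.Solvable.mem_sup_of_le_normalizer ((hVTR.trans inf_le_right).trans hXR0)).1 hsup'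
      have hr'U : r' ∉ U := fun hh => hyU (hvr ▸ U.mul_mem (omegaZ_le U hv) hh)
      have hcomm : Commute r' v := by
        rw [← hvr] at hy2
        have h1 : v * r' = (v * r')⁻¹ := eq_inv_of_mul_eq_one_left hy2
        rw [mul_inv_rev, inv_eq_of_mul_eq_one_right (hR0sq r' hr'), inv_eq_of_mul_eq_one_right (hVc v hv)] at h1
        exact h1.symm
      have hvZ : v ∈ Z0 := ⟨hv, ht.fix r' (hR0T hr') hr'U v hv hcomm⟩
      rw [← hvr]
      exact R0.mul_mem (hZ01 hvZ).1 hr'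
    by_cases hrU : r ∈ U
    · have hrZ : r ∈ Z0 := hinfU ▸ ⟨hr, hrU⟩
      rw [mem_centralizer_iff.1 hrZ.2 p₀ hp₀T, mul_inv_cancel_right]
      exact hr
    · exact hcase r hr hrU
  -- the squares of elements of order four fill `R0`
  let R2 : Subgroup G :=
    { carrier := {x | x ∈ R ∧ x * x ∈ R0}
      one_mem' := ⟨R.one_mem, by rw [mul_one]; exact R0.one_mem⟩
      mul_mem' := fun {a b} ha hb => ⟨R.mul_mem ha.1 hb.1, by
        rw [show a * b * (a * b) = a * (b * a) * b by group, htX.abelian b hb.1 a ha.1,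
          show a * (a * b) * b = (a * a) * (b * b) by group]
        exact R0.mul_mem ha.2 hb.2⟩
      inv_mem' := fun {a} ha => ⟨R.inv_mem ha.1, by rw [← mul_inv_rev]; exact R0.inv_mem ha.2⟩ }
  let sq : R2 →* R0 :=
    { toFun := fun x => ⟨(x : G) * x, x.2.2⟩
      map_one' := Subtype.ext (mul_one 1)
      map_mul' := fun a b => Subtype.ext (by
        show (a : G) * b * ((a : G) * b) = a * a * ((b : G) * b)
        rw [show (a : G) * b * ((a : G) * b) = a * ((b : G) * a) * b by group, htX.abelian b b.2.1 a a.2.1]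
        group) }
  set S := sq.range.map R0.subtype
  have hSX : ∀ g ∈ X, ∀ s ∈ S, g * s * g⁻¹ ∈ S := by
    rintro g hg _ ⟨_, ⟨x, rfl⟩, rfl⟩
    refine ⟨_, ⟨⟨g * x * g⁻¹, (mem_normalizer_iff.1 hg _).1 x.2.1, ?_⟩, rfl⟩, ?_⟩
    · rw [show g * (x : G) * g⁻¹ * (g * x * g⁻¹) = g * (x * x) * g⁻¹ by group]
      exact omegaZ_conj hg x.2.2
    · show g * (x : G) * g⁻¹ * (g * x * g⁻¹) = g * ((x : G) * x) * g⁻¹
      group
  have hSR0 : S ≤ R0 := map_subtype_le _
  have hS1 : S ≠ ⊥ := fun hS => hRR0 fun r hr => by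
    obtain ⟨k, hk⟩ := hR2 ⟨r, hr⟩
    have hk' : r ^ 2 ^ k = 1 := congrArg Subtype.val hk
    clear hk
    induction k generalizing r with
    | zero => rw [pow_zero, pow_one] at hk'; exact hk' ▸ R0.one_mem
    | succ k ih =>
      have hr2 : r * r ∈ R0 := ih (r * r) (R.mul_mem hr hr) (by
        rw [← pow_two, ← pow_mul, ← pow_succ']; exact hk')
      have hm : r * r ∈ S := ⟨_, ⟨⟨r, hr, hr2⟩, rfl⟩, rfl⟩
      rw [hS, mem_bot] at hm
      exact htX.omega r hr hm
  have hS : S = R0 := by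
    haveI := hTR2.isNilpotent
    haveI : (S.subgroupOf TR).Normal := ⟨fun x hx g => hSX g g.2.2 x hx⟩
    have hne : S.subgroupOf TR ≠ ⊥ := fun e => hS1 (eq_bot_iff.2 fun s hs => by
      have hm : (⟨s, hRTR (omegaZ_le R (hSR0 hs))⟩ : TR) ∈ S.subgroupOf TR := hs
      rw [e, mem_bot] at hm
      exact mem_bot.2 (congrArg Subtype.val hm))
    obtain ⟨w, hw, hw1⟩ := (S.subgroupOf TR ⊓ center TR).bot_or_exists_ne_one.resolve_left
      (CfsgLib.PGroupBasic.inf_center_ne_bot _ hne)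
    have hwZ : (w : G) ∈ Z1 := ⟨hSR0 hw.1, mem_centralizer_iff.2 fun t htt =>
      congrArg Subtype.val (mem_center_iff.1 hw.2 ⟨t, htt⟩)⟩
    have hw1' : (w : G) ≠ 1 := fun e => hw1 (Subtype.ext e)
    have hZS : Z0 ≤ S := by
      intro x hx
      by_cases hx1 : x = 1
      · exact hx1 ▸ S.one_mem
      obtain ⟨δ, hδ, hδw⟩ := htrans w hwZ hw1'
      obtain ⟨δ', hδ', hδx⟩ := htrans x (hZ01 hx) hx1
      have hzS : z ∈ S := by
        have := hSX δ⁻¹ (inv_mem (LX.D_le hδ)) (w : G) hw.1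
        rw [← hδw] at this
        simpa [mul_assoc] using this
      rw [← hδx]
      exact hSX δ' (LX.D_le hδ') z hzS
    obtain ⟨x, hxX, hxM⟩ := SetLike.not_le_iff_exists.1 hR.out
    refine eq_of_le_of_card_ge hSR0 ?_
    rw [hR0c, pow_two, ← hZq]
    rw [← Nat.card_prod]
    refine Nat.card_le_card_of_injective (fun p : Z0 × Z0 => (⟨(p.1 : G) * (x * p.2 * x⁻¹),
      mul_mem (hZS p.1.2) (hSX x hxX _ (hZS p.2.2))⟩ : S)) ?_
    intro p p' e
    have e1 : (p.1 : G) * (x * p.2 * x⁻¹) = p'.1 * (x * p'.2 * x⁻¹) := congrArg Subtype.val e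
    have e2 : x * ((p.2 : G) * (p'.2 : G)⁻¹) * x⁻¹ = (p.1 : G)⁻¹ * p'.1 := by
      calc x * ((p.2 : G) * (p'.2 : G)⁻¹) * x⁻¹
          = (p.1 : G)⁻¹ * ((p.1 : G) * (x * p.2 * x⁻¹)) * (x * p'.2 * x⁻¹)⁻¹ := by group
        _ = _ := by rw [e1]; group
    have h1 : (p.2 : G) * (p'.2 : G)⁻¹ = 1 := by
      by_contra hne
      have hm := Z0.mul_mem p.2.2 (Z0.inv_mem p'.2.2)
      refine hxM (C.norm (mem_normalizer_of_conj_le fun t htT => ?_))
      refine C.cent_fixed h (e2 ▸ Z0.mul_mem (Z0.inv_mem p.1.2) p'.1.2) (fun e' => hne (conj_eq_one_iff.1 e')) ?_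
      exact (show Commute ((p.2 : G) * (p'.2 : G)⁻¹) t from (mem_centralizer_iff.1 hm.2 t htT).symm).map
        (MulAut.conj x).toMonoidHom
    rw [h1, mul_one, mul_inv_cancel] at e2
    exact Prod.ext (Subtype.ext (inv_mul_eq_one.1 e2.symm)) (Subtype.ext (mul_inv_eq_one.1 h1))
  -- counting the elements of order at most four
  have hR2c : Nat.card R2 = q ^ 2 * q ^ 2 := by
    have h1 : Nat.card sq.range = q ^ 2 := by
      rw [Nat.card_congr (sq.range.equivMapOfInjective R0.subtype R0.subtype_injective).toEquiv, ← hR0c]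
      exact congrArg (fun H : Subgroup G => Nat.card H) hS
    have h2 : Nat.card sq.ker = q ^ 2 := by
      rw [← hR0c]
      exact Nat.card_congr
        { toFun := fun x => ⟨((x : R2) : G), htX.omega _ (x : R2).2.1 (congrArg Subtype.val x.2)⟩
          invFun := fun x => ⟨⟨x, omegaZ_le R x.2, by rw [hR0sq x x.2]; exact R0.one_mem⟩,
            Subtype.ext (hR0sq x x.2)⟩
          left_inv := fun x => rfl
          right_inv := fun x => rfl }
    calc Nat.card R2 = Nat.card sq.ker * Nat.card sq.range := by rw [← index_ker, card_mul_index]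
      _ = _ := by rw [h1, h2]
  have hR2T : R2 ≤ T := fun x hx => hR.le_T hx.1
  have hR2U : Nat.card (R2 ⊓ U : Subgroup G) ≤ q * q := by
    let f : (R2 ⊓ U : Subgroup G) →* R0 := sq.comp (inclusion inf_le_left)
    have hker : Nat.card f.ker ≤ q := by
      rw [← hZq]
      refine Nat.card_le_card_of_injective (fun x => (⟨((x : (R2 ⊓ U : Subgroup G)) : G), ?_⟩ : Z0))
        fun a b e' => Subtype.ext (Subtype.ext (congrArg (fun z : Z0 => (z : G)) e'))
      have hsq' : ((x : (R2 ⊓ U : Subgroup G)) : G) * (x : (R2 ⊓ U : Subgroup G)) = 1 := congrArg Subtype.val x.2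
      exact hinfU ▸ ⟨htX.omega _ (x : (R2 ⊓ U : Subgroup G)).2.1.1 hsq', (x : (R2 ⊓ U : Subgroup G)).2.2⟩
    have hran : Nat.card f.range ≤ q := by
      rw [← hZq, ← hinfU]
      refine Nat.card_le_card_of_injective (fun x => (⟨((x : R0) : G), (x : R0).2, ?_⟩ : (R0 ⊓ U : Subgroup G)))
        fun a b e' => Subtype.ext (Subtype.ext (congrArg (fun z : (R0 ⊓ U : Subgroup G) => (z : G)) e'))
      obtain ⟨y, hy⟩ := x.2
      rw [← hy]
      exact U.mul_mem y.2.2 y.2.2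
    calc Nat.card (R2 ⊓ U : Subgroup G) = Nat.card f.ker * Nat.card f.range := by
          rw [← index_ker, card_mul_index]
      _ ≤ q * q := Nat.mul_le_mul hker hran
  have h2 := CfsgLib.Solvable.card_sup_mul_card_inf (A := R2) (K := U) ((hR2T.trans L.T_le).trans L.M_le)
  have h3 : Nat.card (R2 ⊔ U : Subgroup G) ≤ q * Nat.card U :=
    ht.card_T ▸ Nat.le_of_dvd Nat.card_pos (card_dvd_of_le (sup_le hR2T L.U_le))
  have h4 : q ^ 2 * q ^ 2 * Nat.card U ≤ q * Nat.card U * (q * q) := by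
    rw [← hR2c, ← h2]
    exact Nat.mul_le_mul h3 hR2U
  have hpos : 0 < Nat.card U := Nat.card_pos
  have h5 : q ^ 2 * q ^ 2 ≤ q * (q * q) :=
    Nat.le_of_mul_le_mul_right (h4.trans (le_of_eq (by ring))) hpos
  nlinarith [Nat.mul_le_mul hq hq]

end Ctx

/-- The outcome of the local analysis. -/
theorem exists_second (h : IsCIT G) (hgood : Good G) (hO2 : Cfsg.pCore 2 G = ⊥)
    (hnse : ¬ ∃ K : Subgroup G, Cfsg.IsStronglyEmbedded K)
    (hloc : ∃ R : Subgroup G, IsPGroup 2 R ∧ R ≠ ⊥ ∧ ¬ Group.IsSolvable (normalizer (R : Set G))) :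
    ∃ (q : ℕ) (M X V E T D : Subgroup G) (u u' : G), Second q M X V E T D u u' := by
  obtain ⟨M, U, hU2, hU1, hM, hns, hcore, hmaxl⟩ := exists_max_local hloc
  obtain ⟨T, hUT, hTM, hT2, hTmax⟩ := exists_sylow_in (hM ▸ le_normalizer : U ≤ M) hU2
  subst hM
  obtain ⟨D, u, q, L⟩ := exists_loc_of_good h hgood hU2 hU1 hns hcore hTM hT2 hTmax
  by_cases hP : normalizer (T : Set G) ≤ normalizer (U : Set G)
  swap
  · obtain ⟨g, hgT, hgM⟩ := SetLike.not_le_iff_exists.1 hP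
    exact second_of_not_normalizer h hgood L hmaxl hgT hgM
  have hTsyl : ∀ P : Subgroup G, IsPGroup 2 P → T ≤ P → P = T := by
    intro P hP2 hle
    by_contra hne
    obtain ⟨p, hpP, hpT, hpN⟩ := exists_normalizing hP2 (lt_of_le_of_ne hle (Ne.symm hne))
    have h2 : IsPGroup 2 (T ⊔ zpowers p : Subgroup G) := hP2.to_le (sup_le hle (zpowers_le.2 hpP))
    exact hpT (hTmax _ (sup_le hTM (zpowers_le.2 (hP hpN))) h2 le_sup_left ▸ mem_sup_right (mem_zpowers p))
  have hMtop : normalizer (U : Set G) ≠ ⊤ := fun e => hU1 (le_bot_iff.1 (hO2 ▸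
    CfsgLib.Solvable.le_pCore 2 (normalizer_eq_top_iff.1 e) hU2))
  obtain ⟨R, hR⟩ := exists_escape L hMtop hP hTsyl hnse
  have C : Ctx _ U T D u q := ⟨L, hmaxl, hP, hTsyl⟩
  exact C.second_of_eq h hgood hR (C.eq_of_escape h hgood hR)

end CfsgLib.CIT
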