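import Cfsg.Agent.Invol.Dihedral
import Cfsg.Agent.Frobenius.Fpf
import Cfsg.Agent.Solvable.Basics
import Cfsg.Agent.ZStar.RankOneApps
import Cfsg.Agent.SpecFive.Local
import Cfsg.Agent.OddEnd.FourteenFinal
import Cfsg.Prelude.Def_Solvable
import Mathlib.GroupTheory.Perm.Cycle.Type

/-!
# Groups in which centralisers of involutions are 2-groups: first properties
-/

set_option autoImplicit false
set_option linter.style.haveILetI false
set_option linter.unusedSectionVars false

namespace CfsgLib.CIT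

open Subgroup

universe u v

/-- The centraliser of every involution is a 2-group. -/
def IsCIT (G : Type u) [Group G] : Prop :=
  ∀ t : G, orderOf t = 2 → IsPGroup 2 (centralizer ({t} : Set G))

/-- An automorphism of prime power order fixing a coset of an invariant 2-subgroup, of order prime to it,
fixes an element of that coset. -/
theorem exists_fixed_coset {K : Type u} [Group K] [Finite K] (σ : MulAut K) {p n : ℕ} (hp : p.Prime)
    (hp2 : p ≠ 2) (hσ : σ ^ p ^ n = 1) (N : Subgroup K) (hN : IsPGroup 2 N) (hinv : ∀ x ∈ N, σ x ∈ N) {u : K}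
    (hu : u⁻¹ * σ u ∈ N) : ∃ u' : K, u⁻¹ * u' ∈ N ∧ σ u' = u' := by
  classical
  haveI := Fact.mk hp
  haveI : Fintype {z : K // u⁻¹ * z ∈ N} := Fintype.ofFinite _
  have hpow : ∀ (k : ℕ) (z : K), u⁻¹ * z ∈ N → u⁻¹ * (σ ^ k) z ∈ N := by
    intro k
    induction k with
    | zero => intro z hz; simpa using hz
    | succ k ih =>
      intro z hz
      rw [pow_succ', MulAut.mul_apply]
      have h := hinv _ (ih z hz)
      rw [map_mul, map_inv] at h
      simpa [mul_assoc] using mul_mem hu h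
  let f : {z : K // u⁻¹ * z ∈ N} → {z : K // u⁻¹ * z ∈ N} := fun z => ⟨σ z.1, by simpa using hpow 1 z.1 z.2⟩
  have hf : Function.Injective f := fun a b h => Subtype.ext (σ.injective (congrArg Subtype.val h))
  set π := Equiv.ofBijective f (Finite.injective_iff_bijective.1 hf) with hπ
  have hπk : ∀ (k : ℕ) z, ((π ^ k) z).1 = (σ ^ k) z.1 := by
    intro k
    induction k with
    | zero => intro z; rfl
    | succ k ih =>
      intro z
      rw [pow_succ', Equiv.Perm.mul_apply, pow_succ', MulAut.mul_apply, ← ih]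
      rfl
  have h1 : π ^ p ^ n = 1 := Equiv.ext fun z => Subtype.ext (by rw [hπk, hσ]; rfl)
  have hnd : ¬ p ∣ Fintype.card {z : K // u⁻¹ * z ∈ N} := by
    rw [← Nat.card_eq_fintype_card, Nat.card_congr
      (Equiv.subtypeEquiv (p := fun z => u⁻¹ * z ∈ N) (q := fun z => z ∈ N) (Equiv.mulLeft u⁻¹) fun _ => Iff.rfl)]
    obtain ⟨m, hm⟩ := hN.exists_card_eq
    rw [show Nat.card {z : K // z ∈ N} = Nat.card N from rfl, hm]
    exact fun h => hp2 ((Nat.prime_dvd_prime_iff_eq hp Nat.prime_two).1 (hp.dvd_of_dvd_pow h))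
  obtain ⟨z, hz⟩ := Equiv.Perm.exists_fixed_point_of_prime hnd h1
  exact ⟨z.1, z.2, congrArg Subtype.val hz⟩

variable {G : Type u} [Group G]

theorem conjAut_pow (g : G) (k : ℕ) : (MulAut.conj g) ^ k = MulAut.conj (g ^ k) := (map_pow _ g k).symm

theorem exists_prime_pow_of_odd [Finite G] {x : G} (hx : Odd (orderOf x)) (h1 : x ≠ 1) :
    ∃ k : ℕ, (orderOf (x ^ k)).Prime ∧ orderOf (x ^ k) ≠ 2 := by
  set n := orderOf x
  have hn : n ≠ 1 := fun e => h1 (orderOf_eq_one_iff.1 e)
  obtain ⟨p, hp, m, hm⟩ := Nat.exists_prime_and_dvd hn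
  have hpn : 0 < n := (isOfFinOrder_of_finite x).orderOf_pos
  have hm0 : m ≠ 0 := fun e => by rw [e, mul_zero] at hm; omega
  refine ⟨m, ?_⟩
  have : orderOf (x ^ m) = p := by
    rw [orderOf_pow' x hm0, show orderOf x = p * m from hm, Nat.gcd_mul_left_left,
      Nat.mul_div_cancel _ (Nat.pos_of_ne_zero hm0)]
  rw [this]
  refine ⟨hp, fun e => Nat.not_even_iff_odd.2 hx (even_iff_two_dvd.2 ?_)⟩
  exact hm ▸ e ▸ dvd_mul_right p m

theorem eq_one_of_odd_of_pow {x : G} {k : ℕ} (hx : Odd (orderOf x)) (h : x ^ 2 ^ k = 1) : x = 1 := by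
  rw [← orderOf_eq_one_iff]
  exact Nat.eq_one_of_dvd_coprimes ((Nat.coprime_two_right.2 hx).pow_right k) dvd_rfl
    (orderOf_dvd_of_pow_eq_one h)

theorem eq_one_of_odd_of_mem {N : Subgroup G} (hN : IsPGroup 2 N) {x : G} (hx : Odd (orderOf x)) (hm : x ∈ N) :
    x = 1 := by
  obtain ⟨k, hk⟩ := hN ⟨x, hm⟩
  exact eq_one_of_odd_of_pow hx (congrArg Subtype.val hk)

theorem mem_centralizer_self_iff {t x : G} : x ∈ centralizer ({t} : Set G) ↔ Commute t x := by
  rw [mem_centralizer_iff]; simp [Commute, SemiconjBy]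

theorem orderOf_inv_mul_eq {x y : G} : orderOf (x * y) = orderOf (y * x) := by
  rw [← CfsgLib.Invol.orderOf_conj_eq y (x * y)]
  congr 1
  group

namespace IsCIT

theorem eq_one_of_commute (h : IsCIT G) {t x : G} (ht : orderOf t = 2) (hc : Commute t x)
    (hx : Odd (orderOf x)) : x = 1 :=
  eq_one_of_odd_of_mem (h t ht) hx (mem_centralizer_self_iff.2 hc)

theorem eq_one_of_commute' (h : IsCIT G) {a x : G} (ha : a ≠ 1) {k : ℕ} (hk : a ^ 2 ^ k = 1)
    (hc : Commute a x) (hx : Odd (orderOf x)) : x = 1 := by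
  induction k generalizing a with
  | zero => exact absurd (by simpa using hk) ha
  | succ k ih =>
    by_cases h2 : a ^ 2 = 1
    · exact h.eq_one_of_commute (orderOf_eq_prime h2 ha) hc hx
    · exact ih h2 (by rw [← pow_mul, ← pow_succ']; exact hk) (hc.pow_left 2)

/-- Every element has odd or 2-power order. -/
theorem odd_or_two_pow [Finite G] (h : IsCIT G) (x : G) : Odd (orderOf x) ∨ ∃ k, orderOf x = 2 ^ k := by
  rcases Nat.even_or_odd (orderOf x) with he | ho
  · right
    have ht := CfsgLib.Invol.orderOf_pow_half (isOfFinOrder_of_finite x) he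
    obtain ⟨k, hk⟩ := IsPGroup.iff_orderOf.1 (h _ ht)
      ⟨x, mem_centralizer_self_iff.2 ((Commute.refl x).pow_left _)⟩
    exact ⟨k, by rw [← hk, orderOf_mk]⟩
  · exact Or.inl ho

theorem of_injective {H : Type v} [Group H] (h : IsCIT G) (f : H →* G) (hf : Function.Injective f) :
    IsCIT H := by
  intro t ht
  refine (h (f t) (by rwa [orderOf_injective f hf])).of_injective
    ((f.comp (centralizer ({t} : Set H)).subtype).codRestrict _ fun x => ?_) fun a b e => ?_
  · exact mem_centralizer_self_iff.2 ((mem_centralizer_self_iff.1 x.2).map f)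
  · exact Subtype.ext (hf (congrArg Subtype.val e))

theorem subgroup (h : IsCIT G) (H : Subgroup G) : IsCIT H := h.of_injective H.subtype H.subtype_injective

variable [Finite G]

/-- If an element of odd order normalises a coset of a normal 2-subgroup outside it, it is trivial. -/
theorem eq_one_of_commute_mod (h : IsCIT G) {N : Subgroup G} [N.Normal] (hN : IsPGroup 2 N) {t x : G}
    (ht : t ∉ N) {j : ℕ} (ht2 : t ^ 2 ^ j ∈ N) (hx : Odd (orderOf x))
    (hc : t⁻¹ * (x * t * x⁻¹) ∈ N) : x = 1 := by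
  by_contra hx1
  obtain ⟨k, hp, hp2⟩ := exists_prime_pow_of_odd hx hx1
  have hck : ∀ k : ℕ, t⁻¹ * (x ^ k * t * (x ^ k)⁻¹) ∈ N := by
    intro k
    induction k with
    | zero => simp
    | succ k ih =>
      have h1 := Normal.conj_mem inferInstance _ ih x
      have h2 := mul_mem hc h1
      rw [pow_succ']
      convert h2 using 1
      group
  obtain ⟨t', ht', hfix⟩ := exists_fixed_coset (MulAut.conj (x ^ k)) (n := 1) hp hp2
    (by rw [pow_one, conjAut_pow, pow_orderOf_eq_one, map_one]) N hN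
    (fun z hz => Normal.conj_mem inferInstance z hz _) (u := t) (hck k)
  have hcomm : Commute t' (x ^ k) := by
    rw [MulAut.conj_apply] at hfix
    exact (mul_inv_eq_iff_eq_mul.1 hfix).symm
  have ht'N : t' ∉ N := fun hm => ht (by simpa [mul_assoc] using mul_mem hm (inv_mem ht'))
  have h2 : t' ^ 2 ^ j ∈ N := by
    rw [← QuotientGroup.eq_one_iff, QuotientGroup.mk_pow,
      show (QuotientGroup.mk t' : G ⧸ N) = QuotientGroup.mk t from (QuotientGroup.eq.2 ht').symm,
      ← QuotientGroup.mk_pow, QuotientGroup.eq_one_iff]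
    exact ht2
  obtain ⟨i, hi⟩ := hN ⟨_, h2⟩
  have hi' : t' ^ 2 ^ (j + i) = 1 := by
    rw [pow_add, pow_mul]; exact congrArg Subtype.val hi
  have hodd : Odd (orderOf (x ^ k)) := hp.odd_of_ne_two hp2
  have := h.eq_one_of_commute' (fun e => ht'N (by rw [e]; exact one_mem N)) hi' hcomm hodd
  rw [this, orderOf_one] at hp
  exact Nat.not_prime_one hp

theorem quotient (h : IsCIT G) (N : Subgroup G) [N.Normal] (hN : IsPGroup 2 N) : IsCIT (G ⧸ N) := by
  intro t ht
  obtain ⟨a, rfl⟩ := QuotientGroup.mk_surjective t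
  have haN : a ∉ N := fun e => by
    rw [(QuotientGroup.eq_one_iff a).2 e, orderOf_one] at ht; omega
  have ha2 : a ^ 2 ^ 1 ∈ N := by
    rw [← QuotientGroup.eq_one_iff, QuotientGroup.mk_pow, pow_one, ← ht, pow_orderOf_eq_one]
  intro c
  obtain ⟨x, hx⟩ := QuotientGroup.mk_surjective (c : G ⧸ N)
  set o := orderOf x
  have ho : o ≠ 0 := (isOfFinOrder_of_finite x).orderOf_pos.ne'
  obtain ⟨e, m, hm, hom⟩ := Nat.exists_eq_two_pow_mul_odd ho
  have hy : Odd (orderOf (x ^ 2 ^ e)) := by
    rw [orderOf_pow' x (by positivity), show orderOf x = 2 ^ e * m from hom, Nat.gcd_mul_right_left,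
      Nat.mul_div_cancel_left _ (by positivity)]
    exact hm
  have hcc : Commute (QuotientGroup.mk a : G ⧸ N) (QuotientGroup.mk (x ^ 2 ^ e)) := by
    rw [QuotientGroup.mk_pow, hx]
    exact (mem_centralizer_self_iff.1 c.2).pow_right _
  have hmem : a⁻¹ * (x ^ 2 ^ e * a * (x ^ 2 ^ e)⁻¹) ∈ N := by
    rw [← QuotientGroup.eq, QuotientGroup.mk_mul, QuotientGroup.mk_mul, QuotientGroup.mk_inv, ← hcc.eq,
      mul_inv_cancel_right]
  refine ⟨e, Subtype.ext ?_⟩
  rw [SubmonoidClass.coe_pow, ← hx, ← QuotientGroup.mk_pow,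
    h.eq_one_of_commute_mod hN haN ha2 hy hmem]
  rfl

/-- An involution normalising a subgroup of odd order inverts it. -/
theorem inverts (h : IsCIT G) {A : Subgroup G} (hA : Odd (Nat.card A)) {t : G} (ht : orderOf t = 2)
    (hn : t ∈ normalizer (A : Set G)) {a : G} (ha : a ∈ A) : t * a * t⁻¹ = a⁻¹ := by
  let f : A →* A :=
    { toFun := fun a => ⟨t * a * t⁻¹, (mem_normalizer_iff.1 hn _).1 a.2⟩
      map_one' := Subtype.ext (by simp)
      map_mul' := fun a b => Subtype.ext (by simp [mul_assoc]) }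
  have hff : ∀ a, f (f a) = a := fun a => Subtype.ext (by
    show t * (t * a * t⁻¹) * t⁻¹ = (a : G)
    rw [CfsgLib.Invol.inv_eq_self ht, show t * (t * (a : G) * t) * t = t * t * a * (t * t) by group,
      CfsgLib.Invol.mul_self_eq_one ht, one_mul, mul_one])
  let σ : MulAut A := MonoidHom.toMulEquiv f f (MonoidHom.ext hff) (MonoidHom.ext hff)
  have hfix : ∀ b : A, σ b = b → b = 1 := fun b hb => by
    have hb' : t * (b : G) * t⁻¹ = b := congrArg Subtype.val hb
    exact Subtype.ext (h.eq_one_of_commute ht (mul_inv_eq_iff_eq_mul.1 hb')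
      (hA.of_dvd_nat (orderOf_dvd_natCard A b.2)))
  exact congrArg Subtype.val (CfsgLib.Frobenius.fpf_inv σ hfix (MulEquiv.ext hff) ⟨a, ha⟩)

/-- A subgroup of odd order normalised by two commuting involutions is trivial. -/
theorem eq_bot_of_klein (h : IsCIT G) {A : Subgroup G} (hA : Odd (Nat.card A)) {a b : G}
    (ha : orderOf a = 2) (hb : orderOf b = 2) (hab : a ≠ b) (hc : Commute a b)
    (hna : a ∈ normalizer (A : Set G)) (hnb : b ∈ normalizer (A : Set G)) : A = ⊥ := by
  rw [eq_bot_iff]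
  intro x hx
  have hab2 : orderOf (a * b) = 2 := by
    refine CfsgLib.Invol.orderOf_eq_two ?_ fun e => hab ?_
    · rw [show a * b * (a * b) = a * (b * a) * b by group, hc.symm.eq,
        show a * (a * b) * b = (a * a) * (b * b) by group, CfsgLib.Invol.mul_self_eq_one ha,
        CfsgLib.Invol.mul_self_eq_one hb, one_mul]
    · rw [mul_eq_one_iff_eq_inv.1 e, CfsgLib.Invol.inv_eq_self hb]
  have e : a * b * x * (a * b)⁻¹ = x := by
    calc a * b * x * (a * b)⁻¹ = a * (b * x * b⁻¹) * a⁻¹ := by group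
      _ = (a * x * a⁻¹)⁻¹ := by rw [h.inverts hA hb hnb hx]; group
      _ = x := by rw [h.inverts hA ha hna hx, inv_inv]
  exact mem_bot.2 (h.eq_one_of_commute hab2 (mul_inv_eq_iff_eq_mul.1 e)
    (hA.of_dvd_nat (orderOf_dvd_natCard A hx)))

/-- A nonsolvable group whose involutions have 2-group centralisers contains two commuting involutions. -/
theorem exists_klein (h : IsCIT G) (hns : ¬ Group.IsSolvable G) :
    ∃ a b : G, orderOf a = 2 ∧ orderOf b = 2 ∧ a ≠ b ∧ Commute a b := by
  by_contra hcon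
  push Not at hcon
  rcases Nat.even_or_odd (Nat.card G) with he | ho
  swap
  · exact hns (CfsgLib.OddEnd.odd_solvable G ho)
  have hno : ∀ E : Subgroup G, ¬ IsKleinFour E := fun E hE => by
    haveI := hE
    haveI : Nontrivial E := Finite.one_lt_card_iff_nontrivial.1 (by rw [hE.card_four]; norm_num)
    have h2 : ∀ x : E, x ≠ 1 → orderOf (x : G) = 2 := fun x hx => by
      rw [orderOf_coe]
      refine orderOf_eq_prime (hp := ⟨Nat.prime_two⟩) ?_ hx
      rw [← hE.exponent_two]; exact Monoid.pow_exponent_eq_one x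
    obtain ⟨x, hx⟩ := exists_ne (1 : E)
    obtain ⟨y, hy, hyx⟩ : ∃ y : E, y ≠ 1 ∧ y ≠ x := by
      by_contra hh
      push Not at hh
      have : Nat.card E ≤ 2 := by
        rw [← Set.ncard_univ]
        refine (Set.ncard_le_ncard (t := ({1, x} : Set E)) (fun z _ => ?_)).trans
          ((Set.ncard_insert_le _ _).trans (by rw [Set.ncard_singleton]))
        by_cases hz : z = 1
        · simp [hz]
        · exact Or.inr (hh z hz)
      rw [hE.card_four] at this
      omega
    refine hcon x y (h2 x hx) (h2 y hy) (fun e => hyx (Subtype.ext e.symm)) ?_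
    exact congrArg Subtype.val (mul_comm_of_exponent_two (G := E) hE.exponent_two x y)
  obtain ⟨z, hz, N, hN, hNodd, hNc⟩ := CfsgLib.ZStar.exists_central_modulo he hno
  haveI := hN
  haveI : Group.IsSolvable N := CfsgLib.OddEnd.odd_solvable N hNodd
  haveI : Fact (Nat.Prime 2) := ⟨Nat.prime_two⟩
  have hp : IsPGroup 2 (G ⧸ N) := by
    intro q
    obtain ⟨g, rfl⟩ := QuotientGroup.mk_surjective q
    set w := g * z * g⁻¹ with hw
    have hwz : z * w ∈ N := by
      have := hNc g
      rwa [CfsgLib.Invol.inv_eq_self hz, show z * g * z * g⁻¹ = z * (g * z * g⁻¹) by group] at this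
    have hw2 : orderOf w = 2 := by rw [hw, CfsgLib.Invol.orderOf_conj_eq, hz]
    obtain ⟨d, hd, hdz⟩ := CfsgLib.Invol.exists_conj_of_odd hz hw2
      (hNodd.of_dvd_nat (orderOf_dvd_natCard N hwz))
    have hle : closure ({z, w} : Set G) ≤ zpowers z ⊔ N := by
      rw [closure_le]
      rintro s (rfl | rfl)
      · exact mem_sup_left (mem_zpowers _)
      · rw [show (w : G) = z⁻¹ * (z * w) by group]
        exact mul_mem (mem_sup_left (inv_mem (mem_zpowers z))) (mem_sup_right hwz)
    obtain ⟨i, hi, n, hn, hdn⟩ := mem_sup_of_normal_right.1 (hle hd)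
    have hc : d⁻¹ * g ∈ centralizer ({z} : Set G) := by
      refine mem_centralizer_self_iff.2 ?_
      show z * (d⁻¹ * g) = d⁻¹ * g * z
      calc z * (d⁻¹ * g) = d⁻¹ * (d * z * d⁻¹) * g := by group
        _ = d⁻¹ * (g * z * g⁻¹) * g := by rw [hdz, hw]
        _ = d⁻¹ * g * z := by group
    obtain ⟨j, rfl⟩ := mem_zpowers_iff.1 hi
    have hzc : z ^ j ∈ centralizer ({z} : Set G) :=
      mem_centralizer_self_iff.2 ((Commute.refl z).zpow_right j)
    obtain ⟨k, hk⟩ := h z hz ⟨_, mul_mem hzc hc⟩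
    refine ⟨k, ?_⟩
    have e : (QuotientGroup.mk g : G ⧸ N) = QuotientGroup.mk (z ^ j * (d⁻¹ * g)) := by
      have hz' : (QuotientGroup.mk d : G ⧸ N) = QuotientGroup.mk (z ^ j) := by
        rw [← hdn]; exact (QuotientGroup.eq.2 (by simpa using hn)).symm
      rw [QuotientGroup.mk_mul, QuotientGroup.mk_mul, QuotientGroup.mk_inv, hz', mul_inv_cancel_left]
    rw [e, ← QuotientGroup.mk_pow]
    have hk' : (z ^ j * (d⁻¹ * g)) ^ 2 ^ k = 1 := congrArg Subtype.val hk
    rw [hk', QuotientGroup.mk_one]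
  haveI := hp.isNilpotent
  haveI : Group.IsSolvable (G ⧸ N) := inferInstance
  exact hns (Group.isSolvable_of_ker_le_range N.subtype (QuotientGroup.mk' N) (by simp))

/-- A solvable group whose involutions have 2-group centralisers, with trivial 2-core, has no two commuting
involutions. -/
theorem not_klein (h : IsCIT G) [Group.IsSolvable G] (h2 : Cfsg.pCore 2 G = ⊥) {a b : G}
    (ha : orderOf a = 2) (hb : orderOf b = 2) (hab : a ≠ b) (hc : Commute a b) : False := by
  haveI : Nontrivial G := ⟨a, 1, CfsgLib.Invol.ne_one ha⟩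
  obtain ⟨r, A, hr, hAn, hA1, hAr⟩ := CfsgLib.SpecFive.exists_normal_prime_exp (G := G)
  by_cases hr2 : r = 2
  · exact hA1 (le_bot_iff.1 (h2 ▸ CfsgLib.Solvable.le_pCore 2 hAn (hr2 ▸ hAr)))
  · haveI := Fact.mk hr
    have hodd : Odd (Nat.card A) := by
      obtain ⟨k, hk⟩ := hAr.exists_card_eq
      rw [hk]
      exact (hr.odd_of_ne_two hr2).pow
    haveI := hAn
    exact hA1 (h.eq_bot_of_klein hodd ha hb hab hc (normalizer_eq_top (H := A) ▸ mem_top a)
      (normalizer_eq_top (H := A) ▸ mem_top b))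

/-- The centraliser of a central involution of a Sylow 2-subgroup is that Sylow subgroup. -/
theorem centralizer_eq_sylow (h : IsCIT G) (S : Sylow 2 G) {z : G} (hz : orderOf z = 2)
    (hzS : ∀ s ∈ (S : Subgroup G), Commute z s) : centralizer ({z} : Set G) = S :=
  S.3 (h z hz) fun s hs => mem_centralizer_self_iff.2 (hzS s hs)

end IsCIT

end CfsgLib.CIT
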