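import Cfsg.Agent.CITGroups.Basic
import Cfsg.Agent.FrobSystem.Main
import Cfsg.Agent.OddLocal.CNMaxNilpotent
import Cfsg.Agent.OddDep.KleinFour
import Cfsg.Agent.OddEnd.FourteenFinal
import Cfsg.Agent.S0346
import Cfsg.Prelude.Def_LieExceptional

/-!
A non-solvable simple group with nilpotent centralisers is a CIT group.

A maximal nilpotent subgroup `H` containing a Sylow 2-subgroup and not of prime power order is a trivial
intersection set containing the centralisers of its elements; its normaliser is then the point stabiliser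
of a Zassenhaus group with kernel `H`, so `|H|` is a prime power after all.
-/

set_option autoImplicit false
set_option linter.style.haveILetI false
set_option linter.unusedSectionVars false

namespace CfsgLib.CIT

open Subgroup

universe u

variable {G : Type u} [Group G] [Finite G] [IsSimpleGroup G]

/-- A maximal nilpotent subgroup containing a Sylow 2-subgroup is a 2-group. -/
theorem isPGroup_maxNilp_of_sylow_le (hns : ¬ Group.IsSolvable G) (hCN : Cfsg.IsCNGroup G) {H : Subgroup G}
    (hH : CfsgLib.CN.MaxNilp H) (S : Sylow 2 G) (hS : (S : Subgroup G) ≤ H) : IsPGroup 2 H := by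
  classical
  haveI : Fact (Nat.Prime 2) := ⟨Nat.prime_two⟩
  have hsimple : ∀ R : Subgroup G, R.Normal → Group.IsSolvable R → R = ⊥ := fun R hR hs => by
    rcases hR.eq_bot_or_eq_top with e | e
    · exact e
    · subst e
      haveI := hs
      exact absurd (Group.isSolvable_of_surjective (f := (topEquiv : (⊤ : Subgroup G) ≃* G).toMonoidHom)
        topEquiv.surjective) hns
  have h2G : 2 ∣ Nat.card G := by
    by_contra h
    exact hns (CfsgLib.OddEnd.odd_solvable G (Nat.odd_iff.2 (by omega)))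
  have hS1 : (S : Subgroup G) ≠ ⊥ := S.ne_bot_of_dvd_card h2G
  have hH2 : 2 ∣ Nat.card H :=
    ((S.2.card_eq_or_dvd).resolve_left fun e => hS1 (card_eq_one.1 e)).trans (card_dvd_of_le hS)
  by_contra hnp
  have hpp : ¬ IsPrimePow (Nat.card H) := fun hp => hnp (by
    obtain ⟨p, k, hp', -, hk⟩ := (isPrimePow_nat_iff _).1 hp
    have h2 : 2 = p := (Nat.prime_dvd_prime_iff_eq Nat.prime_two hp').1
      (Nat.prime_two.dvd_of_dvd_pow (hk.symm ▸ hH2))
    subst h2
    exact IsPGroup.of_card hk.symm)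
  have hcl := CfsgLib.CN.centLe_of_not_isPrimePow hCN hH hpp
  have hti := CfsgLib.CN.ti_of_centLe hH.1 hcl
  set N := normalizer (H : Set G) with hN
  have hHN : H ≤ N := le_normalizer
  have hkti : ∀ x g : G, x ∈ H → x ≠ 1 → g⁻¹ * x * g ∈ H → g ∈ N := fun x g hx hx1 hg => by
    refine mem_normalizer_iff_map_conj_eq.2 ?_
    by_contra hne
    exact hx1 (mem_bot.1 (hti g hne ▸ ⟨hx, CfsgLib.CN.mem_map_conj.2 hg⟩))
  have hkconj : ∀ a ∈ N, ∀ x ∈ H, a * x * a⁻¹ ∈ H := fun a ha x hx => (mem_normalizer_iff.1 ha x).1 hx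
  have hH1 : H ≠ ⊥ := hH.ne_bot
  have hNtop : N ≠ ⊤ := fun e => hH1 (hsimple H (normalizer_eq_top_iff.1 e)
    (haveI := hH.1; inferInstance))
  have hodd : Odd (H.relIndex N) := by
    have h1 : ¬ 2 ∣ H.index := fun h =>
      absurd ((CfsgLib.CN.coprime_index hCN hH).coprime_dvd_left hH2 |>.coprime_dvd_right h) (by decide)
    exact Nat.odd_iff.2 (Nat.two_dvd_ne_zero.1 fun h => h1 (h.trans (relIndex_dvd_index_of_le hHN)))
  have hsolv : Group.IsSolvable N := by
    haveI : (H.subgroupOf N).Normal := ⟨fun x hx g => hkconj g g.2 x hx⟩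
    haveI : Group.IsSolvable (H.subgroupOf N) := by
      haveI := hH.1
      exact Group.isSolvable_of_isSolvable_injective (f := (subgroupOfEquivOfLe hHN).toMonoidHom)
        (subgroupOfEquivOfLe hHN).injective
    haveI : Group.IsSolvable (N ⧸ H.subgroupOf N) := CfsgLib.OddEnd.odd_solvable _ hodd
    exact Group.isSolvable_of_ker_le_range (H.subgroupOf N).subtype (QuotientGroup.mk' (H.subgroupOf N)) (by simp)
  -- two commuting involutions show that `H` is proper in its normaliser
  have hproper : H ≠ N := by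
    intro heq
    have hstr : Cfsg.IsStronglyEmbedded N := by
      refine ⟨hNtop, even_iff_two_dvd.2 (hH2.trans (card_dvd_of_le hHN)), fun g hg => ?_⟩
      refine Nat.not_even_iff_odd.1 fun he => hg ?_
      obtain ⟨t, ht⟩ := exists_prime_orderOf_dvd_card' 2 (even_iff_two_dvd.1 he)
      rw [← orderOf_coe] at ht
      obtain ⟨htM, htg⟩ := CfsgLib.StrongEmbed.mem_inf_conj_iff.1 t.2
      exact hkti _ _ (le_of_eq heq.symm htM) (CfsgLib.Invol.ne_one ht) (le_of_eq heq.symm htg)
    obtain ⟨z, hzH, hz, hzc⟩ : ∃ z ∈ H, orderOf z = 2 ∧ ∀ h ∈ H, Commute h z := by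
      haveI := hH.1
      obtain ⟨Q⟩ := (inferInstance : Nonempty (Sylow 2 H))
      haveI : (Q : Subgroup H).Normal :=
        Q.normal_of_normalizerCondition Group.normalizerCondition_of_isNilpotent
      have hne := CfsgLib.PGroupBasic.inf_center_ne_bot _ (Q.ne_bot_of_dvd_card hH2)
      obtain ⟨z, hz, hz2⟩ := (show ∃ z ∈ (Q : Subgroup H) ⊓ center H, orderOf z = 2 from by
        obtain ⟨z, hz⟩ := exists_prime_orderOf_dvd_card' (G := ((Q : Subgroup H) ⊓ center H : Subgroup H)) 2
          (((Q.2.to_le inf_le_left).card_eq_or_dvd).resolve_left fun e => hne (card_eq_one.1 e))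
        exact ⟨z, z.2, by rwa [orderOf_coe]⟩)
      exact ⟨z, z.2, by rwa [orderOf_coe], fun h hh =>
        congrArg Subtype.val (mem_center_iff.1 hz.2 ⟨h, hh⟩)⟩
    obtain ⟨E, hE⟩ := CfsgLib.OddDep.exists_klein_of_simple (G := G)
      (fun ho => CfsgLib.OddEnd.odd_solvable G ho)
      (fun hc => hns (haveI := hc; inferInstance))
    haveI := hE
    obtain ⟨a, b, ha, hb, hab, hc⟩ : ∃ a b : G, orderOf a = 2 ∧ orderOf b = 2 ∧ a ≠ b ∧ Commute a b := by
      obtain ⟨x, y, hx, hy, hxy⟩ : ∃ x y : E, x ≠ 1 ∧ y ≠ 1 ∧ x ≠ y := by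
        haveI := Fintype.ofFinite E
        have h4 : 2 < Fintype.card E := by
          rw [← Nat.card_eq_fintype_card, hE.card_four]; norm_num
        obtain ⟨x, hx⟩ := Fintype.exists_ne_of_one_lt_card (by omega) (1 : E)
        obtain ⟨y, hy⟩ : ∃ y : E, y ∉ ({1, x} : Finset E) := by
          by_contra hcon
          push Not at hcon
          have : Fintype.card E ≤ 2 := by
            rw [← Finset.card_univ]
            exact (Finset.card_le_card fun z _ => hcon z).trans Finset.card_le_two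
          omega
        simp only [Finset.mem_insert, Finset.mem_singleton, not_or] at hy
        exact ⟨x, y, hx, hy.1, fun e => hy.2 e.symm⟩
      have h2E : ∀ x : E, x ≠ 1 → orderOf (x : G) = 2 := fun x hx => by
        rw [orderOf_coe]
        refine orderOf_eq_prime ?_ hx
        rw [← hE.exponent_two]; exact Monoid.pow_exponent_eq_one x
      exact ⟨x, y, h2E x hx, h2E y hy, fun e => hxy (Subtype.ext e),
        congrArg Subtype.val (mul_comm_of_exponent_two hE.exponent_two x y)⟩
    obtain ⟨g, hg⟩ := isConj_iff.1 (CfsgLib.StrongEmbed.isConj_of_invols hstr ha hz)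
    have hb' : orderOf (g * b * g⁻¹) = 2 := by rw [CfsgLib.Invol.orderOf_conj_eq, hb]
    have hcz : Commute z (g * b * g⁻¹) := hg ▸ hc.map (MulAut.conj g).toMonoidHom
    have hbH : g * b * g⁻¹ ∈ H :=
      hcl z hzH (CfsgLib.Invol.ne_one hz) (mem_centralizer_singleton_iff.2 hcz.symm.eq)
    obtain ⟨k, hk⟩ := isConj_iff.1 (CfsgLib.StrongEmbed.isConj_of_invols hstr hz hb')
    have hkN : k⁻¹ ∈ N := CfsgLib.StrongEmbed.mem_of_conj_mem hstr (hHN hzH) hz
      (by rw [inv_inv, hk]; exact hHN hbH)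
    have hkH : k ∈ H := by rw [heq]; simpa using N.inv_mem hkN
    refine hab (mul_left_cancel (mul_right_cancel (hg.trans ?_) : g * a = g * b))
    rw [← hk, (hzc k hkH).eq, mul_inv_cancel_right]
  have hEK : CfsgLib.FrobSystem.EvenKernel (fun _ => H) N S :=
    { kle := hHN, kconj := hkconj, kcent := hcl, kti := hkti, ne_top := hNtop, solv := hsolv,
      sylow_le := hS, sylow_ne := hS1, proper := hproper, radical := hsimple }
  haveI : Fintype (G ⧸ N) := Fintype.ofFinite _
  have h346 := Cfsg.Agent.S0346.result hEK.zassenhaus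
  rw [← Nat.card_eq_fintype_card, hEK.transitive.1, Nat.add_sub_cancel] at h346
  exact hpp h346

/-- A simple non-solvable CN-group is a CIT group. -/
theorem isCIT_of_simple_cn (hns : ¬ Group.IsSolvable G) (hCN : Cfsg.IsCNGroup G) : IsCIT G := by
  haveI : Fact (Nat.Prime 2) := ⟨Nat.prime_two⟩
  intro t ht
  obtain ⟨H, hH, hle⟩ := CfsgLib.CN.exists_maxNilp_ge (hCN t (CfsgLib.Invol.ne_one ht))
  have h2 : 2 ∣ Nat.card H := ht ▸ orderOf_mk t (hle (mem_centralizer_singleton_iff.2 rfl)) ▸
    orderOf_dvd_natCard _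
  suffices IsPGroup 2 H from this.to_le hle
  by_cases hpp : IsPrimePow (Nat.card H)
  · obtain ⟨p, k, hp', -, hk⟩ := (isPrimePow_nat_iff _).1 hpp
    have hp2 : 2 = p := (Nat.prime_dvd_prime_iff_eq Nat.prime_two hp').1
      (Nat.prime_two.dvd_of_dvd_pow (hk.symm ▸ h2))
    subst hp2
    exact IsPGroup.of_card hk.symm
  -- `H` is a Hall subgroup of even order, so contains a Sylow 2-subgroup
  obtain ⟨Q⟩ := (inferInstance : Nonempty (Sylow 2 H))
  obtain ⟨S, hS⟩ := (Q.2.map H.subtype).exists_le_sylow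
  have hcl := CfsgLib.CN.centLe_of_not_isPrimePow hCN hH hpp
  obtain ⟨y, hy, hy1⟩ := (Subgroup.bot_or_exists_ne_one _).resolve_left (Q.ne_bot_of_dvd_card h2)
  have hy1' : (y : G) ≠ 1 := fun e => hy1 (Subtype.ext e)
  have hyS : (y : G) ∈ S := hS ⟨y, hy, rfl⟩
  obtain ⟨w, hwS, hw1, hw⟩ := CfsgLib.CN.exists_central S.2.isNilpotent fun e =>
    hy1' (mem_bot.1 (e ▸ hyS))
  have hwH : w ∈ H := hcl _ y.2 hy1' (mem_centralizer_singleton_iff.2 (hw _ hyS).symm.eq)
  exact isPGroup_maxNilp_of_sylow_le hns hCN hH S fun s hs =>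
    hcl _ hwH hw1 (mem_centralizer_singleton_iff.2 (hw s hs).eq)

end CfsgLib.CIT
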