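import Cfsg.Agent.CITGroups.Basic
import Mathlib.GroupTheory.QuotientGroup.Basic
import Mathlib.GroupTheory.Nilpotent

/-!
# Actions in which elements of odd order are fixed-point-free
-/

set_option autoImplicit false
set_option linter.style.haveILetI false
set_option linter.unusedSectionVars false

namespace CfsgLib.CIT

open Subgroup

universe u v

variable {H : Type u} [Group H] [Finite H] {W : Type v} [Group W] [Finite W]

/-- Nontrivial elements of odd order fix only the identity. -/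
def IsOddFpf (φ : H →* MulAut W) : Prop :=
  ∀ x : H, Odd (orderOf x) → x ≠ 1 → ∀ w : W, φ x w = w → w = 1

theorem IsOddFpf.comp {φ : H →* MulAut W} (h : IsOddFpf φ) {E : Type*} [Group E] (f : E →* H)
    (hf : Function.Injective f) : IsOddFpf (φ.comp f) :=
  fun x hx hx1 w hw => h (f x) (by rwa [orderOf_injective f hf]) (fun e => hx1 (hf (e.trans (map_one f).symm))) w hw

/-- The elements fixed by `φ e`. -/
def fixSub (φ : H →* MulAut W) (e : H) : Subgroup W where
  carrier := {w | φ e w = w}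
  one_mem' := map_one _
  mul_mem' := fun {a b} (ha : φ e a = a) (hb : φ e b = b) => show φ e (a * b) = a * b by rw [map_mul, ha, hb]
  inv_mem' := fun {a} (ha : φ e a = a) => show φ e a⁻¹ = a⁻¹ by rw [map_inv, ha]

theorem mem_fixSub {φ : H →* MulAut W} {e : H} {w : W} : w ∈ fixSub φ e ↔ φ e w = w := Iff.rfl

theorem eq_one_of_sq_fix {φ : H →* MulAut W} (h : IsOddFpf φ) {x : H} (hx : Odd (orderOf x)) (hx1 : x ≠ 1)
    {w : W} (hw : φ x w = (φ x).symm w) : w = 1 := by
  refine h (x ^ 2) ?_ ?_ w ?_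
  · rw [(Nat.coprime_two_right.2 hx).orderOf_pow]; exact hx
  · intro e
    have := Nat.le_of_dvd two_pos (orderOf_dvd_of_pow_eq_one e)
    have h2 : orderOf x ≠ 1 := fun e' => hx1 (orderOf_eq_one_iff.1 e')
    obtain ⟨k, hk⟩ := hx
    omega
  · rw [pow_two, map_mul, MulAut.mul_apply, hw, MulEquiv.apply_symm_apply]

/-- An involution inverting a fixed-point-free element of odd order on an abelian group centralises a subgroup
of square root order, meeting its image trivially. -/
theorem half {φ : H →* MulAut W} (h : IsOddFpf φ) (hab : ∀ a b : W, a * b = b * a) {e x : H}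
    (he : φ e * φ e = 1) (hx : Odd (orderOf x)) (hx1 : x ≠ 1) (hex : φ (e * x * e⁻¹) = φ x⁻¹) :
    Nat.card (fixSub φ e) ^ 2 = Nat.card W ∧
      ∀ w ∈ fixSub φ e, φ x w ∈ fixSub φ e → w = 1 := by
  have hsw : ∀ w, φ e (φ x w) = (φ x).symm (φ e w) := fun w => by
    have h1 : φ e * φ x = (φ x)⁻¹ * φ e := by
      have h2 : φ e⁻¹ = φ e := by rw [map_inv]; exact inv_eq_of_mul_eq_one_right he
      have h3 := congrArg (· * φ e) hex
      simp only [map_mul, h2, map_inv] at h3
      rw [mul_assoc (φ e * φ x), he, mul_one] at h3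
      exact h3
    exact DFunLike.congr_fun h1 w
  have hC : ∀ w ∈ fixSub φ e, φ x w ∈ fixSub φ e → w = 1 := by
    intro w (hw : φ e w = w) (hxw : φ e (φ x w) = φ x w)
    rw [hsw, hw] at hxw
    exact eq_one_of_sq_fix h hx hx1 hxw.symm
  refine ⟨?_, hC⟩
  let I : Subgroup W :=
    { carrier := {w | φ e w = w⁻¹}
      one_mem' := by simp
      mul_mem' := fun {a b} (ha : φ e a = a⁻¹) (hb : φ e b = b⁻¹) => show φ e (a * b) = (a * b)⁻¹ by
        rw [map_mul, ha, hb, mul_inv_rev, hab]
      inv_mem' := fun {a} (ha : φ e a = a⁻¹) => show φ e a⁻¹ = a⁻¹⁻¹ by rw [map_inv, ha] }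
  have hI : ∀ w ∈ I, φ x w ∈ I → w = 1 := by
    intro w (hw : φ e w = w⁻¹) (hxw : φ e (φ x w) = (φ x w)⁻¹)
    rw [hsw, hw, map_inv, inv_inj] at hxw
    exact eq_one_of_sq_fix h hx hx1 hxw.symm
  have hsq : ∀ A : Subgroup W, (∀ w ∈ A, φ x w ∈ A → w = 1) → Nat.card A ^ 2 ≤ Nat.card W := by
    intro A hA
    rw [pow_two, ← Nat.card_prod]
    refine Nat.card_le_card_of_injective (fun p : A × A => (p.1 : W) * φ x (p.2 : W)) fun p q e' => ?_
    simp only at e'
    have h1 : φ x ((p.2 : W) * (q.2 : W)⁻¹) = (p.1 : W)⁻¹ * (q.1 : W) := by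
      have h2 : φ x (p.2 : W) = (p.1 : W)⁻¹ * ((q.1 : W) * φ x (q.2 : W)) := by
        rw [← e', inv_mul_cancel_left]
      rw [map_mul, map_inv, h2]; group
    have h3 : (p.2 : W) * (q.2 : W)⁻¹ = 1 :=
      hA _ (A.mul_mem p.2.2 (A.inv_mem q.2.2)) (by rw [h1]; exact A.mul_mem (A.inv_mem p.1.2) q.1.2)
    rw [h3, map_one] at h1
    exact Prod.ext (Subtype.ext (inv_mul_eq_one.1 h1.symm)) (Subtype.ext (mul_inv_eq_one.1 h3))
  let f : W →* W :=
    { toFun := fun w => w * (φ e w)⁻¹
      map_one' := by simp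
      map_mul' := fun a b => by
        simp only [map_mul, mul_inv_rev]
        rw [hab (φ e b)⁻¹ (φ e a)⁻¹, mul_assoc, mul_assoc, ← mul_assoc b, hab b (φ e a)⁻¹, mul_assoc] }
  have hker : f.ker = fixSub φ e := by
    ext w
    show w * (φ e w)⁻¹ = 1 ↔ φ e w = w
    rw [mul_inv_eq_one, eq_comm]
  have hran : f.range ≤ I := by
    rintro _ ⟨w, rfl⟩
    show φ e (w * (φ e w)⁻¹) = (w * (φ e w)⁻¹)⁻¹
    have : φ e (φ e w) = w := by rw [← MulAut.mul_apply, he, MulAut.one_apply]
    rw [map_mul, map_inv, this, mul_inv_rev, inv_inv]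
  have hcard : Nat.card (fixSub φ e) * Nat.card f.range = Nat.card W := by
    rw [← hker, ← Subgroup.index_ker, Subgroup.card_mul_index]
  have h1 := hsq _ hC
  have h2 := hsq _ hI
  have h3 : Nat.card W ≤ Nat.card (fixSub φ e) * Nat.card I := by
    rw [← hcard]
    exact Nat.mul_le_mul_left _ (Nat.card_le_card_of_injective (inclusion hran) (inclusion_injective hran))
  refine le_antisymm h1 ?_
  have h4 : Nat.card W * Nat.card W ≤ Nat.card (fixSub φ e) ^ 2 * Nat.card W :=
    calc Nat.card W * Nat.card W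
        ≤ (Nat.card (fixSub φ e) * Nat.card I) * (Nat.card (fixSub φ e) * Nat.card I) := Nat.mul_le_mul h3 h3
      _ = Nat.card (fixSub φ e) ^ 2 * Nat.card I ^ 2 := by ring
      _ ≤ _ := Nat.mul_le_mul_left _ h2
  exact Nat.le_of_mul_le_mul_right h4 Nat.card_pos

/-- A fixed-point-free automorphism of order three: `w · σ w · σ² w = 1`. -/
theorem prod_three {φ : H →* MulAut W} (h : IsOddFpf φ) {d : H} (hd : orderOf d = 3) (w : W) :
    w * φ d w * φ d (φ d w) = 1 := by
  have hd1 : d ≠ 1 := fun e => by rw [e, orderOf_one] at hd; omega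
  have ho : Odd (orderOf d) := hd ▸ by decide
  obtain ⟨k, rfl⟩ := (CfsgLib.Frobenius.fpf_bijective (φ d) (h d ho hd1)).2 w
  show k⁻¹ * φ d k * φ d (k⁻¹ * φ d k) * φ d (φ d (k⁻¹ * φ d k)) = 1
  have h3 : φ d (φ d (φ d k)) = k := by
    rw [← MulAut.mul_apply, ← MulAut.mul_apply, ← map_mul, ← map_mul, ← pow_three', ← hd, pow_orderOf_eq_one,
      map_one, MulAut.one_apply]
  simp only [map_mul, map_inv, h3]
  group

/-- If `d` and `d a` are fixed-point-free of order three, the fixed group of `a` is `d`-invariant. -/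
theorem fix_invariant {φ : H →* MulAut W} (h : IsOddFpf φ) {d a : H} (hd : orderOf d = 3)
    (hda : orderOf (d * a) = 3) {w : W} (hw : w ∈ fixSub φ a) : φ d w ∈ fixSub φ a := by
  rw [mem_fixSub] at hw ⊢
  have h1 := prod_three h hd w
  have h2 := prod_three h hda w
  simp only [map_mul, MulAut.mul_apply, hw] at h2
  exact (φ d).injective (mul_left_cancel (h2.trans h1.symm))

theorem fixSub_conj {φ : H →* MulAut W} {g e : H} {w : W} :
    φ g w ∈ fixSub φ (g * e * g⁻¹) ↔ w ∈ fixSub φ e := by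
  rw [mem_fixSub, mem_fixSub, map_mul, map_mul, MulAut.mul_apply, MulAut.mul_apply, map_inv,
    MulAut.inv_apply_self]
  exact (φ g).injective.eq_iff

theorem isPGroup_of_no_odd {N : Subgroup H} (hN : ∀ x ∈ N, Odd (orderOf x) → x = 1) : IsPGroup 2 N := by
  intro ⟨x, hx⟩
  obtain ⟨e, m, hm, hom⟩ := Nat.exists_eq_two_pow_mul_odd (isOfFinOrder_of_finite x).orderOf_pos.ne'
  refine ⟨e, Subtype.ext (hN _ (pow_mem hx _) ?_)⟩
  rw [SubmonoidClass.coe_pow]
  rw [orderOf_pow' x (by positivity), hom, Nat.gcd_mul_right_left, Nat.mul_div_cancel_left _ (by positivity)]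
  exact hm

/-- An action on a nontrivial group with odd elements fixed-point-free has a 2-group as kernel. -/
theorem IsOddFpf.isPGroup_ker [Nontrivial W] {φ : H →* MulAut W} (h : IsOddFpf φ) : IsPGroup 2 φ.ker := by
  refine isPGroup_of_no_odd fun x hx hodd => ?_
  by_contra hx1
  obtain ⟨w, hw⟩ := exists_ne (1 : W)
  exact hw (h x hodd hx1 w (by rw [show φ x = 1 from hx, MulAut.one_apply]))

theorem odd_card_of_pow_three {A : Subgroup H} (hA : ∀ a ∈ A, a ^ 3 = 1) : Odd (Nat.card A) := by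
  haveI : Fact (Nat.Prime 3) := ⟨Nat.prime_three⟩
  obtain ⟨k, hk⟩ := (IsPGroup.exists_card_eq (p := 3) fun a : A => ⟨1, Subtype.ext (by
    simpa using hA a.1 a.2)⟩)
  rw [hk]
  exact Odd.pow (by decide)

/-- A 2-group acted on by `H` with fixed-point-free odd elements is abelian, if every normal 2-subgroup of `H`
lies in `O` and the elements of order three do not all commute modulo `O`. -/
theorem abelian (O : Subgroup H) (hH2 : ∀ N : Subgroup H, N.Normal → IsPGroup 2 N → N ≤ O)
    (hthree : ¬ ∀ σ τ : H, orderOf σ = 3 → orderOf τ = 3 → (τ * σ)⁻¹ * (σ * τ) ∈ O)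
    {φ : H →* MulAut W} (hU : IsPGroup 2 W) (h : IsOddFpf φ) (a b : W) :
    a * b = b * a := by
  obtain ⟨n, hn⟩ : ∃ n, Nat.card W = n := ⟨_, rfl⟩
  induction n using Nat.strong_induction_on generalizing W with
  | _ n ih =>
    haveI : Fact (Nat.Prime 2) := ⟨Nat.prime_two⟩
    rcases subsingleton_or_nontrivial W with hs | hs
    · exact Subsingleton.elim _ _
    haveI := hU.center_nontrivial
    set Z := center W
    have hZinv : ∀ (x : H), ∀ z ∈ Z, φ x z ∈ Z := fun x z hz => mem_center_iff.2 fun g => by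
      have := congrArg (φ x) (mem_center_iff.1 hz ((φ x).symm g))
      simpa using this
    have hZmap : ∀ x : H, Z.map ((φ x : W ≃* W) : W →* W) = Z := fun x => by
      refine le_antisymm (map_le_iff_le_comap.2 fun z hz => hZinv x z hz) fun z hz => ?_
      refine ⟨φ x⁻¹ z, hZinv _ z hz, ?_⟩
      simp
    let ψ : H →* MulAut (W ⧸ Z) :=
      { toFun := fun x => QuotientGroup.congr Z Z (φ x) (hZmap x)
        map_one' := MulEquiv.ext fun q => by
          obtain ⟨g, rfl⟩ := QuotientGroup.mk_surjective q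
          simp
        map_mul' := fun x y => MulEquiv.ext fun q => by
          obtain ⟨g, rfl⟩ := QuotientGroup.mk_surjective q
          rw [MulAut.mul_apply, QuotientGroup.congr_mk, QuotientGroup.congr_mk, QuotientGroup.congr_mk, map_mul,
            MulAut.mul_apply] }
    have hψ : IsOddFpf ψ := by
      intro x hx hx1 q hq
      obtain ⟨g, rfl⟩ := QuotientGroup.mk_surjective q
      obtain ⟨k, hp, hp2⟩ := exists_prime_pow_of_odd hx hx1
      have hq' : g⁻¹ * φ (x ^ k) g ∈ Z := by
        refine QuotientGroup.eq.1 ?_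
        have : ψ (x ^ k) (QuotientGroup.mk g) = QuotientGroup.mk g := by
          clear hp hp2
          induction k with
          | zero => simp
          | succ k ih' => rw [pow_succ, map_mul, MulAut.mul_apply, hq, ih']
        simpa [ψ] using this.symm
      obtain ⟨g', hg', hfix⟩ := exists_fixed_coset (φ (x ^ k)) (n := 1) hp hp2
        (by rw [pow_one, ← map_pow, pow_orderOf_eq_one, map_one]) Z (hU.to_subgroup Z)
        (fun z hz => hZinv _ z hz) hq'
      have hk1 : x ^ k ≠ 1 := fun e => hp.ne_one (orderOf_eq_one_iff.2 e)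
      rw [h _ (hp.odd_of_ne_two hp2) hk1 g' hfix, mul_one] at hg'
      exact (QuotientGroup.eq_one_iff g).2 (by simpa using inv_mem hg')
    have hlt : Nat.card (W ⧸ Z) < n := hn ▸ CfsgLib.Solvable.card_quotient_lt (fun e => by
      have := (Z.nontrivial_iff_ne_bot).1 inferInstance
      exact this e)
    have hclass : ∀ a b : W, a * b * a⁻¹ * b⁻¹ ∈ Z := fun a b => by
      rw [← QuotientGroup.eq_one_iff]
      simp only [QuotientGroup.mk_mul, QuotientGroup.mk_inv]
      rw [ih _ hlt (hU.to_quotient Z) hψ (QuotientGroup.mk a) (QuotientGroup.mk b) rfl]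
      group
    obtain ⟨c, hc⟩ : ∃ c : W → W → W, ∀ a b, c a b = a * b * a⁻¹ * b⁻¹ := ⟨_, fun _ _ => rfl⟩
    have hcz : ∀ a b g, g * c a b = c a b * g := fun a b g => hc a b ▸ mem_center_iff.1 (hclass a b) g
    have hcl : ∀ a b d, c (a * b) d = c a d * c b d := fun a b d => by
      calc c (a * b) d = a * c b d * (d * a⁻¹ * d⁻¹) := by simp only [hc]; group
        _ = c b d * c a d := by rw [hcz b d a]; simp only [hc]; group
        _ = _ := hcz a d _
    have hci : ∀ a b, c b a = (c a b)⁻¹ := fun a b => by simp only [hc]; group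
    have hcr : ∀ a b d, c d (a * b) = c d a * c d b := fun a b d => by
      rw [hci (a * b) d, hcl, hci a d, hci b d, mul_inv_rev, ← hci b d, ← hci a d, hcz]
    have hmap : ∀ (x : H) a b, φ x (c a b) = c (φ x a) (φ x b) := fun x a b => by
      simp only [hc, map_mul, map_inv]
    set T3 : Set H := {x | orderOf x = 3}
    have hcs : ∀ σ ∈ T3, ∀ a, c a (φ σ a) = 1 := fun σ hσ a => by
      have e1 := prod_three h hσ a
      have e2 := prod_three h hσ a⁻¹
      simp only [map_inv] at e2
      have h1 : φ σ (φ σ a) = (a * φ σ a)⁻¹ := (inv_eq_of_mul_eq_one_right e1).symm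
      have h2 : φ σ (φ σ a) = (φ σ a * a)⁻¹ := by
        rw [eq_comm, inv_eq_iff_eq_inv, ← mul_left_cancel_iff (a := a⁻¹ * (φ σ a)⁻¹), e2]
        group
      have h3 : a * φ σ a = φ σ a * a := inv_injective (h1.symm.trans h2)
      simp only [hc]
      rw [h3]; group
    have hpol : ∀ σ ∈ T3, ∀ a b, c a (φ σ b) = c (φ σ a) b := fun σ hσ a b => by
      have h1 := hcs σ hσ (a * b)
      rw [map_mul, hcl, hcr, hcr, hcs σ hσ a, hcs σ hσ b, one_mul, mul_one, hci (φ σ a) b] at h1
      exact mul_inv_eq_one.1 h1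
    have hsq : ∀ σ ∈ T3, σ * σ ∈ T3 := fun σ hσ => by
      rw [Set.mem_setOf_eq, ← pow_two, orderOf_pow' σ two_ne_zero, show orderOf σ = 3 from hσ]; rfl
    have h4 : ∀ σ ∈ T3, σ * σ * (σ * σ) = σ := fun σ hσ => by
      calc σ * σ * (σ * σ) = σ ^ 3 * σ := by rw [pow_three]; simp only [mul_assoc]
        _ = σ := by rw [← show orderOf σ = 3 from hσ, pow_orderOf_eq_one, one_mul]
    have hL : ∀ σ ∈ T3, ∀ a b, c (φ σ a) b = φ (σ * σ) (c a b) := fun σ hσ a b => by
      rw [hmap, hpol _ (hsq σ hσ), ← MulAut.mul_apply, ← map_mul, h4 σ hσ]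
    have hcomm : ∀ σ ∈ T3, ∀ τ ∈ T3, ∀ a b, φ (σ * τ) (c a b) = φ (τ * σ) (c a b) := by
      intro σ hσ τ hτ a b
      rw [← h4 σ hσ, ← h4 τ hτ]
      set σ' := σ * σ
      set τ' := τ * τ
      have e1 : c (φ σ' (φ τ' a)) b = φ (σ' * σ' * (τ' * τ')) (c a b) := by
        rw [hL _ (hsq σ hσ), hL _ (hsq τ hτ), ← MulAut.mul_apply, ← map_mul]
      have e2 : c (φ σ' (φ τ' a)) b = φ (τ' * τ' * (σ' * σ')) (c a b) := by
        rw [← hpol _ (hsq σ hσ), hL _ (hsq τ hτ), hpol _ (hsq σ hσ), hL _ (hsq σ hσ), ← MulAut.mul_apply,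
          ← map_mul]
      exact e1.symm.trans e2
    by_contra hab
    have hne : c a b ≠ 1 := fun e => hab (by
      simp only [hc] at e
      calc a * b = a * b * a⁻¹ * b⁻¹ * (b * a) := by group
        _ = b * a := by rw [e, one_mul])
    let K : Subgroup H :=
      { carrier := {x | ∀ a b, φ x (c a b) = c a b}
        one_mem' := fun a b => by simp
        mul_mem' := fun {x y} hx hy a b => by rw [map_mul, MulAut.mul_apply, hy, hx]
        inv_mem' := fun {x} hx a b => by
          rw [map_inv, MulAut.inv_def, MulEquiv.symm_apply_eq, hx] }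
    have hKn : K.Normal := ⟨fun x hx g a b => by
      have e : φ g⁻¹ (c a b) = c (φ g⁻¹ a) (φ g⁻¹ b) := hmap _ _ _
      rw [map_mul, map_mul, MulAut.mul_apply, MulAut.mul_apply, e, hx, ← hmap, ← MulAut.mul_apply, ← map_mul,
        mul_inv_cancel, map_one, MulAut.one_apply]⟩
    have hK : K ≤ O := hH2 K hKn (isPGroup_of_no_odd fun x hx hodd => by
      by_contra hx1; exact hne (h x hodd hx1 _ (hx a b)))
    exact hthree fun σ τ hσ hτ => hK fun a b => by
      rw [map_mul, MulAut.mul_apply, hcomm σ hσ τ hτ, ← MulAut.mul_apply, ← map_mul, inv_mul_cancel,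
        map_one, MulAut.one_apply]

end CfsgLib.CIT
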