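import Cfsg.Agent.CITGroups.Basic
import Cfsg.Agent.CITGroups.Module

/-!
# The configuration left by the local analysis of a CIT group

Two 2-locals `M = N(V)` and `X = N(E)` sharing a Sylow 2-subgroup `T = V E`, with `V` and `E` elementary abelian of
order `q²` meeting in a subgroup of order `q`.
-/

set_option autoImplicit false

namespace CfsgLib.CIT

open Subgroup

universe u

/-- No nontrivial elementary abelian 2-group is acted on with all nontrivial odd elements fixed-point-free. -/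
def NoFpf (G : Type u) [Group G] : Prop :=
  ∀ (W : Type u) [Group W] [Finite W], (∀ w : W, w * w = 1) → ∀ φ : G →* MulAut W, IsOddFpf φ → Subsingleton W

variable {G : Type u} [Group G]

/-- One half of the configuration. -/
structure Half (q : ℕ) (M V E T D : Subgroup G) (u : G) : Prop where
  pow_two : ∃ k : ℕ, 2 ≤ k ∧ q = 2 ^ k
  M_eq : M = normalizer (V : Set G)
  not_solvable : ¬ Group.IsSolvable M
  card_M : Nat.card M = (q + 1) * q ^ 3 * (q - 1)
  V_elem : ∀ v ∈ V, v * v = 1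
  E_elem : ∀ e ∈ E, e * e = 1
  card_V : Nat.card V = q ^ 2
  card_E : Nat.card E = q ^ 2
  card_inf : Nat.card (V ⊓ E : Subgroup G) = q
  V_le : V ≤ T
  E_le : E ≤ T
  T_le : T ≤ M
  card_T : Nat.card T = q ^ 3
  self_cent : centralizer (V : Set G) = V
  decomp_T : ∀ t ∈ T, ∃ v ∈ V, ∃ e ∈ E, t = v * e
  fix : ∀ e ∈ T, e ∉ V → ∀ v ∈ V, Commute e v ↔ v ∈ E
  invols : ∀ t ∈ T, t * t = 1 → t ∈ V ∨ t ∈ E
  D_le : D ≤ M
  card_D : Nat.card D = q - 1
  D_cyclic : IsCyclic D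
  D_norm_E : ∀ d ∈ D, ∀ e ∈ E, d * e * d⁻¹ ∈ E
  D_norm_T : ∀ d ∈ D, ∀ t ∈ T, d * t * d⁻¹ ∈ T
  u_mem : u ∈ M
  u_ord : orderOf u = 2
  u_inv : ∀ d ∈ D, u * d * u⁻¹ = d⁻¹
  u_not : u ∉ normalizer (T : Set G)
  normalizer_T : ∀ g ∈ M, g ∈ normalizer (T : Set G) → ∃ t ∈ T, ∃ d ∈ D, g = t * d
  bruhat : ∀ g ∈ M, g ∉ normalizer (T : Set G) → ∃ t ∈ T, ∃ k ∈ M ⊓ normalizer (T : Set G), g = t * u * k
  trap : ∀ e ∈ T, e ∉ V → ∀ g ∈ M, g * e * g⁻¹ ∈ T → g ∈ normalizer (T : Set G)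

/-- The configuration. -/
structure Second (q : ℕ) (M X V E T D : Subgroup G) (u u' : G) : Prop where
  left : Half q M V E T D u
  right : Half q X E V T D u'

end CfsgLib.CIT
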