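import Cfsg.Agent.CITGroups.LocData
import Cfsg.Agent.Solvable.PGroupBasic

/-!
# The elementary abelian normal subgroup of a nonsolvable 2-local
-/

set_option autoImplicit false
set_option linter.style.haveILetI false
set_option linter.unusedSectionVars false

namespace CfsgLib.CIT

open Subgroup

universe u

variable {G : Type u} [Group G] [Finite G]

/-- The involutions of the centre of `U`, with the identity. -/
def omegaZ (U : Subgroup G) : Subgroup G where
  carrier := {v | v ∈ U ∧ v * v = 1 ∧ ∀ w ∈ U, Commute v w}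
  one_mem' := ⟨U.one_mem, one_mul 1, fun w _ => Commute.one_left w⟩
  mul_mem' := fun {a b} ha hb => ⟨U.mul_mem ha.1 hb.1, by
    rw [show a * b * (a * b) = a * (b * a) * b by group, (hb.2.2 a ha.1).eq,
      show a * (a * b) * b = (a * a) * (b * b) by group, ha.2.1, hb.2.1, one_mul],
    fun w hw => (ha.2.2 w hw).mul_left (hb.2.2 w hw)⟩
  inv_mem' := fun {a} ha => ⟨U.inv_mem ha.1, by rw [← mul_inv_rev, ha.2.1, inv_one],
    fun w hw => (ha.2.2 w hw).inv_left⟩

theorem omegaZ_le (U : Subgroup G) : omegaZ U ≤ U := fun _ hv => hv.1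

theorem omegaZ_sq {U : Subgroup G} {v : G} (hv : v ∈ omegaZ U) : v * v = 1 := hv.2.1

theorem omegaZ_commute {U : Subgroup G} {v w : G} (hv : v ∈ omegaZ U) (hw : w ∈ U) : Commute v w := hv.2.2 w hw

theorem omegaZ_conj {U : Subgroup G} {g v : G} (hg : g ∈ normalizer (U : Set G)) (hv : v ∈ omegaZ U) :
    g * v * g⁻¹ ∈ omegaZ U := by
  refine ⟨(mem_normalizer_iff.1 hg v).1 hv.1, ?_, fun w hw => ?_⟩
  · rw [show g * v * g⁻¹ * (g * v * g⁻¹) = g * (v * v) * g⁻¹ by group, hv.2.1, mul_one, mul_inv_cancel]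
  · have hw' : g⁻¹ * w * g ∈ U := (mem_normalizer_iff.1 hg _).2 (by simpa [mul_assoc] using hw)
    have := (hv.2.2 _ hw').map (MulAut.conj g).toMonoidHom
    simpa [mul_assoc] using this

theorem omegaZ_ne_bot {U : Subgroup G} (hU : IsPGroup 2 U) (h1 : U ≠ ⊥) : omegaZ U ≠ ⊥ := by
  haveI : Fact (Nat.Prime 2) := ⟨Nat.prime_two⟩
  haveI : Nontrivial U := (nontrivial_iff_ne_bot U).2 h1
  haveI := hU.center_nontrivial
  obtain ⟨z, hzc, hz⟩ := exists_invol_of_isPGroup (hU.to_subgroup (center U))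
    ((center U).nontrivial_iff_ne_bot.1 inferInstance)
  intro e
  have : (z : G) ∈ omegaZ U := ⟨z.2, congrArg Subtype.val (CfsgLib.Invol.mul_self_eq_one hz),
    fun w hw => (congrArg Subtype.val (mem_center_iff.1 hzc ⟨w, hw⟩)).symm⟩
  rw [e, mem_bot] at this
  exact CfsgLib.Invol.ne_one hz (Subtype.ext this)

theorem comm_of_sq {E : Subgroup G} (hE : ∀ x ∈ E, x * x = 1) {a b : G} (ha : a ∈ E) (hb : b ∈ E) :
    Commute a b := by
  have h1 := hE _ (E.mul_mem ha hb)
  show a * b = b * a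
  calc a * b = (a * b)⁻¹ := eq_inv_of_mul_eq_one_left h1
    _ = b⁻¹ * a⁻¹ := mul_inv_rev a b
    _ = b * a := by rw [inv_eq_of_mul_eq_one_right (hE b hb), inv_eq_of_mul_eq_one_right (hE a ha)]

theorem isPGroup_of_sq {E : Subgroup G} (hE : ∀ x ∈ E, x * x = 1) : IsPGroup 2 E :=
  fun x => ⟨1, Subtype.ext (by rw [pow_one, pow_two]; exact hE x x.2)⟩

/-- Conjugation as an action on a normalised subgroup. -/
def conjHom {M W : Subgroup G} (hW : M ≤ normalizer (W : Set G)) : M →* MulAut W :=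
  (normalizerMonoidHom W).comp (inclusion hW)

theorem conjHom_apply {M W : Subgroup G} (hW : M ≤ normalizer (W : Set G)) (x : M) (w : W) :
    (conjHom hW x w : G) = x * w * (x : G)⁻¹ := rfl

theorem IsCIT.conjHom_fpf (h : IsCIT G) {M W : Subgroup G} (hW : M ≤ normalizer (W : Set G))
    (hW2 : IsPGroup 2 W) : IsOddFpf (conjHom hW) := by
  intro x hx hx1 w hw
  have e : (x : G) * w * (x : G)⁻¹ = w := congrArg Subtype.val hw
  by_contra hw1
  obtain ⟨k, hk⟩ := hW2 w
  exact hx1 (Subtype.ext (h.eq_one_of_commute' (a := (w : G)) (fun e' => hw1 (Subtype.ext e'))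
    (congrArg Subtype.val hk) (mul_inv_eq_iff_eq_mul.1 e).symm (by rwa [orderOf_coe])))

theorem conjHom_eq_one {M W : Subgroup G} (hW : M ≤ normalizer (W : Set G)) {x : M}
    (hx : ∀ w ∈ W, Commute (x : G) w) : conjHom hW x = 1 := by
  refine MulEquiv.ext fun w => Subtype.ext ?_
  rw [conjHom_apply, (hx w w.2).eq, mul_inv_cancel_right]
  rfl

/-- An element inverting a fixed-point-free element of odd order has centraliser of square root order. -/
theorem IsCIT.card_cent_sq (h : IsCIT G) {M W : Subgroup G} (hW : M ≤ normalizer (W : Set G))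
    (hW2 : IsPGroup 2 W) (hab : ∀ a ∈ W, ∀ b ∈ W, a * b = b * a) {e x : G} (he : e ∈ M) (hx : x ∈ M)
    (hee : ∀ w ∈ W, Commute (e * e) w) (hxo : Odd (orderOf x)) (hx1 : x ≠ 1)
    (hex : ∀ w ∈ W, Commute (e * x * e⁻¹ * x) w) :
    Nat.card (W ⊓ centralizer ({e} : Set G) : Subgroup G) ^ 2 = Nat.card W ∧
      ∀ w ∈ W, Commute e w → Commute e (x * w * x⁻¹) → w = 1 := by
  have hcomm : ∀ a b : W, a * b = b * a := fun a b => Subtype.ext (hab a a.2 b b.2)
  have hiff : ∀ w : W, w ∈ fixSub (conjHom hW) ⟨e, he⟩ ↔ Commute e (w : G) := fun w => by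
    rw [mem_fixSub]
    constructor
    · intro hh
      exact mul_inv_eq_iff_eq_mul.1 (congrArg Subtype.val hh)
    · intro hh
      exact Subtype.ext (mul_inv_eq_iff_eq_mul.2 hh)
  obtain ⟨h1, h2⟩ := half (h.conjHom_fpf hW hW2) hcomm (e := ⟨e, he⟩) (x := ⟨x, hx⟩)
    (by rw [← map_mul]; exact conjHom_eq_one hW hee) (by rwa [← orderOf_coe])
    (fun e' => hx1 (congrArg Subtype.val e')) (by
      rw [map_inv, eq_inv_iff_mul_eq_one, ← map_mul]
      exact conjHom_eq_one hW hex)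
  refine ⟨?_, fun w hw hw1 hw2 => ?_⟩
  · rw [← h1]
    congr 1
    exact Nat.card_congr
      { toFun := fun w => ⟨⟨w.1, (mem_inf.1 w.2).1⟩, (hiff _).2 (mem_centralizer_self_iff.1 (mem_inf.1 w.2).2)⟩
        invFun := fun w => ⟨w.1.1, mem_inf.2 ⟨w.1.2, mem_centralizer_self_iff.2 ((hiff _).1 w.2)⟩⟩
        left_inv := fun w => rfl
        right_inv := fun w => rfl }
  · exact congrArg Subtype.val (h2 ⟨w, hw⟩ ((hiff _).2 hw1) ((hiff _).2 hw2))

/-- A free action by conjugation on the difference of two invariant subgroups. -/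
theorem dvd_card_diff {D A B : Subgroup G} (hAB : A ≤ B) (hDA : ∀ d ∈ D, ∀ a ∈ A, d * a * d⁻¹ ∈ A)
    (hDB : ∀ d ∈ D, ∀ b ∈ B, d * b * d⁻¹ ∈ B) (hfree : ∀ d ∈ D, ∀ b ∈ B, Commute d b → b ∈ A ∨ d = 1) :
    Nat.card D ∣ Nat.card B - Nat.card A := by
  classical
  let X := {b : G // b ∈ B ∧ b ∉ A}
  letI : MulAction D X :=
    { smul := fun d b => ⟨d * b.1 * (d : G)⁻¹, hDB d d.2 _ b.2.1, fun hh => b.2.2 (by
        have := hDA _ (D.inv_mem d.2) _ hh
        simpa [mul_assoc] using this)⟩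
      one_smul := fun b => Subtype.ext (show ((1 : D) : G) * b.1 * ((1 : D) : G)⁻¹ = b.1 by simp)
      mul_smul := fun d d' b => Subtype.ext (show ((d * d' : D) : G) * b.1 * ((d * d' : D) : G)⁻¹ =
        (d : G) * ((d' : G) * b.1 * (d' : G)⁻¹) * (d : G)⁻¹ by rw [coe_mul]; group) }
  haveI := Fintype.ofFinite D
  haveI := Fintype.ofFinite X
  haveI := Fintype.ofFinite (Quotient (MulAction.orbitRel D X))
  have hfix : ∀ d : D, d ≠ 1 → Fintype.card (MulAction.fixedBy X d) = 0 := fun d hd =>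
    Fintype.card_eq_zero_iff.2 ⟨fun ⟨b, hb⟩ => by
      have e : (d : G) * b.1 * (d : G)⁻¹ = b.1 := congrArg Subtype.val hb
      rcases hfree d d.2 b.1 b.2.1 (mul_inv_eq_iff_eq_mul.1 e) with h | h
      · exact b.2.2 h
      · exact hd (Subtype.ext h)⟩
  have hsum := MulAction.sum_card_fixedBy_eq_card_orbits_mul_card_group D X
  rw [← Finset.add_sum_erase _ _ (Finset.mem_univ (1 : D)),
    Finset.sum_congr rfl (fun d hd => hfix d (Finset.ne_of_mem_erase hd))] at hsum
  simp only [Finset.sum_const_zero, add_zero, ← Nat.card_eq_fintype_card] at hsum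
  rw [show MulAction.fixedBy X (1 : D) = Set.univ from Set.eq_univ_of_forall fun c => one_smul D c,
    Nat.card_univ] at hsum
  have hX : Nat.card X = Nat.card B - Nat.card A := by
    have e : ((B : Set G) \ (A : Set G)).ncard = Nat.card B - Nat.card A := by
      rw [Set.ncard_sdiff hAB]; rfl
    rw [← e, ← Nat.card_coe_set_eq]
    rfl
  exact hX ▸ ⟨_, hsum.trans (mul_comm _ _)⟩

variable {M U T D : Subgroup G} {u : G} {q : ℕ}

namespace Loc

theorem U_le_M (L : Loc M U T D u q) : U ≤ M := L.U_le.trans L.T_le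

theorem M_le (L : Loc M U T D u q) : M ≤ normalizer (U : Set G) := L.M_eq.le

theorem M_le_omegaZ (L : Loc M U T D u q) : M ≤ normalizer (omegaZ U : Set G) := fun g hg =>
  mem_normalizer_iff.2 fun v => ⟨omegaZ_conj (L.M_le hg), fun hv => by
    have := omegaZ_conj (g := g⁻¹) (inv_mem (L.M_le hg)) hv
    simpa [mul_assoc] using this⟩

theorem four_le (L : Loc M U T D u q) : 4 ≤ q := by
  have := L.D_card; have := L.D_three; omega

theorem omegaZ_two (L : Loc M U T D u q) : IsPGroup 2 (omegaZ U) := L.U_two.to_le (omegaZ_le U)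

/-- A nontrivial gap between two `D`-invariant 2-subgroups is at least `q`. -/
theorem gap (L : Loc M U T D u q) (h : IsCIT G) {A B : Subgroup G} (hAB : A ≤ B) (hne : A ≠ B)
    (hB : IsPGroup 2 B) (hDA : ∀ d ∈ D, ∀ a ∈ A, d * a * d⁻¹ ∈ A) (hDB : ∀ d ∈ D, ∀ b ∈ B, d * b * d⁻¹ ∈ B) :
    q * Nat.card A ≤ Nat.card B := by
  haveI : Fact (Nat.Prime 2) := ⟨Nat.prime_two⟩
  have hdvd := dvd_card_diff hAB hDA hDB fun d hd b hb hc => by
    by_cases hb1 : b = 1
    · exact Or.inl (hb1 ▸ A.one_mem)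
    · obtain ⟨k, hk⟩ := hB ⟨b, hb⟩
      exact Or.inr (h.eq_one_of_commute' hb1 (congrArg Subtype.val hk) hc.symm
        (L.D_odd.of_dvd_nat (orderOf_dvd_natCard D hd)))
  obtain ⟨b, hb⟩ := hB.exists_card_eq
  obtain ⟨a, ha⟩ := (hB.to_le hAB).exists_card_eq
  have hlt : Nat.card A < Nat.card B := CfsgLib.Solvable.card_lt_of_lt (lt_of_le_of_ne hAB hne)
  rw [ha, hb] at hlt hdvd ⊢
  have hab : a < b := (Nat.pow_lt_pow_iff_right one_lt_two).1 hlt
  obtain ⟨c, rfl⟩ := Nat.exists_eq_add_of_lt hab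
  have e : 2 ^ (a + c + 1) - 2 ^ a = 2 ^ a * (2 ^ (c + 1) - 1) := by
    rw [Nat.mul_sub, ← pow_add, mul_one]; rfl
  rw [e] at hdvd
  have h1 : Nat.card D ∣ 2 ^ (c + 1) - 1 :=
    ((Nat.coprime_two_right.2 L.D_odd).pow_right a).dvd_of_dvd_mul_left hdvd
  have h2 : 2 ≤ 2 ^ (c + 1) := Nat.le_self_pow (by omega) 2
  have h3 := Nat.le_of_dvd (by omega) h1
  have h4 := L.D_card
  calc q * 2 ^ a ≤ 2 ^ (c + 1) * 2 ^ a := Nat.mul_le_mul_right _ (by omega)
    _ = 2 ^ (a + c + 1) := by rw [← pow_add]; congr 1; omega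

theorem exists_inverted_T (L : Loc M U T D u q) {e : G} (he : e ∈ T) (heU : e ∉ U) (hee : e * e ∈ U) :
    ∃ x ∈ M, Odd (orderOf x) ∧ x ≠ 1 ∧ e * x * e⁻¹ * x ∈ U :=
  L.exists_inverted e he heU hee

theorem card_cent_sq (L : Loc M U T D u q) (h : IsCIT G) {e : G} (he : e ∈ T) (heU : e ∉ U)
    (hee : e * e ∈ U) :
    Nat.card (omegaZ U ⊓ centralizer ({e} : Set G) : Subgroup G) ^ 2 = Nat.card (omegaZ U) := by
  obtain ⟨x, hx, hxo, hx1, hex⟩ := L.exists_inverted e he heU hee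
  exact (h.card_cent_sq L.M_le_omegaZ L.omegaZ_two
    (fun a ha b hb => (omegaZ_commute ha (omegaZ_le U hb)).eq) (L.T_le he) hx
    (fun w hw => (omegaZ_commute hw hee).symm) hxo hx1 (fun w hw => (omegaZ_commute hw hex).symm)).1

theorem cent_omegaZ (L : Loc M U T D u q) (h : IsCIT G) {x : G} (hx : x ∈ M)
    (hc : ∀ v ∈ omegaZ U, Commute x v) : x ∈ U := by
  obtain ⟨v, hv, hv1⟩ := (omegaZ U).bot_or_exists_ne_one.resolve_left (omegaZ_ne_bot L.U_two L.U_ne)
  refine L.U_core (M ⊓ centralizer (omegaZ U : Set G)) inf_le_left (fun m hm y hy => ?_) ?_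
    ⟨hx, mem_centralizer_iff.2 fun v hv => (hc v hv).symm.eq⟩
  · refine ⟨M.mul_mem (M.mul_mem hm hy.1) (M.inv_mem hm), mem_centralizer_iff.2 fun w hw => ?_⟩
    have hw' : m⁻¹ * w * m ∈ omegaZ U := (mem_normalizer_iff.1 (L.M_le_omegaZ hm) _).2
      (by simpa [mul_assoc] using hw)
    calc w * (m * y * m⁻¹) = m * (m⁻¹ * w * m * y) * m⁻¹ := by group
      _ = m * (y * (m⁻¹ * w * m)) * m⁻¹ := by rw [mem_centralizer_iff.1 hy.2 _ hw']
      _ = m * y * m⁻¹ * w := by group
  · refine isPGroup_of_no_odd fun y hy hyo => ?_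
    exact h.eq_one_of_commute (t := v) (CfsgLib.Invol.orderOf_eq_two (omegaZ_sq hv) hv1)
      (mem_centralizer_iff.1 hy.2 v hv) hyo

theorem T_ne_U (L : Loc M U T D u q) : ¬ T ≤ U := fun hTU => L.u_not (by
  rw [le_antisymm hTU L.U_le]
  exact L.M_le L.u_mem)

theorem fixed_le (L : Loc M U T D u q) :
    omegaZ U ⊓ centralizer (T : Set G) ≤ omegaZ U := inf_le_left

theorem fixed_inv (L : Loc M U T D u q) {d z : G} (hd : d ∈ D) (hz : z ∈ omegaZ U ⊓ centralizer (T : Set G)) :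
    d * z * d⁻¹ ∈ omegaZ U ⊓ centralizer (T : Set G) := by
  refine ⟨omegaZ_conj (L.M_le (L.D_le hd)) hz.1, mem_centralizer_iff.2 fun t ht => ?_⟩
  have ht' : d⁻¹ * t * d ∈ T := by simpa using L.D_norm _ (D.inv_mem hd) t ht
  calc t * (d * z * d⁻¹) = d * (d⁻¹ * t * d * z) * d⁻¹ := by group
    _ = d * (z * (d⁻¹ * t * d)) * d⁻¹ := by rw [mem_centralizer_iff.1 hz.2 _ ht']
    _ = d * z * d⁻¹ * t := by group

theorem exists_fixed_ne (L : Loc M U T D u q) :
    omegaZ U ⊓ centralizer (T : Set G) ≠ ⊥ := by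
  haveI : Fact (Nat.Prime 2) := ⟨Nat.prime_two⟩
  haveI := L.T_two.isNilpotent
  set N := (omegaZ U).subgroupOf T
  haveI : N.Normal :=
    (normal_subgroupOf_iff_le_normalizer ((omegaZ_le U).trans L.U_le)).2 (L.T_le.trans L.M_le_omegaZ)
  obtain ⟨z, hz, hz1⟩ := (N ⊓ center T).bot_or_exists_ne_one.resolve_left
    (CfsgLib.PGroupBasic.inf_center_ne_bot N fun e => omegaZ_ne_bot L.U_two L.U_ne
      (le_bot_iff.1 fun v hv => by
        have hm : (⟨v, L.U_le (omegaZ_le U hv)⟩ : T) ∈ N := hv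
        rw [e, mem_bot] at hm
        exact mem_bot.2 (congrArg Subtype.val hm)))
  intro e
  have hm : (z : G) ∈ omegaZ U ⊓ centralizer (T : Set G) :=
    ⟨hz.1, mem_centralizer_iff.2 fun t ht => congrArg Subtype.val (mem_center_iff.1 hz.2 ⟨t, ht⟩)⟩
  rw [e, mem_bot] at hm
  exact hz1 (Subtype.ext hm)

theorem q_le_fixed (L : Loc M U T D u q) (h : IsCIT G) :
    q ≤ Nat.card (omegaZ U ⊓ centralizer (T : Set G) : Subgroup G) := by
  have := L.gap h (A := ⊥) bot_le (Ne.symm L.exists_fixed_ne) (L.omegaZ_two.to_le inf_le_left)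
    (fun d _ a ha => by rw [mem_bot.1 ha]; simp) fun d hd b hb => L.fixed_inv hd hb
  simpa using this

theorem image_bound (L : Loc M U T D u q) {E : Subgroup G} (hET : E ≤ T) (hE : ∀ x ∈ E, x * x = 1) :
    Nat.card E ≤ Nat.card (E ⊓ U : Subgroup G) * q ∧
      (Nat.card (E ⊓ U : Subgroup G) * q ≤ Nat.card E →
        ∀ t ∈ T, t ∉ U → t * t ∈ U → ∃ f ∈ E, f⁻¹ * t ∈ U) := by
  classical
  set N := U.subgroupOf E
  have hNc : Nat.card N = Nat.card (E ⊓ U : Subgroup G) :=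
    Nat.card_congr
      { toFun := fun x => ⟨x.1.1, x.1.2, x.2⟩
        invFun := fun x => ⟨⟨x.1, x.2.1⟩, x.2.2⟩
        left_inv := fun x => rfl
        right_inv := fun x => rfl }
  have hq : Nat.card (Option D) = q := by rw [Finite.card_option, L.D_card]
  have hEc : Nat.card E = Nat.card (E ⧸ N) * Nat.card (E ⊓ U : Subgroup G) := by
    rw [← hNc, ← card_eq_card_quotient_mul_card_subgroup]
  by_cases hsub : E ≤ U
  · have he : (E ⊓ U : Subgroup G) = E := inf_eq_left.2 hsub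
    refine ⟨?_, fun hle => ?_⟩
    · rw [he]; exact Nat.le_mul_of_pos_right _ (by have := L.four_le; omega)
    · rw [he] at hle
      have h4 := L.four_le
      have hpos : 0 < Nat.card E := Nat.card_pos
      nlinarith
  obtain ⟨e₀, he₀, he₀U⟩ := SetLike.not_le_iff_exists.1 hsub
  have hchoose : ∀ f : E, ∃ o : Option D, (o = none ↔ (f : G) ∈ U) ∧
      ∀ d : D, o = some d → (f : G)⁻¹ * ((d : G) * e₀ * (d : G)⁻¹) ∈ U := fun f => by
    by_cases hf : (f : G) ∈ U
    · exact ⟨none, ⟨fun _ => hf, fun _ => rfl⟩, fun d hd => by simp at hd⟩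
    · obtain ⟨d, hd, he⟩ := L.inv_trans e₀ (hET he₀) he₀U (by rw [hE e₀ he₀]; exact U.one_mem) f (hET f.2)
        hf (by rw [hE f f.2]; exact U.one_mem)
      exact ⟨some ⟨d, hd⟩, ⟨fun h => by simp at h, fun h => absurd h hf⟩, fun d' hd' => by
        rw [← Option.some.inj hd']; exact he⟩
  choose g hg1 hg2 using hchoose
  have hinj : ∀ f f' : E, g f = g f' → (f : G)⁻¹ * f' ∈ U := by
    intro f f' e
    rcases hgf : g f with _ | d
    · exact U.mul_mem (U.inv_mem ((hg1 f).1 hgf)) ((hg1 f').1 (e ▸ hgf))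
    · have h1 := hg2 f d hgf
      have h2 := hg2 f' d (e ▸ hgf)
      convert U.mul_mem h1 (U.inv_mem h2) using 1
      group
  let g' : E ⧸ N → Option D := fun c => g c.out
  have hg' : Function.Injective g' := fun c c' e => by
    rw [← QuotientGroup.out_eq' c, ← QuotientGroup.out_eq' c']
    exact QuotientGroup.eq.2 (hinj _ _ e)
  have hle := Nat.card_le_card_of_injective g' hg'
  rw [hq] at hle
  refine ⟨by rw [hEc, mul_comm]; exact Nat.mul_le_mul_left _ hle, fun hle' t ht htU htt => ?_⟩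
  have hbij : Function.Bijective g' := by
    refine (Nat.bijective_iff_injective_and_card g').2 ⟨hg', le_antisymm (hq ▸ hle) ?_⟩
    rw [hq]
    rw [hEc, mul_comm] at hle'
    exact Nat.le_of_mul_le_mul_right hle' Nat.card_pos
  obtain ⟨d, hd, he⟩ := L.inv_trans e₀ (hET he₀) he₀U (by rw [hE e₀ he₀]; exact U.one_mem) t ht htU htt
  obtain ⟨c, hc⟩ := hbij.2 (some ⟨d, hd⟩)
  refine ⟨c.out, SetLike.coe_mem _, ?_⟩
  have h1 := hg2 _ _ hc
  convert U.mul_mem h1 (U.inv_mem he) using 1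
  group

/-- The conclusion of the main lemma at a 2-local with an elementary abelian subgroup of the Sylow subgroup
that is large compared with `U ∩ E`. -/
structure Tight (M U T : Subgroup G) (q : ℕ) : Prop where
  card_V : Nat.card (omegaZ U) = q ^ 2
  card_fixed : Nat.card (omegaZ U ⊓ centralizer (T : Set G) : Subgroup G) = q
  fix : ∀ e ∈ T, e ∉ U → ∀ v ∈ omegaZ U, Commute e v → v ∈ centralizer (T : Set G)
  sq : ∀ t ∈ T, t * t ∈ U
  comm : ∀ t ∈ T, ∀ v ∈ omegaZ U, t * v * t⁻¹ * v⁻¹ ∈ centralizer (T : Set G)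
  abelian : ∀ a ∈ U, ∀ b ∈ U, a * b = b * a
  omega : ∀ x ∈ U, x * x = 1 → x ∈ omegaZ U
  card_T : Nat.card T = q * Nat.card U

/-- The main lemma. -/
theorem tight (L : Loc M U T D u q) (h : IsCIT G) {E : Subgroup G} (hET : E ≤ T) (hE : ∀ x ∈ E, x * x = 1)
    (hEU : ¬ E ≤ U) (hmax : Nat.card ((E ⊓ U) ⊔ omegaZ U : Subgroup G) ≤ Nat.card E) :
    Tight M U T q ∧ (E ⊓ U = omegaZ U ⊓ centralizer (T : Set G)) ∧ Nat.card E = q ^ 2 ∧
      ∀ t ∈ T, ∃ e ∈ E, e⁻¹ * t ∈ U := by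
  haveI : Fact (Nat.Prime 2) := ⟨Nat.prime_two⟩
  set V := omegaZ U with hV
  set Z := V ⊓ centralizer (T : Set G) with hZ
  obtain ⟨e₀, he₀, he₀U⟩ := SetLike.not_le_iff_exists.1 hEU
  have hee : ∀ e ∈ E, e * e ∈ U := fun e he => by rw [hE e he]; exact U.one_mem
  have h4 := L.four_le
  set r := Nat.card (V ⊓ centralizer ({e₀} : Set G) : Subgroup G) with hr
  have hr2 : r ^ 2 = Nat.card V := L.card_cent_sq h (hET he₀) he₀U (hee e₀ he₀)
  obtain ⟨hbound, hfull⟩ := L.image_bound hET hE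
  have hprod : Nat.card ((E ⊓ U) ⊔ V : Subgroup G) * Nat.card ((E ⊓ U) ⊓ V : Subgroup G) =
      Nat.card (E ⊓ U : Subgroup G) * Nat.card V :=
    CfsgLib.Solvable.card_sup_mul_card_inf fun x hx => L.M_le_omegaZ (L.T_le (hET hx.1))
  have hinf : ((E ⊓ U) ⊓ V : Subgroup G) = E ⊓ V :=
    le_antisymm (fun x hx => ⟨hx.1.1, hx.2⟩) fun x hx => ⟨⟨hx.1, omegaZ_le U hx.2⟩, hx.2⟩
  rw [hinf] at hprod
  have hVle : Nat.card V ≤ q * Nat.card (E ⊓ V : Subgroup G) := by
    refine Nat.le_of_mul_le_mul_left ?_ (Nat.card_pos (α := (E ⊓ U : Subgroup G)))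
    calc Nat.card (E ⊓ U : Subgroup G) * Nat.card V
        = Nat.card ((E ⊓ U) ⊔ V : Subgroup G) * Nat.card (E ⊓ V : Subgroup G) := hprod.symm
      _ ≤ (Nat.card (E ⊓ U : Subgroup G) * q) * Nat.card (E ⊓ V : Subgroup G) :=
          Nat.mul_le_mul_right _ (hmax.trans hbound)
      _ = _ := by ring
  have hEVr : Nat.card (E ⊓ V : Subgroup G) ≤ r :=
    Nat.le_of_dvd Nat.card_pos (card_dvd_of_le fun x hx =>
      ⟨hx.2, mem_centralizer_self_iff.2 (comm_of_sq hE he₀ hx.1)⟩)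
  have hZq := L.q_le_fixed h
  have hZr : Nat.card Z ≤ r := Nat.le_of_dvd Nat.card_pos (card_dvd_of_le fun x hx =>
    ⟨hx.1, mem_centralizer_self_iff.2 (mem_centralizer_iff.1 hx.2 _ (hET he₀))⟩)
  have hrq : r ≤ q := by
    refine Nat.le_of_mul_le_mul_left ?_ (show 0 < r from Nat.card_pos)
    calc r * r = Nat.card V := by rw [← hr2, pow_two]
      _ ≤ q * Nat.card (E ⊓ V : Subgroup G) := hVle
      _ ≤ q * r := Nat.mul_le_mul_left _ hEVr
      _ = r * q := mul_comm _ _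
  have hZc : Nat.card Z = q := le_antisymm (hZr.trans hrq) hZq
  have hrc : r = q := le_antisymm hrq (hZq.trans hZr)
  have hVc : Nat.card V = q ^ 2 := by rw [← hr2, hrc]
  have hfix : ∀ f ∈ T, f ∉ U → f * f ∈ U → ∀ v ∈ V, Commute f v → v ∈ Z := by
    intro f hf hfU hff v hv hc
    have h1 := L.card_cent_sq h hf hfU hff
    rw [hVc] at h1
    have hc2 : Nat.card (V ⊓ centralizer ({f} : Set G) : Subgroup G) ≤ q :=
      le_of_eq (Nat.pow_left_injective two_ne_zero h1)
    have he : Z = V ⊓ centralizer ({f} : Set G) := eq_of_le_of_card_ge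
      (fun x hx => ⟨hx.1, mem_centralizer_self_iff.2 (mem_centralizer_iff.1 hx.2 f hf)⟩) (hZc ▸ hc2)
    rw [he]
    exact ⟨hv, mem_centralizer_self_iff.2 hc⟩
  have hEV : E ⊓ V = Z := by
    refine eq_of_le_of_card_ge (fun x hx =>
      hfix e₀ (hET he₀) he₀U (hee e₀ he₀) x hx.2 (comm_of_sq hE he₀ hx.1)) ?_
    rw [hZc]
    refine Nat.le_of_mul_le_mul_left (c := _) ?_ (show 0 < q by omega)
    rw [← pow_two, ← hVc]
    exact hVle
  have hEVc : Nat.card (E ⊓ V : Subgroup G) = q := by rw [hEV, hZc]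
  have hEc : Nat.card (E ⊓ U : Subgroup G) * q ≤ Nat.card E := by
    refine Nat.le_of_mul_le_mul_right ?_ (show 0 < q by omega)
    calc Nat.card (E ⊓ U : Subgroup G) * q * q = Nat.card (E ⊓ U : Subgroup G) * Nat.card V := by
          rw [hVc]; ring
      _ = Nat.card ((E ⊓ U) ⊔ V : Subgroup G) * Nat.card (E ⊓ V : Subgroup G) := hprod.symm
      _ ≤ Nat.card E * q := hEVc ▸ Nat.mul_le_mul_right _ hmax
  -- `T` acts on `V` by transvections modulo `Z`
  haveI := L.T_two.isNilpotent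
  have hVT : V ≤ T := (omegaZ_le U).trans L.U_le
  let W : Subgroup G :=
    { carrier := {v | v ∈ V ∧ ∀ t ∈ T, t * v * t⁻¹ * v⁻¹ ∈ Z}
      one_mem' := ⟨V.one_mem, fun t _ => by simp⟩
      mul_mem' := fun {a b} ha hb => ⟨V.mul_mem ha.1 hb.1, fun t ht => by
        have h1 : Commute a (t * b * t⁻¹ * b⁻¹) := omegaZ_commute ha.1 (omegaZ_le U (hb.2 t ht).1)
        have e : t * (a * b) * t⁻¹ * (a * b)⁻¹ = (t * a * t⁻¹ * a⁻¹) * (t * b * t⁻¹ * b⁻¹) := by
          calc t * (a * b) * t⁻¹ * (a * b)⁻¹ = t * a * t⁻¹ * a⁻¹ * (a * (t * b * t⁻¹ * b⁻¹) * a⁻¹) := by group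
            _ = _ := by rw [h1.eq, mul_inv_cancel_right]
        rw [e]
        exact Z.mul_mem (ha.2 t ht) (hb.2 t ht)⟩
      inv_mem' := fun {a} ha => by
        rw [inv_eq_of_mul_eq_one_right (omegaZ_sq ha.1)]
        exact ha }
  have hWV : W = V := by
    have hWV' : W ≤ V := fun v hv => hv.1
    have hZW : Z ≤ W := fun v hv => ⟨hv.1, fun t ht => by
      rw [mem_centralizer_iff.1 hv.2 t ht, mul_inv_cancel_right, mul_inv_cancel]
      exact Z.one_mem⟩
    have hZW' : Z ≠ W := by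
      haveI : (V.subgroupOf T).Normal :=
        (normal_subgroupOf_iff_le_normalizer hVT).2 (L.T_le.trans L.M_le_omegaZ)
      haveI : (Z.subgroupOf T).Normal := ⟨fun x hx g => by
        show (g : G) * x * (g : G)⁻¹ ∈ Z
        rw [mem_centralizer_iff.1 (show (x : G) ∈ Z from hx).2 g g.2, mul_inv_cancel_right]
        exact hx⟩
      have hlt : Z.subgroupOf T < V.subgroupOf T := by
        refine lt_of_le_of_ne (fun x hx => (show (x : G) ∈ Z from hx).1) fun e => ?_
        have : Nat.card Z = Nat.card V := by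
          rw [← Nat.card_congr (subgroupOfEquivOfLe (hVT.trans' inf_le_left : Z ≤ T)).toEquiv,
            ← Nat.card_congr (subgroupOfEquivOfLe hVT).toEquiv, e]
        rw [hZc, hVc] at this
        nlinarith
      obtain ⟨x, hxV, hxZ, hx⟩ := CfsgLib.PGroupBasic.exists_central_mod (Z.subgroupOf T) (V.subgroupOf T) hlt
      intro e
      refine hxZ (show (x : G) ∈ Z from e ▸ ⟨hxV, fun t ht => ?_⟩)
      have h1 : (x : G) * t * (x : G)⁻¹ * t⁻¹ ∈ Z := hx ⟨t, ht⟩
      have := Z.inv_mem h1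
      simpa [mul_assoc] using this
    have hDW : ∀ d ∈ D, ∀ v ∈ W, d * v * d⁻¹ ∈ W := fun d hd v hv =>
      ⟨omegaZ_conj (L.M_le (L.D_le hd)) hv.1, fun t ht => by
        have ht' : d⁻¹ * t * d ∈ T := by simpa using L.D_norm _ (D.inv_mem hd) t ht
        convert L.fixed_inv hd (hv.2 _ ht') using 1
        group⟩
    have := L.gap h hZW hZW' (L.omegaZ_two.to_le hWV') (fun d hd a ha => L.fixed_inv hd ha) hDW
    rw [hZc] at this
    exact eq_of_le_of_card_ge hWV' (by rw [hVc, pow_two]; exact this)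
  have hcommV : ∀ t ∈ T, ∀ v ∈ V, t * v * t⁻¹ * v⁻¹ ∈ Z := fun t ht v hv => (hWV.symm ▸ hv : v ∈ W).2 t ht
  have hsq : ∀ t ∈ T, t * t ∈ U := fun t ht => by
    refine L.cent_omegaZ h (M.mul_mem (L.T_le ht) (L.T_le ht)) fun v hv => ?_
    have hz := hcommV t ht v hv
    set z := t * v * t⁻¹ * v⁻¹ with hzdef
    have htz : t * z = z * t := mem_centralizer_iff.1 hz.2 t ht
    have hvz : z * z = 1 := omegaZ_sq hz.1
    refine mul_inv_eq_iff_eq_mul.1 ?_
    calc t * t * v * (t * t)⁻¹ = t * (z * v) * t⁻¹ := by rw [hzdef]; group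
      _ = (t * z) * v * t⁻¹ := by group
      _ = z * (z * v) := by rw [htz, hzdef]; group
      _ = v := by rw [← mul_assoc, hvz, one_mul]
  have hcover : ∀ t ∈ T, ∃ e ∈ E, e⁻¹ * t ∈ U := fun t ht => by
    by_cases htU : t ∈ U
    · exact ⟨1, E.one_mem, by simpa using htU⟩
    · exact hfull hEc t ht htU (hsq t ht)
  have hET2 : T = E ⊔ U := by
    refine le_antisymm (fun t ht => ?_) (sup_le hET L.U_le)
    obtain ⟨e, he, heU⟩ := hcover t ht
    rw [← mul_inv_cancel_left e t]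
    exact mul_mem (mem_sup_left he) (mem_sup_right heU)
  have hEexact : Nat.card E = Nat.card (E ⊓ U : Subgroup G) * q := le_antisymm hbound hEc
  have hTc : Nat.card T = q * Nat.card U := by
    have := CfsgLib.Solvable.card_sup_mul_card_inf (A := E) (K := U) ((hET.trans L.T_le).trans L.M_le)
    rw [← hET2, hEexact] at this
    refine Nat.eq_of_mul_eq_mul_right (Nat.card_pos (α := (E ⊓ U : Subgroup G))) ?_
    rw [this]; ring
  -- `U` is abelian
  have hUab : ∀ a ∈ U, ∀ b ∈ U, a * b = b * a := by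
    have h3 : 3 ∣ Nat.card M := by
      have hMc : Nat.card M = (q + 1) * q * (q - 1) * Nat.card U := by
        refine Nat.eq_of_mul_eq_mul_right (Nat.card_pos (α := U)) ?_
        rw [L.card_M, hTc, show Nat.card D = q - 1 by have := L.D_card; omega]
        ring
      rw [hMc]
      obtain ⟨p, rfl⟩ : ∃ p, q = p + 1 := ⟨q - 1, by omega⟩
      refine dvd_mul_of_dvd_left ?_ _
      rw [Nat.add_sub_cancel]
      rcases (show p % 3 = 0 ∨ p % 3 = 1 ∨ p % 3 = 2 by omega) with hp | hp | hp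
      · exact dvd_mul_of_dvd_right (Nat.dvd_of_mod_eq_zero hp) _
      · exact dvd_mul_of_dvd_left (dvd_mul_of_dvd_left (Nat.dvd_of_mod_eq_zero (by omega)) _) _
      · exact dvd_mul_of_dvd_left (dvd_mul_of_dvd_right (Nat.dvd_of_mod_eq_zero (by omega)) _) _
    haveI : Fact (Nat.Prime 3) := ⟨Nat.prime_three⟩
    haveI hUn : (U.subgroupOf M).Normal := (normal_subgroupOf_iff_le_normalizer L.U_le_M).2 L.M_le
    set U' := U.subgroupOf M
    have hU'2 : IsPGroup 2 U' := L.U_two.of_equiv (subgroupOfEquivOfLe L.U_le_M).symm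
    have hfpf := h.conjHom_fpf L.M_le L.U_two
    intro a ha b hb
    refine congrArg Subtype.val (abelian U' (fun N hN hN2 x hx => ?_) ?_ L.U_two hfpf ⟨a, ha⟩ ⟨b, hb⟩)
    · refine L.U_core (N.map M.subtype) (map_subtype_le N) ?_ (hN2.map _) (mem_map_of_mem M.subtype hx)
      rintro m hm _ ⟨y, hy, rfl⟩
      exact ⟨⟨m, hm⟩ * y * ⟨m, hm⟩⁻¹, hN.conj_mem y hy _, rfl⟩
    · intro hall
      set π := QuotientGroup.mk' U'
      set A := (closure {x : M | orderOf x = 3}).map π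
      haveI : (closure {x : M | orderOf x = 3}).Normal := ⟨fun x hx g => by
        have hle : closure {x : M | orderOf x = 3} ≤
            (closure {x : M | orderOf x = 3}).comap (MulAut.conj g).toMonoidHom :=
          (closure_le _).2 fun y hy => subset_closure (by
            show orderOf (g * y * g⁻¹) = 3
            rwa [CfsgLib.Invol.orderOf_conj_eq])
        exact hle hx⟩
      haveI : A.Normal := Normal.map inferInstance π (QuotientGroup.mk'_surjective U')
      have hAeq : A = closure (π '' {x : M | orderOf x = 3}) := MonoidHom.map_closure π _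
      have hAc : ∀ a ∈ A, ∀ b ∈ A, a * b = b * a := by
        rw [hAeq]
        intro a ha b hb
        refine congrArg Subtype.val
          ((isMulCommutative_closure ?_).is_comm.comm ⟨a, ha⟩ ⟨b, hb⟩)
        rintro _ ⟨σ, hσ, rfl⟩ _ ⟨τ, hτ, rfl⟩
        rw [← map_mul, ← map_mul]
        exact (QuotientGroup.eq.2 (hall σ τ hσ hτ)).symm
      have hA3 : ∀ a ∈ A, a ^ 3 = 1 := by
        intro a ha
        rw [hAeq] at ha
        induction ha using closure_induction with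
        | mem x hx =>
          obtain ⟨σ, hσ, rfl⟩ := hx
          rw [← map_pow, ← show orderOf σ = 3 from hσ, pow_orderOf_eq_one, map_one]
        | one => simp
        | mul x y hx hy ihx ihy =>
          rw [Commute.mul_pow (hAc x (hAeq ▸ hx) y (hAeq ▸ hy)), ihx, ihy, one_mul]
        | inv x _ ihx => rw [inv_pow, ihx, inv_one]
      have hY : IsCIT (M ⧸ U') := (h.subgroup M).quotient U' hU'2
      have hYns : ¬ Group.IsSolvable (M ⧸ U') := fun hs => L.not_solvable (by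
        haveI := hs
        haveI := hU'2.isNilpotent
        exact Group.isSolvable_of_ker_le_range U'.subtype π (by simp [π]))
      obtain ⟨i, j, hi, hj, hij, hc⟩ := hY.exists_klein hYns
      have hA1 : A = ⊥ := hY.eq_bot_of_klein (odd_card_of_pow_three hA3) hi hj hij hc
        (normalizer_eq_top (H := A) ▸ mem_top i) (normalizer_eq_top (H := A) ▸ mem_top j)
      obtain ⟨x, hx⟩ := exists_prime_orderOf_dvd_card' (G := M) 3 h3
      have hx1 : π x = 1 := mem_bot.1 (hA1 ▸ mem_map_of_mem π (subset_closure hx))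
      have : x = 1 := eq_one_of_odd_of_mem hU'2 (hx ▸ by decide) ((QuotientGroup.eq_one_iff x).1 hx1)
      rw [this, orderOf_one] at hx
      omega
  have homega : ∀ x ∈ U, x * x = 1 → x ∈ V := fun x hx hxx => ⟨hx, hxx, fun w hw => hUab x hx w hw⟩
  have hEU' : E ⊓ U = Z := by
    rw [← hEV]
    exact le_antisymm (fun x hx => ⟨hx.1, homega x hx.2 (hE x hx.1)⟩) fun x hx => ⟨hx.1, omegaZ_le U hx.2⟩
  refine ⟨⟨hVc, hZc, fun e he heU v hv hc => (hfix e he heU (hsq e he) v hv hc).2, hsq,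
    fun t ht v hv => (hcommV t ht v hv).2, hUab, homega, hTc⟩, hEU', ?_, hcover⟩
  rw [hEexact, hEU', hZc]; ring

end Loc

end CfsgLib.CIT
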