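import Cfsg.Agent.CITGroups.Config
import Cfsg.Agent.CITGroups.LocModule

/-!
# The configuration: first consequences

With `Z = V ⊓ E`: `Z` is central in `T`, the complement `D` permutes its nontrivial elements regularly, and
`V = Z × Z^u`.
-/

set_option autoImplicit false
set_option linter.style.haveILetI false
set_option linter.unusedSectionVars false

namespace CfsgLib.CIT

open Subgroup
open scoped Pointwise

universe u

variable {G : Type u} [Group G] [Finite G]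

/-- A conjugate, as a plain product. -/
def cj (g x : G) : G := g * x * g⁻¹

theorem cj_mul (g h x : G) : cj (g * h) x = cj g (cj h x) := by simp only [cj]; group

theorem cj_one (x : G) : cj 1 x = x := by simp [cj]

theorem cj_prod (g x y : G) : cj g (x * y) = cj g x * cj g y := by simp only [cj]; group

theorem cj_eq_one {g x : G} : cj g x = 1 ↔ x = 1 := by simp [cj]

theorem cj_inv_left {g x : G} : cj g⁻¹ (cj g x) = x := by rw [← cj_mul, inv_mul_cancel, cj_one]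

theorem cj_comm {g h : G} (hc : g * h = h * g) (x : G) : cj g (cj h x) = cj h (cj g x) := by
  rw [← cj_mul, hc, cj_mul]

theorem cj_fix_iff {g x : G} : cj g x = x ↔ Commute g x := mul_inv_eq_iff_eq_mul

variable {q : ℕ} {M X V E T D : Subgroup G} {u u' : G}

theorem Second.symm (S : Second q M X V E T D u u') : Second q X M E V T D u' u := ⟨S.right, S.left⟩

namespace Half

theorem V_le_M (H : Half q M V E T D u) : V ≤ M := H.V_le.trans H.T_le

theorem E_le_M (H : Half q M V E T D u) : E ≤ M := H.E_le.trans H.T_le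

theorem V_conj (H : Half q M V E T D u) {m v : G} (hm : m ∈ M) (hv : v ∈ V) : cj m v ∈ V :=
  (mem_normalizer_iff.1 (H.M_eq.le hm) v).1 hv

theorem E_conj (H : Half q M V E T D u) {t e : G} (ht : t ∈ T) (he : e ∈ E) : cj t e ∈ E := by
  obtain ⟨v, hv, e', he', rfl⟩ := H.decomp_T t ht
  rw [cj_mul, show cj e' e = e by rw [cj_fix_iff]; exact comm_of_sq H.E_elem he' he]
  have hT : cj v e ∈ T := T.mul_mem (T.mul_mem (H.V_le hv) (H.E_le he)) (T.inv_mem (H.V_le hv))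
  refine (H.invols _ hT ?_).elim (fun hV => ?_) id
  · rw [← cj_prod, H.E_elem e he, cj, mul_one, mul_inv_cancel]
  · have heV : e ∈ V := by
      have := H.V_conj (inv_mem (H.V_le_M hv)) hV
      rwa [cj_inv_left] at this
    rw [show cj v e = e from cj_fix_iff.2 (comm_of_sq H.V_elem hv heV)]
    exact he

theorem Z_central (H : Half q M V E T D u) {z t : G} (hz : z ∈ V ⊓ E) (ht : t ∈ T) : Commute t z := by
  obtain ⟨v, hv, e, he, rfl⟩ := H.decomp_T t ht
  exact (comm_of_sq H.V_elem hv hz.1).mul_left (comm_of_sq H.E_elem he hz.2)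

theorem comm_mem (H : Half q M V E T D u) {e v : G} (he : e ∈ E) (hv : v ∈ V) : cj e v * v⁻¹ ∈ V ⊓ E := by
  refine ⟨V.mul_mem (H.V_conj (H.E_le_M he) hv) (V.inv_mem hv), ?_⟩
  have : cj e v * v⁻¹ = e * cj v e⁻¹ := by simp only [cj]; group
  rw [this]
  exact E.mul_mem he (H.E_conj (H.V_le hv) (E.inv_mem he))

theorem four_le (H : Half q M V E T D u) : 4 ≤ q := by
  obtain ⟨k, hk, rfl⟩ := H.pow_two
  calc 4 = 2 ^ 2 := rfl
    _ ≤ 2 ^ k := Nat.pow_le_pow_right (by norm_num) hk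

theorem T_two (H : Half q M V E T D u) : IsPGroup 2 T := by
  obtain ⟨k, -, hk⟩ := H.pow_two
  exact IsPGroup.of_card (p := 2) (n := k * 3) (by rw [H.card_T, hk, ← pow_mul])

theorem D_odd (H : Half q M V E T D u) : Odd (Nat.card D) := by
  obtain ⟨k, hk, hq⟩ := H.pow_two
  rw [H.card_D, hq]
  exact Nat.Even.sub_odd Nat.one_le_two_pow (even_two.pow_of_ne_zero (by omega)) odd_one

theorem D_comm (H : Half q M V E T D u) {a b : G} (ha : a ∈ D) (hb : b ∈ D) : a * b = b * a := by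
  haveI := H.D_cyclic
  exact congrArg Subtype.val ((IsCyclic.isMulCommutative (α := D)).is_comm.comm ⟨a, ha⟩ ⟨b, hb⟩)

theorem D_conj_Z (H : Half q M V E T D u) {d z : G} (hd : d ∈ D) (hz : z ∈ V ⊓ E) : cj d z ∈ V ⊓ E :=
  ⟨H.V_conj (H.D_le hd) hz.1, H.D_norm_E d hd z hz.2⟩

theorem uu (H : Half q M V E T D u) : u * u = 1 := CfsgLib.Invol.mul_self_eq_one H.u_ord

theorem u_inv_eq (H : Half q M V E T D u) : u⁻¹ = u := CfsgLib.Invol.inv_eq_self H.u_ord

theorem cj_uu (H : Half q M V E T D u) (x : G) : cj u (cj u x) = x := by rw [← cj_mul, H.uu, cj_one]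

theorem u_d (H : Half q M V E T D u) {d : G} (hd : d ∈ D) : u * d = d⁻¹ * u :=
  mul_inv_eq_iff_eq_mul.1 (H.u_inv d hd)

theorem cj_u_d (H : Half q M V E T D u) {d : G} (hd : d ∈ D) (x : G) : cj u (cj d x) = cj d⁻¹ (cj u x) := by
  rw [← cj_mul, H.u_d hd, cj_mul]

theorem cj_d_u (H : Half q M V E T D u) {d : G} (hd : d ∈ D) (x : G) : cj d (cj u x) = cj u (cj d⁻¹ x) := by
  rw [H.cj_u_d (inv_mem hd), inv_inv]

theorem cj_eq (H : Half q M V E T D u) (h : IsCIT G) {d d' z : G} (hd : d ∈ D) (hd' : d' ∈ D) (hz : z ∈ V)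
    (hz1 : z ≠ 1) (e : cj d z = cj d' z) : d = d' := by
  have hc : Commute (d'⁻¹ * d) z := cj_fix_iff.1 (by rw [cj_mul, e, cj_inv_left])
  have hodd := H.D_odd.of_dvd_nat (orderOf_dvd_natCard D (D.mul_mem (D.inv_mem hd') hd))
  have h2 : orderOf z = 2 := CfsgLib.Invol.orderOf_eq_two (H.V_elem z hz) hz1
  exact (inv_mul_eq_one.1 (h.eq_one_of_commute h2 hc.symm hodd)).symm

theorem eq_one_of_fix (H : Half q M V E T D u) (h : IsCIT G) {d z : G} (hd : d ∈ D) (hz : z ∈ V)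
    (hz1 : z ≠ 1) (e : cj d z = z) : d = 1 :=
  H.cj_eq h hd D.one_mem hz hz1 (by rw [e, cj_one])

theorem exists_D (H : Half q M V E T D u) (h : IsCIT G) {z z' : G} (hz : z ∈ V ⊓ E) (hz1 : z ≠ 1)
    (hz' : z' ∈ V ⊓ E) (hz'1 : z' ≠ 1) : ∃ d ∈ D, cj d z = z' := by
  classical
  let f : D → {x : ↥(V ⊓ E) // x ≠ 1} := fun d => ⟨⟨cj (d : G) z, H.D_conj_Z d.2 hz⟩, fun e =>
    hz1 (cj_eq_one.1 (congrArg Subtype.val e))⟩
  have hf : Function.Injective f := fun a b e => Subtype.ext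
    (H.cj_eq h a.2 b.2 hz.1 hz1 (congrArg Subtype.val (congrArg Subtype.val e)))
  have hc : Nat.card {x : ↥(V ⊓ E) // x ≠ 1} = Nat.card D := by
    rw [H.card_D, ← H.card_inf]
    haveI : Fintype ↥(V ⊓ E) := Fintype.ofFinite _
    rw [Nat.card_eq_fintype_card, Nat.card_eq_fintype_card, Fintype.card_subtype_compl,
      Fintype.card_subtype_eq]
  obtain ⟨d, hd⟩ := ((Nat.bijective_iff_injective_and_card f).2 ⟨hf, hc.symm⟩).2
    ⟨⟨z', hz'⟩, fun e => hz'1 (congrArg Subtype.val e)⟩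
  exact ⟨d, d.2, congrArg Subtype.val (congrArg Subtype.val hd)⟩

theorem mem_T_of_two (H : Half q M V E T D u) {g : G} (hg : g ∈ M) (hgT : g ∈ normalizer (T : Set G)) {k : ℕ}
    (hk : g ^ 2 ^ k = 1) : g ∈ T := by
  obtain ⟨t, ht, d, hd, rfl⟩ := H.normalizer_T g hg hgT
  haveI hn : (T.subgroupOf (normalizer (T : Set G))).Normal := normal_in_normalizer
  have hdN : d ∈ normalizer (T : Set G) := by
    have := mul_mem (inv_mem (le_normalizer ht : t ∈ normalizer (T : Set G))) hgT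
    rwa [inv_mul_cancel_left] at this
  let π := QuotientGroup.mk' (T.subgroupOf (normalizer (T : Set G)))
  have e : π ⟨t * d, hgT⟩ = π ⟨d, hdN⟩ := by
    rw [show (⟨t * d, hgT⟩ : normalizer (T : Set G)) = ⟨t, le_normalizer ht⟩ * ⟨d, hdN⟩ from rfl, map_mul,
      show π ⟨t, le_normalizer ht⟩ = 1 from (QuotientGroup.eq_one_iff _).2 (mem_subgroupOf.2 ht), one_mul]
  have h1 : d ^ 2 ^ k ∈ T := by
    have : π ((⟨d, hdN⟩ : normalizer (T : Set G)) ^ 2 ^ k) = 1 := by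
      rw [map_pow, ← e, ← map_pow]
      convert map_one π
      exact Subtype.ext hk
    exact mem_subgroupOf.1 ((QuotientGroup.eq_one_iff _).1 this)
  have hodd : Odd (orderOf d) := H.D_odd.of_dvd_nat (orderOf_dvd_natCard D hd)
  have : d ^ 2 ^ k = 1 := eq_one_of_mem_inf H.T_two H.D_odd h1 (D.pow_mem hd _)
  rw [eq_one_of_odd_of_pow hodd this, mul_one]
  exact ht

theorem T_maximal (H : Half q M V E T D u) {P : Subgroup G} (hP : P ≤ M) (hP2 : IsPGroup 2 P) :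
    ∃ m ∈ M, ∀ x ∈ P, cj m x ∈ T := by
  haveI : Fact (Nat.Prime 2) := ⟨Nat.prime_two⟩
  obtain ⟨k, hk, hq⟩ := H.pow_two
  have hT : IsPGroup 2 (T.subgroupOf M) := H.T_two.of_equiv (subgroupOfEquivOfLe H.T_le).symm
  have hidx : ¬ 2 ∣ (T.subgroupOf M).index := by
    have h1 := (T.subgroupOf M).card_mul_index
    rw [Nat.card_congr (subgroupOfEquivOfLe H.T_le).toEquiv, H.card_T, H.card_M] at h1
    have he : (T.subgroupOf M).index = (q + 1) * (q - 1) := by
      apply Nat.eq_of_mul_eq_mul_left (show 0 < q ^ 3 by have := H.four_le; positivity)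
      rw [h1]; ring
    rw [he, hq, ← even_iff_two_dvd, Nat.not_even_iff_odd]
    have he2 : Even (2 ^ k) := even_two.pow_of_ne_zero (by omega)
    exact he2.add_one.mul (Nat.Even.sub_odd Nat.one_le_two_pow he2 odd_one)
  let S : Sylow 2 M := hT.toSylow hidx
  obtain ⟨R, hR⟩ := (hP2.of_equiv (subgroupOfEquivOfLe hP).symm).exists_le_sylow
  obtain ⟨m, hm⟩ := MulAction.exists_smul_eq M R S
  refine ⟨m, m.2, fun x hx => ?_⟩
  have h1 : (⟨x, hP hx⟩ : M) ∈ (R : Subgroup M) := hR (mem_subgroupOf.2 hx)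
  have h2 : m * ⟨x, hP hx⟩ * m⁻¹ ∈ ((m • R : Sylow 2 M) : Subgroup M) := by
    rw [Sylow.coe_subgroup_smul]
    exact smul_mem_pointwise_smul _ (MulAut.conj m) _ h1
  rw [hm] at h2
  exact mem_subgroupOf.1 h2

theorem f_mem (H : Half q M V E T D u) {e : G} (he : e ∈ E) : cj u e ∈ M :=
  mul_mem (mul_mem H.u_mem (H.E_le_M he)) (inv_mem H.u_mem)

theorem f_not (H : Half q M V E T D u) {e : G} (he : e ∈ E) (heV : e ∉ V) : cj u e ∉ normalizer (T : Set G) :=
  fun hN => H.u_not (H.trap e (H.E_le he) heV u H.u_mem (H.mem_T_of_two (k := 1) (H.f_mem he) hN (by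
    rw [pow_one, _root_.pow_two, show u * e * u⁻¹ * (u * e * u⁻¹) = u * (e * e) * u⁻¹ by group, H.E_elem e he,
      mul_one, mul_inv_cancel])))

theorem odd_ef (H : Half q M V E T D u) (h : IsCIT G) {e : G} (he : e ∈ E) (heV : e ∉ V) :
    Odd (orderOf (e * cj u e)) ∧ e * cj u e ≠ 1 := by
  set f := cj u e with hf
  have hne : e * f ≠ 1 := fun e1 => H.f_not he heV (by
    rw [← hf, (eq_inv_of_mul_eq_one_right e1), inv_eq_of_mul_eq_one_right (H.E_elem e he)]
    exact le_normalizer (H.E_le he))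
  refine ⟨(h.odd_or_two_pow _).resolve_right ?_, hne⟩
  rintro ⟨k, hk⟩
  have he2 : orderOf e = 2 := CfsgLib.Invol.orderOf_eq_two (H.E_elem e he) fun e1 => heV (e1 ▸ V.one_mem)
  have hf2 : orderOf f = 2 := by rw [hf, cj, CfsgLib.Invol.orderOf_conj_eq, he2]
  have hP : IsPGroup 2 (closure ({e, f} : Set G)) := by
    rintro ⟨d, hd⟩
    by_cases hz : d ∈ zpowers (e * f)
    · obtain ⟨i, rfl⟩ := mem_zpowers_iff.1 hz
      refine ⟨k, Subtype.ext ?_⟩
      show ((e * f) ^ i) ^ 2 ^ k = 1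
      rw [← zpow_natCast, ← zpow_mul, mul_comm, zpow_mul, zpow_natCast, ← hk, pow_orderOf_eq_one, one_zpow]
    · refine ⟨1, Subtype.ext ?_⟩
      show d ^ 2 ^ 1 = 1
      rw [pow_one, ← CfsgLib.Invol.orderOf_of_not_mem_zpowers he2 hf2 hd hz, pow_orderOf_eq_one]
  have hPM : closure ({e, f} : Set G) ≤ M := (closure_le _).2 (by
    rintro x (rfl | rfl)
    exacts [H.E_le_M he, H.f_mem he])
  obtain ⟨m, hm, hmT⟩ := H.T_maximal hPM hP
  have hmN := H.trap e (H.E_le he) heV m hm (hmT e (subset_closure (Or.inl rfl)))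
  exact H.f_not he heV (le_normalizer ((mem_normalizer_iff.1 hmN f).2 (hmT f (subset_closure (Or.inr rfl)))))

theorem exists_E_not_V (H : Half q M V E T D u) : ∃ e ∈ E, e ∉ V := by
  by_contra hne
  push Not at hne
  have h1 := H.card_inf
  rw [inf_eq_right.2 fun e he => hne e he, H.card_E] at h1
  have := H.four_le
  nlinarith

theorem Z_disj (H : Half q M V E T D u) (h : IsCIT G) {z : G} (hz : z ∈ V ⊓ E) (hu : cj u z ∈ E) : z = 1 := by
  by_contra hz1
  obtain ⟨e, he, heV⟩ := H.exists_E_not_V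
  obtain ⟨hodd, hne⟩ := H.odd_ef h he heV
  have hw : cj u z ∈ V ⊓ E := ⟨H.V_conj H.u_mem hz.1, hu⟩
  have h1 : Commute e z := H.Z_central hz (H.E_le he)
  have h2 : Commute (cj u e) z := by
    have := (H.Z_central hw (H.E_le he)).map (MulAut.conj u).toMonoidHom
    rwa [show (MulAut.conj u).toMonoidHom (cj u z) = cj u (cj u z) from rfl, H.cj_uu,
      show (MulAut.conj u).toMonoidHom e = cj u e from rfl] at this
  exact hne (h.eq_one_of_commute (CfsgLib.Invol.orderOf_eq_two (H.V_elem z hz.1) hz1) (h1.mul_left h2).symm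
    hodd)

theorem pair_inj (H : Half q M V E T D u) (h : IsCIT G) {z z' w w' : G} (hz : z ∈ V ⊓ E) (hz' : z' ∈ V ⊓ E)
    (hw : w ∈ V ⊓ E) (hw' : w' ∈ V ⊓ E) (e : z * cj u w = z' * cj u w') : z = z' ∧ w = w' := by
  have e1 : cj u (w * w'⁻¹) = z⁻¹ * z' := by
    rw [cj_prod, show cj u w'⁻¹ = (cj u w')⁻¹ by simp only [cj]; group,
      show cj u w = z⁻¹ * (z * cj u w) by group, e]
    group
  have hww : w = w' := mul_inv_eq_one.1 (H.Z_disj h ((V ⊓ E).mul_mem hw ((V ⊓ E).inv_mem hw'))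
    (e1 ▸ E.mul_mem (E.inv_mem hz.2) hz'.2))
  rw [hww] at e
  exact ⟨mul_right_cancel e, hww⟩

theorem V_decomp (H : Half q M V E T D u) (h : IsCIT G) {v : G} (hv : v ∈ V) :
    ∃ z ∈ V ⊓ E, ∃ w ∈ V ⊓ E, v = z * cj u w := by
  let f : ↥(V ⊓ E) × ↥(V ⊓ E) → V := fun p =>
    ⟨(p.1 : G) * cj u p.2, V.mul_mem p.1.2.1 (H.V_conj H.u_mem p.2.2.1)⟩
  have hf : Function.Injective f := fun a b e => by
    obtain ⟨e1, e2⟩ := H.pair_inj h a.1.2 b.1.2 a.2.2 b.2.2 (congrArg Subtype.val e)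
    exact Prod.ext (Subtype.ext e1) (Subtype.ext e2)
  obtain ⟨p, hp⟩ := ((Nat.bijective_iff_injective_and_card f).2 ⟨hf, by
    rw [Nat.card_prod, H.card_inf, H.card_V, _root_.pow_two]⟩).2 ⟨v, hv⟩
  exact ⟨p.1, p.1.2, p.2, p.2.2, (congrArg Subtype.val hp).symm⟩

/-- The Bruhat form of `u e u`. -/
theorem bruhat_f (H : Half q M V E T D u) {e : G} (he : e ∈ E) (heV : e ∉ V) :
    ∃ v ∈ V, ∃ e₁ ∈ E, ∃ d ∈ D, ∃ e₂ ∈ E, cj u e = v * e₁ * d⁻¹ * u * e₂ := by
  obtain ⟨t, ht, k, hk, hfe⟩ := H.bruhat _ (H.f_mem he) (H.f_not he heV)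
  obtain ⟨t', ht', d, hd, rfl⟩ := H.normalizer_T k hk.1 hk.2
  obtain ⟨v₁, hv₁, e₁, he₁, rfl⟩ := H.decomp_T t ht
  obtain ⟨v₂, hv₂, e₂, he₂, rfl⟩ := H.decomp_T t' ht'
  refine ⟨v₁ * cj e₁ (cj u v₂), V.mul_mem hv₁ (H.V_conj (H.E_le_M he₁) (H.V_conj H.u_mem hv₂)), e₁, he₁, d, hd,
    cj d⁻¹ e₂, H.D_norm_E _ (D.inv_mem hd) _ he₂, ?_⟩
  rw [hfe, mul_assoc _ d⁻¹ u, ← H.u_d hd]
  simp only [cj]
  group

end Half

end CfsgLib.CIT
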