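import Cfsg.Agent.CITGroups.ListOrders
import Cfsg.Agent.CITGroups.Basic
import Cfsg.Agent.OutsidePrimePow.Main
import Cfsg.Agent.S0252
import Cfsg.Agent.S0253
import Cfsg.Agent.S0254

/-!
Simple groups in which all elements have prime power order, from the list of simple CIT groups.
-/

set_option autoImplicit false
set_option linter.style.haveILetI false
set_option linter.unusedSectionVars false

namespace CfsgLib.CIT

open Subgroup

universe u

/-- The list of simple CIT groups. -/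
def Listed (G : Type u) [Group G] : Prop :=
  (∃ (F : Type) (_ : Field F) (_ : Fintype F),
      (Fintype.card F = 9 ∨ (∃ n : ℕ, Fintype.card F = 2 ^ n) ∨
        ((Fintype.card F).Prime ∧ ∃ k : ℕ, Fintype.card F = 2 ^ k + 1 ∨ Fintype.card F + 1 = 2 ^ k)) ∧
      Nonempty (G ≃* Matrix.ProjectiveSpecialLinearGroup (Fin 2) F)) ∨
    (∃ (F : Type) (_ : Field F) (_ : Fintype F), Fintype.card F = 4 ∧
      Nonempty (G ≃* Matrix.ProjectiveSpecialLinearGroup (Fin 3) F)) ∨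
    Cfsg.Lie.IsoSuzuki G

variable {G : Type u} [Group G] [Finite G]

theorem isCIT_of_eppo (h : ∀ g : G, g ≠ 1 → IsPrimePow (orderOf g)) : IsCIT G := fun t ht => by
  refine IsPGroup.iff_orderOf.2 fun c => ?_
  rw [← orderOf_coe]
  set x := (c : G)
  have hc : Commute t x := (mem_centralizer_singleton_iff.1 c.2).symm
  by_cases hx : x = 1
  · exact ⟨0, by rw [hx, orderOf_one, pow_zero]⟩
  obtain ⟨p, k, hp, -, hk⟩ := (isPrimePow_nat_iff _).1 (h x hx)
  by_cases hp2 : p = 2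
  · exact ⟨k, by rw [← hk, hp2]⟩
  exfalso
  have hco : (orderOf t).Coprime (orderOf x) := by
    rw [ht, ← hk]
    exact ((Nat.coprime_primes Nat.prime_two hp).2 (Ne.symm hp2)).pow_right k
  refine hx (CfsgLib.OutsidePrimePow.eq_one_of_commute (CfsgLib.Invol.ne_one ht) hc hco (h _ fun e => ?_))
  have := hc.orderOf_mul_eq_mul_orderOf_of_coprime hco
  rw [e, orderOf_one, ht] at this
  omega

theorem four_le_of_psl {F : Type} [Field F] [Fintype F] (hns : ¬ Group.IsSolvable G)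
    (e : G ≃* Matrix.ProjectiveSpecialLinearGroup (Fin 2) F) : 4 ≤ Fintype.card F := by
  by_contra hlt
  have h1 := Fintype.one_lt_card (α := F)
  obtain ⟨r, hr, hrd, hr2, hr3⟩ := CfsgLib.EPPO.exists_third_prime (G := G) hns 2 3
  rw [Nat.card_congr e.toEquiv] at hrd
  have hP := CfsgLib.Linear.card_PSL_mul (F := F) rfl 2 (by omega)
  have h2 : r ∣ 2 ^ 3 * 3 ^ 3 := by
    refine hrd.trans ?_
    rw [Fin.prod_univ_two] at hP
    rcases (show Fintype.card F = 2 ∨ Fintype.card F = 3 by omega) with e2 | e2 <;> rw [e2] at hP <;>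
      norm_num at hP
    · rw [hP]; norm_num
    · rw [show Nat.card (Matrix.ProjectiveSpecialLinearGroup (Fin 2) F) = 12 by omega]; norm_num
  rcases (hr.dvd_mul).1 h2 with h3 | h3
  · exact hr2 ((Nat.prime_dvd_prime_iff_eq hr Nat.prime_two).1 (hr.dvd_of_dvd_pow h3))
  · exact hr3 ((Nat.prime_dvd_prime_iff_eq hr Nat.prime_three).1 (hr.dvd_of_dvd_pow h3))

/-- A listed group with all element orders prime powers. -/
theorem eppo_of_listed (hns : ¬ Group.IsSolvable G) (h : ∀ g : G, g ≠ 1 → IsPrimePow (orderOf g))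
    (hl : Listed G) :
    Nonempty (G ≃* alternatingGroup (Fin 6)) ∨
    (∃ (F : Type) (_ : Field F) (_ : Fintype F), Fintype.card F ∈ ({4, 7, 8, 17} : Finset ℕ) ∧
      Nonempty (G ≃* Matrix.ProjectiveSpecialLinearGroup (Fin 2) F)) ∨
    (∃ (F : Type) (_ : Field F) (_ : Fintype F), Fintype.card F = 4 ∧
      Nonempty (G ≃* Matrix.ProjectiveSpecialLinearGroup (Fin 3) F)) ∨
    (∃ (F : Type) (_ : Field F) (_ : Fintype F),
      (Fintype.card F = 8 ∧ Nonempty (G ≃* ↥(Cfsg.Lie.Sz F 4))) ∨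
      (Fintype.card F = 32 ∧ Nonempty (G ≃* ↥(Cfsg.Lie.Sz F 8)))) := by
  have hord : ∀ (n : ℕ) (x : G), orderOf x = n → n ≠ 1 → IsPrimePow n := fun n x hx h1 =>
    hx ▸ h x fun e => h1 (by rw [← hx, e, orderOf_one])
  rcases hl with ⟨F, i1, i2, hq, ⟨e⟩⟩ | hl | ⟨F, i1, i2, m, hm, hF, ⟨e⟩⟩
  · obtain ⟨p, hpc⟩ := CharP.exists F
    obtain ⟨d, hp, hqd⟩ := FiniteField.card F p
    haveI := Fact.mk hp
    have h4 := four_le_of_psl hns e
    have hg : Nat.gcd 2 (Fintype.card F - 1) = 1 ∨ Nat.gcd 2 (Fintype.card F - 1) = 2 :=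
      (Nat.dvd_prime Nat.prime_two).1 (Nat.gcd_dvd_left 2 _)
    obtain ⟨g₁, hg₁⟩ := CfsgLib.PSL2Spec.exists_orderOf_minus (F := F)
    obtain ⟨g₂, hg₂⟩ := CfsgLib.PSL2Spec.exists_orderOf_plus (F := F) p
    have h1 := hord _ (e.symm g₁) ((MulEquiv.orderOf_eq e.symm g₁).trans hg₁) (by
      rcases hg with hg | hg <;> rw [hg]
      · omega
      · intro h1; have := Nat.gcd_dvd_right 2 (Fintype.card F - 1); rw [hg] at this; omega)
    have h2 := hord _ (e.symm g₂) ((MulEquiv.orderOf_eq e.symm g₂).trans hg₂) (by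
      rcases hg with hg | hg <;> rw [hg] <;> omega)
    rcases ListOrders.psl_prime_pow h4 hq h1 h2 with e4 | e5 | e7 | e8 | e9 | e17
    · exact Or.inr (Or.inl ⟨F, i1, i2, by simp [e4], ⟨e⟩⟩)
    · refine Or.inr (Or.inl ?_)
      haveI : Fact (Nat.Prime 2) := ⟨Nat.prime_two⟩
      letI : Fintype (GaloisField 2 2) := Fintype.ofFinite _
      have hc : Fintype.card (GaloisField 2 2) = 4 := by
        rw [← Nat.card_eq_fintype_card, GaloisField.card 2 2 (by norm_num)]; norm_num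
      obtain ⟨e₁⟩ := Cfsg.Agent.S0253.result e5
      obtain ⟨e₂⟩ := Cfsg.Agent.S0252.result hc
      exact ⟨GaloisField 2 2, inferInstance, inferInstance, by simp [hc], ⟨(e.trans e₁).trans e₂.symm⟩⟩
    · exact Or.inr (Or.inl ⟨F, i1, i2, by simp [e7], ⟨e⟩⟩)
    · exact Or.inr (Or.inl ⟨F, i1, i2, by simp [e8], ⟨e⟩⟩)
    · obtain ⟨e₁⟩ := Cfsg.Agent.S0254.result e9
      exact Or.inl ⟨e.trans e₁⟩
    · exact Or.inr (Or.inl ⟨F, i1, i2, by simp [e17], ⟨e⟩⟩)
  · exact Or.inr (Or.inr (Or.inl hl))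
  · obtain ⟨-, ⟨x, hx⟩, ⟨y, hy⟩, -⟩ := ListOrders.suzuki_data hm hF e
    have hle : 2 ^ (m + 1) < 2 ^ (2 * m + 1) := Nat.pow_lt_pow_right (by norm_num) (by omega)
    have := Nat.two_pow_pos (m + 1)
    refine Or.inr (Or.inr (Or.inr ⟨F, i1, i2, ?_⟩))
    rcases ListOrders.suzuki_prime_pow hm (hord _ x hx (by omega)) (hord _ y hy (by omega)) with rfl | rfl
    · exact Or.inl ⟨hF.trans (by norm_num), ⟨e⟩⟩
    · exact Or.inr ⟨hF.trans (by norm_num), ⟨e⟩⟩

end CfsgLib.CIT
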