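import Cfsg.Agent.CITGroups.Eppo
import Cfsg.Agent.FGSB.EPPO
import Cfsg.Agent.S0033
import Cfsg.Agent.S0041
import Cfsg.Agent.Comp.Basic

/-!
The prime divisors of a group in which all elements have prime power order.
-/

set_option autoImplicit false
set_option linter.style.haveILetI false
set_option linter.unusedSectionVars false

namespace CfsgLib.CIT

open Subgroup

universe u

variable {Q : Type u} [Group Q] [Finite Q]

theorem eq_one_of_eppo (hpp : ∀ g : Q, g ≠ 1 → IsPrimePow (orderOf g)) {x y : Q} (hx : x ≠ 1)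
    (hc : Commute x y) (hco : (orderOf x).Coprime (orderOf y)) : y = 1 := by
  refine CfsgLib.OutsidePrimePow.eq_one_of_commute hx hc hco (hpp _ fun e => hx ?_)
  have := hc.orderOf_mul_eq_mul_orderOf_of_coprime hco
  rw [e, orderOf_one] at this
  exact orderOf_eq_one_iff.1 (Nat.eq_one_of_mul_eq_one_right this.symm)

/-- A normal non-solvable subgroup meets all the primes. -/
theorem dvd_card_normal (hpp : ∀ g : Q, g ≠ 1 → IsPrimePow (orderOf g)) (M : Subgroup Q) [M.Normal]
    (hns : ¬ Group.IsSolvable M) {s : ℕ} (hs : s.Prime) (hd : s ∣ Nat.card Q) : s ∣ Nat.card M := by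
  haveI := Fact.mk hs
  by_contra hsM
  obtain ⟨x, hx⟩ := exists_prime_orderOf_dvd_card' s hd
  have hx1 : x ≠ 1 := fun e => by rw [e, orderOf_one] at hx; exact hs.ne_one hx.symm
  set φ : MulAut M := MulAut.conjNormal x with hφ
  have hfix : ∀ m : M, φ m = m → m = 1 := fun m hm => by
    have h1 : x * (m : Q) * x⁻¹ = m := congrArg Subtype.val hm
    refine Subtype.ext (eq_one_of_eppo hpp hx1 (mul_inv_eq_iff_eq_mul.1 h1) ?_)
    rw [hx, orderOf_coe]
    exact (hs.coprime_iff_not_dvd.2 fun h => hsM (h.trans (orderOf_dvd_natCard m)))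
  refine hns ?_
  have hnil : Group.IsNilpotent M := by
    by_cases h1 : φ = 1
    · haveI : Subsingleton M := ⟨fun a b => (hfix a (by rw [h1]; rfl)).trans (hfix b (by rw [h1]; rfl)).symm⟩
      infer_instance
    · refine Cfsg.Agent.S0033.result φ (fun m hm => hfix m hm) s hs (orderOf_eq_prime ?_ h1)
      rw [hφ, ← map_pow, ← hx, pow_orderOf_eq_one, map_one]
  infer_instance

/-- The index of a normal simple subgroup with a Sylow subgroup of prime order. -/
theorem index_primes (hpp : ∀ g : Q, g ≠ 1 → IsPrimePow (orderOf g)) (M : Subgroup Q) [M.Normal]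
    [IsSimpleGroup M] (hna : ¬ IsMulCommutative M) {r : ℕ} [Fact r.Prime] (hd : r ∣ Nat.card M)
    (hd2 : ¬ r ^ 2 ∣ Nat.card M) {l : ℕ} (hl : l.Prime) (hlM : l ∣ M.index) :
    (l = r ∨ l ∣ r - 1) ∧ (Squarefree (r - 1) → l = r) := by
  have hr : r.Prime := Fact.out
  obtain ⟨P⟩ : Nonempty (Sylow r M) := inferInstance
  have hPc : Nat.card (P : Subgroup M) = r := by
    obtain ⟨k, hk⟩ := P.2.exists_card_eq
    have h1 : r ∣ Nat.card (P : Subgroup M) := (P.dvd_card_of_dvd_card hd)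
    have h2 : k < 2 := by
      by_contra h
      exact hd2 ((pow_dvd_pow r (show 2 ≤ k by omega)).trans (hk ▸ card_subgroup_dvd_card _))
    interval_cases k
    · rw [hk, pow_zero, Nat.dvd_one] at h1; exact absurd h1 hr.ne_one
    · rw [hk, pow_one]
  set P' := (P : Subgroup M).map M.subtype with hP'
  have hP'c : Nat.card P' = r := by rw [hP', card_map_of_injective M.subtype_injective, hPc]
  haveI : IsCyclic P' := isCyclic_of_prime_card hP'c
  set N := normalizer (P' : Set Q) with hN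
  set C := centralizer (P' : Set Q) with hC
  have hCN : C ≤ N := centralizer_le_normalizer _
  have hsup : N ⊔ M = ⊤ := P.normalizer_sup_eq_top
  have hidx : M.index = M.relIndex N := by
    rw [← relIndex_top_right, ← hsup, relIndex_sup_right]
  -- the centraliser is an `r`-group
  obtain ⟨x, hxP, hx⟩ : ∃ x ∈ P', orderOf x = r := by
    obtain ⟨x, hx⟩ := exists_prime_orderOf_dvd_card' (G := P') r (dvd_of_eq hP'c.symm)
    exact ⟨x, x.2, by rwa [orderOf_coe]⟩
  have hCr : IsPGroup r C := IsPGroup.iff_orderOf.2 fun c => by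
    rw [← orderOf_coe]
    by_cases hc : (c : Q) = 1
    · exact ⟨0, by rw [hc, orderOf_one, pow_zero]⟩
    obtain ⟨p, k, hp, -, hk⟩ := (isPrimePow_nat_iff _).1 (hpp _ hc)
    by_cases hpr : p = r
    · exact ⟨k, by rw [← hk, hpr]⟩
    refine absurd (eq_one_of_eppo hpp (fun e => by rw [e, orderOf_one] at hx; exact hr.ne_one hx.symm)
      (mem_centralizer_iff.1 c.2 x hxP) ?_) hc
    rw [hx, ← hk]
    exact ((Nat.coprime_primes hr hp).2 (Ne.symm hpr)).pow_right k
  obtain ⟨c, hc⟩ := hCr.exists_card_eq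
  -- the automiser
  set ρ := P'.normalizerMonoidHom with hρ
  set A := ρ.range with hA
  have hAc : Nat.card A ∣ r - 1 := by
    refine (card_subgroup_dvd_card A).trans (dvd_of_eq ?_)
    rw [IsCyclic.card_mulAut, hP'c, Nat.totient_prime hr]
  have hker : ρ.ker = C.subgroupOf N := normalizerMonoidHom_ker P'
  have hNc : Nat.card N = Nat.card C * Nat.card A := by
    rw [← card_mul_index ρ.ker, index_ker, hker, Nat.card_congr (subgroupOfEquivOfLe hCN).toEquiv]
  have hl' : l ∣ Nat.card C * Nat.card A := hNc ▸ (hlM.trans (hidx ▸ relIndex_dvd_card M N))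
  refine ⟨?_, fun hsq => ?_⟩
  · rcases hl.dvd_mul.1 hl' with h | h
    · exact Or.inl ((Nat.prime_dvd_prime_iff_eq hl hr).1 (hl.dvd_of_dvd_pow (hc ▸ h)))
    · exact Or.inr (h.trans hAc)
  -- elements of the automiser commute and have prime power orders
  have hcomm : ∀ a b : A, Commute a b := fun a b => by
    obtain ⟨g, hg⟩ := IsCyclic.exists_monoid_generator (α := P')
    refine Subtype.ext (MulEquiv.ext fun y => ?_)
    obtain ⟨i, hi⟩ := hg (a.1 g)
    obtain ⟨j, hj⟩ := hg (b.1 g)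
    obtain ⟨k, hk⟩ := hg y
    rw [← hk]
    simp only [Subgroup.coe_mul, MulAut.mul_apply, map_pow]
    rw [← hj, map_pow, ← hi, ← pow_mul, map_pow, ← hj, ← pow_mul]
    dsimp only
    simp only [← pow_mul]
    congr 1
    ring
  have hprime : ∀ p q : ℕ, p.Prime → q.Prime → p ∣ Nat.card A → q ∣ Nat.card A → p = q := by
    intro p q hp hq hpA hqA
    by_contra hne
    haveI := Fact.mk hp
    haveI := Fact.mk hq
    obtain ⟨a, ha⟩ := exists_prime_orderOf_dvd_card' p hpA
    obtain ⟨b, hb⟩ := exists_prime_orderOf_dvd_card' q hqA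
    have hab : orderOf (a * b) = p * q := by
      rw [(hcomm a b).orderOf_mul_eq_mul_orderOf_of_coprime (by rw [ha, hb]; exact (Nat.coprime_primes hp hq).2 hne), ha, hb]
    obtain ⟨n, hn⟩ := (a * b).2
    have hd' : p * q ∣ orderOf (n : Q) := by
      rw [← hab, ← orderOf_coe, ← hn, orderOf_coe]
      exact orderOf_map_dvd ρ n
    have hn1 : (n : Q) ≠ 1 := fun e => by
      rw [e, orderOf_one, Nat.dvd_one] at hd'
      exact hp.ne_one (Nat.eq_one_of_mul_eq_one_right hd')
    obtain ⟨s, k, hs, -, hk⟩ := (isPrimePow_nat_iff _).1 (hpp _ hn1)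
    rw [← hk] at hd'
    exact hne (((Nat.prime_dvd_prime_iff_eq hp hs).1 (hp.dvd_of_dvd_pow ((dvd_mul_right p q).trans hd'))).trans
      ((Nat.prime_dvd_prime_iff_eq hq hs).1 (hq.dvd_of_dvd_pow ((dvd_mul_left q p).trans hd'))).symm)
  -- the normaliser inside `M` induces a non-trivial automorphism
  set B := ((N ⊓ M).subgroupOf N).map ρ with hB
  have hBA : B ≤ A := by rintro _ ⟨n, -, rfl⟩; exact ⟨n, rfl⟩
  have hB1 : B ≠ ⊥ := by
    intro e
    have hle : normalizer ((P : Subgroup M) : Set M) ≤ centralizer ((P : Subgroup M) : Set M) := by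
      intro m hm
      have hmN : (m : Q) ∈ N := le_normalizer_map M.subtype ⟨m, hm, rfl⟩
      have h0 : ρ ⟨(m : Q), hmN⟩ = 1 := by
        have : ρ ⟨(m : Q), hmN⟩ ∈ B := ⟨_, mem_subgroupOf.2 ⟨hmN, m.2⟩, rfl⟩
        rwa [e, mem_bot] at this
      have h1 : (⟨(m : Q), hmN⟩ : N) ∈ ρ.ker := h0
      rw [hker, mem_subgroupOf] at h1
      exact mem_centralizer_iff.2 fun y hy => Subtype.ext (mem_centralizer_iff.1 h1 y ⟨y, hy, rfl⟩)
    have hcompl := MonoidHom.ker_transferSylow_isComplement' P hle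
    rcases (MonoidHom.transferSylow P hle).normal_ker.eq_bot_or_eq_top with h | h
    · rw [h, isComplement'_bot_left] at hcompl
      haveI : IsCyclic M := isCyclic_of_prime_card (p := r) (by rw [← card_top, ← hcompl, hPc])
      exact hna inferInstance
    · rw [h, isComplement'_top_left] at hcompl
      rw [hcompl, card_bot] at hPc
      exact hr.ne_one hPc.symm
  have hBA' : B = A := by
    refine eq_of_le_of_card_ge hBA ?_
    obtain ⟨t, ht, htB⟩ := Nat.exists_prime_and_dvd (fun h : Nat.card B = 1 => hB1 (card_eq_one.1 h))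
    have htA : t ∣ Nat.card A := htB.trans (card_dvd_of_le hBA)
    have hApow := Nat.eq_prime_pow_of_unique_prime_dvd Nat.card_pos.ne' fun {d} hd hdA => hprime d t hd ht hdA htA
    have hk : (Nat.card A).primeFactorsList.length ≤ 1 := by
      by_contra hk
      have : t * t ∣ r - 1 := by
        refine dvd_trans ?_ hAc
        rw [hApow, ← pow_two]
        exact pow_dvd_pow t (by omega)
      exact ht.ne_one (Nat.isUnit_iff.1 (hsq t this))
    calc Nat.card A = t ^ (Nat.card A).primeFactorsList.length := hApow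
      _ ≤ t ^ 1 := Nat.pow_le_pow_right ht.pos hk
      _ ≤ Nat.card B := by rw [pow_one]; exact Nat.le_of_dvd Nat.card_pos htB
  have hNMC : N ≤ M ⊔ C := fun n hn => by
    obtain ⟨m, hm, hme⟩ : ρ ⟨n, hn⟩ ∈ B := hBA' ▸ ⟨_, rfl⟩
    have h1 : m⁻¹ * ⟨n, hn⟩ ∈ ρ.ker := by
      rw [MonoidHom.mem_ker, map_mul, map_inv, hme, inv_mul_cancel]
    rw [hker, mem_subgroupOf] at h1
    rw [← mul_inv_cancel_left (m : Q) n]
    exact mul_mem (mem_sup_left (mem_subgroupOf.1 hm).2) (mem_sup_right h1)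
  have htop : C ⊔ M = ⊤ := eq_top_iff.2 (hsup ▸ sup_le (hNMC.trans (sup_comm M C).le) le_sup_right)
  have : l ∣ r ^ c := hc ▸ hlM.trans (by
    rw [← relIndex_top_right, ← htop, relIndex_sup_right]; exact relIndex_dvd_card M C)
  exact (Nat.prime_dvd_prime_iff_eq hl hr).1 (hl.dvd_of_dvd_pow this)

/-- A normal simple subgroup with two suitable Sylow subgroups is everything. -/
theorem eq_top_of_two_sylows (hpp : ∀ g : Q, g ≠ 1 → IsPrimePow (orderOf g)) (M : Subgroup Q) [M.Normal]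
    [IsSimpleGroup M] (hna : ¬ IsMulCommutative M) {r s : ℕ} (hr : r.Prime) (hs : s.Prime)
    (hrd : r ∣ Nat.card M) (hr2 : ¬ r ^ 2 ∣ Nat.card M) (hsd : s ∣ Nat.card M) (hs2 : ¬ s ^ 2 ∣ Nat.card M)
    (hsq : Squarefree (r - 1)) (hrs : r ≠ s) (hrs1 : ¬ r ∣ s - 1) : M = ⊤ := by
  haveI := Fact.mk hr
  haveI := Fact.mk hs
  by_contra hne
  obtain ⟨l, hl, hlM⟩ := Nat.exists_prime_and_dvd (fun h => hne (index_eq_one.1 h))
  have h1 := (index_primes hpp M hna hrd hr2 hl hlM).2 hsq
  subst h1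
  rcases (index_primes hpp M hna hsd hs2 hl hlM).1 with h | h
  · exact hrs h
  · exact hrs1 h

/-- A normal 2-group is trivial when two independent commuting elements of order three survive. -/
theorem eq_bot_of_nine {G : Type u} [Group G] [Finite G] (hpp : ∀ g : G, g ≠ 1 → IsPrimePow (orderOf g))
    (R : Subgroup G) [R.Normal] (hR : IsPGroup 2 R) (a b : G ⧸ R) (ha : a ^ 3 = 1) (hb : b ^ 3 = 1)
    (hab : Commute a b) (ha1 : a ≠ 1) (hba : b ∉ zpowers a) : R = ⊥ := by
  haveI : Fact (Nat.Prime 3) := ⟨Nat.prime_three⟩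
  haveI : Fact (Nat.Prime 2) := ⟨Nat.prime_two⟩
  by_contra hR1
  set E := closure ({a, b} : Set (G ⧸ R)) with hE
  haveI hEc : IsMulCommutative E := isMulCommutative_closure (by
    rintro x (rfl | rfl) y (rfl | rfl) <;> first | rfl | exact hab.eq | exact hab.symm.eq)
  have hE3 : ∀ x ∈ E, x ^ 3 = 1 := fun x hx => by
    induction hx using closure_induction with
    | mem y hy => rcases hy with rfl | rfl <;> assumption
    | one => exact one_pow 3
    | mul y z hy hz iy iz =>
      have : Commute y z := setLike_mul_comm (s := E) hy hz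
      rw [this.mul_pow, iy, iz, one_mul]
    | inv y _ iy => rw [inv_pow, iy, inv_one]
  have hEp : IsPGroup 3 E := fun x => ⟨1, Subtype.ext (by rw [pow_one]; exact hE3 x x.2)⟩
  set π := QuotientGroup.mk' R
  set J := E.comap π with hJ
  obtain ⟨T⟩ : Nonempty (Sylow 3 J) := inferInstance
  set T' := (T : Subgroup J).map J.subtype with hT'
  have hTp : IsPGroup 3 T' := T.2.map _
  have hTJ : T' ≤ J := map_subtype_le _
  have hTR : ∀ t ∈ T', π t = 1 → t = 1 := fun t ht h => by
    obtain ⟨i, hi⟩ := IsPGroup.iff_orderOf.1 hTp ⟨t, ht⟩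
    obtain ⟨j, hj⟩ := IsPGroup.iff_orderOf.1 hR ⟨t, (QuotientGroup.eq_one_iff t).1 h⟩
    rw [← orderOf_coe] at hi hj
    refine orderOf_eq_one_iff.1 (Nat.eq_one_of_dvd_coprimes ?_ (dvd_of_eq hi) (dvd_of_eq hj))
    exact Nat.Coprime.pow i j (by norm_num)
  -- the image of `T` is all of `E`
  have hTE : T'.map π = E := by
    have hle : T'.map π ≤ E := map_le_iff_le_comap.2 hTJ
    refine eq_of_le_of_card_ge hle ?_
    obtain ⟨k, hk⟩ := hEp.exists_card_eq
    have hJd : Nat.card E ∣ Nat.card J := by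
      refine ⟨Nat.card ((π.comp J.subtype).ker), ?_⟩
      rw [← card_mul_index (π.comp J.subtype).ker, index_ker, MonoidHom.range_comp, range_subtype, hJ,
        map_comap_eq_self_of_surjective (QuotientGroup.mk'_surjective R), mul_comm]
    have h1 : 3 ^ k ∣ Nat.card (T : Subgroup J) := by
      rw [T.card_eq_multiplicity]
      exact pow_dvd_pow 3 ((Nat.prime_three.pow_dvd_iff_le_factorization Nat.card_pos.ne').1 (hk ▸ hJd))
    have h2 : Nat.card (T'.map π) = Nat.card T' := by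
      refine (Nat.card_congr (Equiv.ofBijective (fun t : T' => (⟨π t, mem_map_of_mem π t.2⟩ : T'.map π))
        ⟨fun u v e => Subtype.ext (inv_mul_eq_one.1 (hTR _ (T'.mul_mem (T'.inv_mem u.2) v.2) ?_)),
          fun ⟨_, t, ht, rfl⟩ => ⟨⟨t, ht⟩, rfl⟩⟩)).symm
      rw [map_mul, map_inv, show π u = π v from congrArg Subtype.val e, inv_mul_cancel]
    rw [h2, hk, hT', card_map_of_injective J.subtype_injective]
    exact Nat.le_of_dvd Nat.card_pos h1
  haveI hTc : IsMulCommutative T' := ⟨⟨fun x y => Subtype.ext (inv_mul_eq_one.1 (hTR _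
    (T'.mul_mem (T'.inv_mem (T'.mul_mem x.2 y.2)) (T'.mul_mem y.2 x.2)) (by
      have hxE : π x.1 ∈ E := hTE ▸ mem_map_of_mem π x.2
      have hyE : π y.1 ∈ E := hTE ▸ mem_map_of_mem π y.2
      rw [Subgroup.coe_mul, Subgroup.coe_mul, map_mul, map_inv, map_mul, map_mul, setLike_mul_comm (s := E) hxE hyE, inv_mul_cancel])))⟩⟩
  haveI : Nontrivial R := (nontrivial_iff_ne_bot R).2 hR1
  haveI := hR.center_nontrivial
  set V := (center R).map R.subtype with hV
  haveI : IsMulCommutative V := by rw [hV]; infer_instance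
  have hV1 : V ≠ ⊥ := fun e => by
    rw [hV, map_eq_bot_iff_of_injective _ R.subtype_injective] at e
    exact (center R).nontrivial_iff_ne_bot.1 inferInstance e
  haveI hVn : V.Normal := inferInstance
  have hcyc : IsCyclic T' := Cfsg.Agent.S0041.result T' V hV1 (le_normalizer_of_normal (H := V))
    (fun t ht ht1 => by
      rw [eq_bot_iff]
      rintro v ⟨hvV, hvt⟩
      obtain ⟨i, hi⟩ := IsPGroup.iff_orderOf.1 hTp ⟨t, ht⟩
      obtain ⟨j, hj⟩ := IsPGroup.iff_orderOf.1 hR ⟨v, map_subtype_le _ hvV⟩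
      rw [← orderOf_coe] at hi hj
      exact mem_bot.2 (eq_one_of_eppo hpp ht1 (mem_centralizer_singleton_iff.1 hvt).symm
        (hi.symm ▸ hj.symm ▸ Nat.Coprime.pow i j (by norm_num))))
    (Or.inl hTc)
  have hEcyc : IsCyclic E := hTE ▸ isCyclic_of_surjective (π.subgroupMap T') (π.subgroupMap_surjective T')
  obtain ⟨g, hg⟩ := hEcyc.exists_generator
  have hcard : Nat.card E ≤ 3 := by
    rw [← orderOf_eq_card_of_forall_mem_zpowers hg]
    exact Nat.le_of_dvd (by norm_num) (orderOf_dvd_of_pow_eq_one (Subtype.ext (hE3 g g.2)))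
  have hza : zpowers a ≤ E := zpowers_le.2 (subset_closure (Or.inl rfl))
  have := eq_of_le_of_card_ge hza (by rw [Nat.card_zpowers, orderOf_eq_prime ha ha1]; exact hcard)
  exact hba (this ▸ subset_closure (Or.inr rfl))

/-- Two independent commuting elements of order three in `PSL₃(4)`. -/
theorem exists_nine {F : Type} [Field F] [Fintype F] (hF : Fintype.card F = 4) :
    ∃ a b : Matrix.ProjectiveSpecialLinearGroup (Fin 3) F,
      a ^ 3 = 1 ∧ b ^ 3 = 1 ∧ Commute a b ∧ a ≠ 1 ∧ b ∉ zpowers a := by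
  haveI : Fact (Nat.Prime 3) := ⟨Nat.prime_three⟩
  obtain ⟨w', hw'⟩ := exists_prime_orderOf_dvd_card' (G := Fˣ) 3
    (by rw [Nat.card_units, Nat.card_eq_fintype_card, hF])
  set w : F := (w' : F) with hw
  have hw3 : w * w * w = 1 := by
    have := congrArg Units.val (pow_orderOf_eq_one w')
    rw [hw', Units.val_pow_eq_pow_val, pow_succ, pow_two, Units.val_one] at this
    exact this
  have hw1 : w ≠ 1 := fun e => by
    rw [Units.val_eq_one.1 e, orderOf_one] at hw'; omega
  let A : Matrix.SpecialLinearGroup (Fin 3) F :=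
    ⟨!![1, 0, 0; 0, w, 0; 0, 0, w * w], by simp [Matrix.det_fin_three]; linear_combination hw3⟩
  let B : Matrix.SpecialLinearGroup (Fin 3) F := ⟨!![0, 1, 0; 0, 0, 1; 1, 0, 0], by simp [Matrix.det_fin_three]⟩
  let Z : Matrix.SpecialLinearGroup (Fin 3) F :=
    ⟨!![w, 0, 0; 0, w, 0; 0, 0, w], by simp [Matrix.det_fin_three]; linear_combination hw3⟩
  have hAv : (A : Matrix (Fin 3) (Fin 3) F) = !![1, 0, 0; 0, w, 0; 0, 0, w * w] := rfl
  have hBv : (B : Matrix (Fin 3) (Fin 3) F) = !![0, 1, 0; 0, 0, 1; 1, 0, 0] := rfl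
  have hZv : (Z : Matrix (Fin 3) (Fin 3) F) = w • (1 : Matrix (Fin 3) (Fin 3) F) := by
    ext i j; fin_cases i <;> fin_cases j <;> simp [Z]
  have hZ : Z ∈ center (Matrix.SpecialLinearGroup (Fin 3) F) := mem_center_iff.2 fun g => by
    apply Subtype.ext
    rw [Matrix.SpecialLinearGroup.coe_mul, Matrix.SpecialLinearGroup.coe_mul, hZv]
    simp
  have hBA : B * A = A * B * Z := by
    apply Subtype.ext
    simp only [Matrix.SpecialLinearGroup.coe_mul, hAv, hBv, hZv]
    ext i j; fin_cases i <;> fin_cases j <;> simp [Matrix.mul_apply, Fin.sum_univ_three] <;>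
      first | linear_combination hw3 | linear_combination -hw3 | ring1
  have hne : A * B ≠ B * A := fun e => hw1 (by
    have h := congrArg (fun M : Matrix.SpecialLinearGroup (Fin 3) F => (M : Matrix (Fin 3) (Fin 3) F) 0 1) e
    simp only [Matrix.SpecialLinearGroup.coe_mul, hAv, hBv] at h
    simpa [Matrix.mul_apply, Fin.sum_univ_three] using h.symm)
  have hA3 : A ^ 3 = 1 := by
    rw [pow_succ, pow_two]
    apply Subtype.ext
    simp only [Matrix.SpecialLinearGroup.coe_mul, Matrix.SpecialLinearGroup.coe_one, hAv]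
    ext i j; fin_cases i <;> fin_cases j <;> simp [Matrix.mul_apply, Fin.sum_univ_three] <;>
      first | linear_combination hw3 | linear_combination (w * w * w + 1) * hw3 | ring1
  have hB3 : B ^ 3 = 1 := by
    rw [pow_succ, pow_two]
    apply Subtype.ext
    simp only [Matrix.SpecialLinearGroup.coe_mul, Matrix.SpecialLinearGroup.coe_one, hBv]
    ext i j; fin_cases i <;> fin_cases j <;> simp [Matrix.mul_apply, Fin.sum_univ_three]
  let ψ := QuotientGroup.mk' (center (Matrix.SpecialLinearGroup (Fin 3) F))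
  refine ⟨ψ A, ψ B, by rw [← map_pow, hA3, map_one], by rw [← map_pow, hB3, map_one], ?_, ?_, ?_⟩
  · show ψ A * ψ B = ψ B * ψ A
    rw [← map_mul, ← map_mul, hBA, map_mul ψ (A * B), show ψ Z = 1 from (QuotientGroup.eq_one_iff Z).2 hZ,
      mul_one]
  · exact fun e => hne (mem_center_iff.1 ((QuotientGroup.eq_one_iff A).1 e) B).symm
  · rintro ⟨i, hi⟩
    have hz : (A ^ i)⁻¹ * B ∈ center (Matrix.SpecialLinearGroup (Fin 3) F) := by
      rw [← QuotientGroup.eq_one_iff]
      show ψ ((A ^ i)⁻¹ * B) = 1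
      rw [map_mul, map_inv, map_zpow, ← hi]
      exact inv_mul_cancel _
    have hc : Commute A ((A ^ i)⁻¹ * B) := mem_center_iff.1 hz A
    have := (((Commute.refl A).zpow_right i).mul_right hc)
    rw [mul_inv_cancel_left] at this
    exact hne this

theorem prime_le_four {n : ℕ} {a b c d : ℕ} {p q r s : ℕ} (hp : p.Prime) (hq : q.Prime) (hr : r.Prime)
    (hs : s.Prime) (h : n ∣ p ^ a * q ^ b * r ^ c * s ^ d) : n.primeFactors ⊆ {p, q, r, s} := fun l hl => by
  obtain ⟨hl', hld, -⟩ := Nat.mem_primeFactors.1 hl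
  have key : ∀ x k, x.Prime → l ∣ x ^ k → l = x := fun x k hx hd =>
    (Nat.prime_dvd_prime_iff_eq hl' hx).1 (hl'.dvd_of_dvd_pow hd)
  simp only [Finset.mem_insert, Finset.mem_singleton]
  rcases hl'.dvd_mul.1 (hld.trans h) with h1 | h1
  · rcases hl'.dvd_mul.1 h1 with h2 | h2
    · rcases hl'.dvd_mul.1 h2 with h3 | h3
      · exact Or.inl (key _ _ hp h3)
      · exact Or.inr (Or.inl (key _ _ hq h3))
    · exact Or.inr (Or.inr (Or.inl (key _ _ hr h2)))
  · exact Or.inr (Or.inr (Or.inr (key _ _ hs h1)))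

theorem card_le_three {n a b c : ℕ} {p q r : ℕ} (hp : p.Prime) (hq : q.Prime) (hr : r.Prime)
    (h : n ∣ p ^ a * q ^ b * r ^ c) : n.primeFactors.card ≤ 3 := by
  refine (Finset.card_le_card (prime_le_four (a := a) (b := b) (c := c) (d := 0) hp hq hr hr (by rwa [pow_zero, mul_one]))).trans ?_
  simp only [Finset.insert_eq_of_mem (Finset.mem_singleton_self r)]
  exact Finset.card_le_three

theorem card_psl_two {F : Type} [Field F] [Fintype F] {q : ℕ} (hF : Fintype.card F = q) :
    Nat.gcd 2 (q - 1) * ((q - 1) * Nat.card (Matrix.ProjectiveSpecialLinearGroup (Fin 2) F)) =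
      (q ^ 2 - 1) * (q ^ 2 - q) := by
  rw [CfsgLib.Linear.card_PSL_mul hF 2 (by omega), Fin.prod_univ_two]
  simp

/-- The four-prime cases for a simple group. -/
theorem simple_primes {G : Type u} [Group G] [Finite G] (hns : ¬ Group.IsSolvable G)
    (h : ∀ g : G, g ≠ 1 → IsPrimePow (orderOf g)) (hl : Listed G) :
    (Nat.card G).primeFactors.card ≤ 4 ∧ ((Nat.card G).primeFactors.card = 4 →
      ∃ r s : ℕ, (r.Prime ∧ s.Prime ∧ r ∣ Nat.card G ∧ ¬ r ^ 2 ∣ Nat.card G ∧ s ∣ Nat.card G ∧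
        ¬ s ^ 2 ∣ Nat.card G ∧ Squarefree (r - 1) ∧ r ≠ s ∧ ¬ r ∣ s - 1) ∧
      ((∃ (F : Type) (_ : Field F) (_ : Fintype F), Fintype.card F = 4 ∧
        Nonempty (G ≃* Matrix.ProjectiveSpecialLinearGroup (Fin 3) F)) ∨
      (∃ (F : Type) (_ : Field F) (_ : Fintype F),
        (Fintype.card F = 8 ∧ Nonempty (G ≃* ↥(Cfsg.Lie.Sz F 4))) ∨
        (Fintype.card F = 32 ∧ Nonempty (G ≃* ↥(Cfsg.Lie.Sz F 8)))))) := by
  have three : ∀ {n : ℕ} {a b c p q r : ℕ}, p.Prime → q.Prime → r.Prime → n ∣ p ^ a * q ^ b * r ^ c →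
      n.primeFactors.card ≤ 4 ∧ n.primeFactors.card ≠ 4 := fun hp hq hr hd => by
    have := card_le_three hp hq hr hd; omega
  rcases eppo_of_listed hns h hl with ⟨⟨e⟩⟩ | ⟨F, i1, i2, hq, ⟨e⟩⟩ | ⟨F, i1, i2, hF, ⟨e⟩⟩ | ⟨F, i1, i2, hsz⟩
  · have hc : Nat.card G = 360 := by
      rw [Nat.card_congr e.toEquiv, nat_card_alternatingGroup]; simp [Nat.factorial]
    rw [hc]
    obtain ⟨h4, h4'⟩ := three (n := 360) (a := 3) (b := 2) (c := 1) Nat.prime_two Nat.prime_three Nat.prime_five (by norm_num)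
    exact ⟨h4, fun e => absurd e h4'⟩
  · rw [Nat.card_congr e.toEquiv]
    have hP := card_psl_two (F := F) rfl
    simp only [Finset.mem_insert, Finset.mem_singleton] at hq
    have : ∃ a b c p, p.Prime ∧ Nat.card (Matrix.ProjectiveSpecialLinearGroup (Fin 2) F) ∣ 2 ^ a * 3 ^ b * p ^ c := by
      rcases hq with e4 | e7 | e8 | e17
      · rw [e4] at hP; norm_num at hP
        exact ⟨2, 1, 1, 5, by norm_num, by rw [show Nat.card (Matrix.ProjectiveSpecialLinearGroup (Fin 2) F) = 60 by omega]; norm_num⟩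
      · rw [e7] at hP; norm_num at hP
        exact ⟨3, 1, 1, 7, by norm_num, by rw [show Nat.card (Matrix.ProjectiveSpecialLinearGroup (Fin 2) F) = 168 by omega]; norm_num⟩
      · rw [e8] at hP; norm_num at hP
        exact ⟨3, 2, 1, 7, by norm_num, by rw [show Nat.card (Matrix.ProjectiveSpecialLinearGroup (Fin 2) F) = 504 by omega]; norm_num⟩
      · rw [e17] at hP; norm_num at hP
        exact ⟨4, 2, 1, 17, by norm_num, by rw [show Nat.card (Matrix.ProjectiveSpecialLinearGroup (Fin 2) F) = 2448 by omega]; norm_num⟩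
    obtain ⟨a, b, c, p, hp, hd⟩ := this
    obtain ⟨h4, h4'⟩ := three Nat.prime_two Nat.prime_three hp hd
    exact ⟨h4, fun e => absurd e h4'⟩
  · have hc : Nat.card G = 20160 := by
      have := CfsgLib.Linear.card_PSL_mul hF 3 (by omega)
      rw [Fin.prod_univ_three] at this
      norm_num at this
      rw [Nat.card_congr e.toEquiv]; omega
    rw [hc]
    refine ⟨(Finset.card_le_card (prime_le_four (a := 6) (b := 2) (c := 1) (d := 1) Nat.prime_two Nat.prime_three
      Nat.prime_five (by norm_num : Nat.Prime 7) (by norm_num))).trans Finset.card_le_four,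
      fun _ => ⟨7, 5, ⟨by norm_num, by norm_num, by norm_num, by norm_num, by norm_num, by norm_num, ?_,
        by norm_num, by norm_num⟩, Or.inl ⟨F, i1, i2, hF, ⟨e⟩⟩⟩⟩
    exact Nat.squarefree_mul_iff.2 ⟨by norm_num, Nat.prime_two.prime.squarefree, Nat.prime_three.prime.squarefree⟩
  · have key : ∀ (m : ℕ), 1 ≤ m → Fintype.card F = 2 ^ (2 * m + 1) → (G ≃* ↥(Cfsg.Lie.Sz F (2 ^ (m + 1)))) →
        Nat.card G = (2 ^ (2 * m + 1)) ^ 2 * ((2 ^ (2 * m + 1)) ^ 2 + 1) * (2 ^ (2 * m + 1) - 1) :=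
      fun m hm hF e => (ListOrders.suzuki_data hm hF e).2.2.2
    rcases hsz with ⟨hF, ⟨e⟩⟩ | ⟨hF, ⟨e⟩⟩
    · have hc : Nat.card G = 29120 := (key 1 le_rfl (by rw [hF]; norm_num) e).trans (by norm_num)
      rw [hc]
      refine ⟨(Finset.card_le_card (prime_le_four (a := 6) (b := 1) (c := 1) (d := 1) Nat.prime_two Nat.prime_five
        (by norm_num : Nat.Prime 7) (by norm_num : Nat.Prime 13) (by norm_num))).trans Finset.card_le_four,
        fun _ => ⟨7, 13, ⟨by norm_num, by norm_num, by norm_num, by norm_num, by norm_num, by norm_num, ?_,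
          by norm_num, by norm_num⟩, Or.inr ⟨F, i1, i2, Or.inl ⟨hF, ⟨e⟩⟩⟩⟩⟩
      exact Nat.squarefree_mul_iff.2 ⟨by norm_num, Nat.prime_two.prime.squarefree, Nat.prime_three.prime.squarefree⟩
    · have hc : Nat.card G = 32537600 := (key 2 (by norm_num) (by rw [hF]; norm_num) e).trans (by norm_num)
      rw [hc]
      refine ⟨(Finset.card_le_card (prime_le_four (a := 10) (b := 2) (c := 1) (d := 1) Nat.prime_two Nat.prime_five
        (by norm_num : Nat.Prime 31) (by norm_num : Nat.Prime 41) (by norm_num))).trans Finset.card_le_four,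
        fun _ => ⟨31, 41, ⟨by norm_num, by norm_num, by norm_num, by norm_num, by norm_num, by norm_num, ?_,
          by norm_num, by norm_num⟩, Or.inr ⟨F, i1, i2, Or.inr ⟨hF, ⟨e⟩⟩⟩⟩⟩
      show Squarefree (2 * (3 * 5))
      exact Nat.squarefree_mul_iff.2 ⟨by norm_num, Nat.prime_two.prime.squarefree,
        Nat.squarefree_mul_iff.2 ⟨by norm_num, Nat.prime_three.prime.squarefree, Nat.prime_five.prime.squarefree⟩⟩

/-- The theorem on four primes. -/
theorem eppo_four {G : Type u} [Group G] [Finite G]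
    (hcl : ∀ (H : Type u) [Group H] [Finite H] [IsSimpleGroup H], IsCIT H → ¬ Group.IsSolvable H → Listed H)
    (h : ∀ g : G, g ≠ 1 → IsPrimePow (orderOf g)) :
    (Nat.card G).primeFactors.card ≤ 4 ∧
    ((Nat.card G).primeFactors.card = 4 →
      (∃ (F : Type) (_ : Field F) (_ : Fintype F), Fintype.card F = 4 ∧
        Nonempty (G ≃* Matrix.ProjectiveSpecialLinearGroup (Fin 3) F)) ∨
      (∃ (N : Subgroup G) (_ : N.Normal), IsPGroup 2 ↥N ∧
        ∃ (F : Type) (_ : Field F) (_ : Fintype F),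
          (Fintype.card F = 8 ∧ Nonempty (G ⧸ N ≃* ↥(Cfsg.Lie.Sz F 4))) ∨
          (Fintype.card F = 32 ∧ Nonempty (G ⧸ N ≃* ↥(Cfsg.Lie.Sz F 8))))) := by
  classical
  haveI : Fact (Nat.Prime 2) := ⟨Nat.prime_two⟩
  by_cases hsol : Group.IsSolvable G
  · have h2 := CfsgLib.EPPO.primeFactors_le_two h ⊤
      (haveI := hsol; Group.isSolvable_of_isSolvable_injective (f := (⊤ : Subgroup G).subtype) Subtype.val_injective)
    rw [card_top] at h2
    exact ⟨by omega, fun e => by omega⟩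
  -- the solvable radical
  haveI := Fintype.ofFinite (Subgroup G)
  obtain ⟨R, hR, hRmax'⟩ := (Finset.univ.filter fun N : Subgroup G => N.Normal ∧ Group.IsSolvable N).exists_max_image
    (fun N => Nat.card N) ⟨⊥, by simp only [Finset.mem_filter, Finset.mem_univ, true_and]; exact ⟨normal_bot, inferInstance⟩⟩
  simp only [Finset.mem_filter, Finset.mem_univ, true_and] at hR hRmax'
  obtain ⟨hRn, hRs⟩ := hR
  have hRmax : ∀ N : Subgroup G, N.Normal → Group.IsSolvable N → N ≤ R := fun N hN hNs => by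
    haveI := hN
    haveI := hRn
    have := eq_of_le_of_card_ge (le_sup_right : R ≤ N ⊔ R)
      (hRmax' _ ⟨inferInstance, CfsgLib.Comp.isSolvable_sup (hA := hRn) hRs hNs⟩)
    exact this ▸ le_sup_left
  obtain ⟨M, hMn, hMs, hMna, -⟩ := CfsgLib.EPPO.structure_nonsolvable hsol h R hRs hRmax
  have hnsQ : ¬ Group.IsSolvable (G ⧸ R) := fun hs => by
    haveI := hs
    haveI := hRs
    exact hsol (Group.isSolvable_of_ker_le_range R.subtype (QuotientGroup.mk' R) (by simp))
  have hR2 : IsPGroup 2 R := by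
    refine IsPGroup.of_card (n := (Nat.card R).primeFactorsList.length)
      (Nat.eq_prime_pow_of_unique_prime_dvd Nat.card_pos.ne' fun {d} hd hdR => ?_)
    by_contra hd2
    exact CfsgLib.OutsidePrimePow.isPGroup_two hnsQ (fun x hx => h x fun e => hx (e ▸ one_mem R)) d hd hd2 hdR
  have hQ : ∀ g : G ⧸ R, g ≠ 1 → IsPrimePow (orderOf g) := fun g hg =>
    (CfsgLib.EPPO.quotient_eppo h R g).resolve_right hg
  have hMpp : ∀ g : M, g ≠ 1 → IsPrimePow (orderOf g) := fun g hg => by
    rw [← orderOf_coe]; exact hQ g fun e => hg (Subtype.ext e)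
  have hMns : ¬ Group.IsSolvable M := fun hs => hMna (by
    haveI := hs
    exact ⟨⟨IsSimpleGroup.comm_iff_isSolvable.2 inferInstance⟩⟩)
  obtain ⟨h4, hfour⟩ := simple_primes hMns hMpp (hcl M (isCIT_of_eppo hMpp) hMns)
  have hM2 : 2 ∣ Nat.card M := by
    by_contra hh
    exact hMns (CfsgLib.OddEnd.odd_solvable M (Nat.odd_iff.2 (by omega)))
  have hpf : (Nat.card G).primeFactors = (Nat.card M).primeFactors := by
    ext l
    simp only [Nat.mem_primeFactors, ne_eq, Nat.card_pos.ne', not_false_eq_true, and_true]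
    refine ⟨fun ⟨hl, hd⟩ => ⟨hl, ?_⟩, fun ⟨hl, hd⟩ => ⟨hl, hd.trans ((card_subgroup_dvd_card M).trans
      (Subgroup.card_quotient_dvd_card R))⟩⟩
    rw [card_eq_card_quotient_mul_card_subgroup R] at hd
    rcases hl.dvd_mul.1 hd with hd | hd
    · exact dvd_card_normal hQ M hMns hl hd
    · obtain ⟨k, hk⟩ := hR2.exists_card_eq
      rw [(Nat.prime_dvd_prime_iff_eq hl Nat.prime_two).1 (hl.dvd_of_dvd_pow (hk ▸ hd))]
      exact hM2
  rw [hpf]
  refine ⟨h4, fun e4 => ?_⟩
  obtain ⟨r, s, ⟨hr, hs, hrd, hr2, hsd, hs2, hsq, hrs, hrs1⟩, hcase⟩ := hfour e4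
  haveI := hMn
  haveI := hMs
  have hMtop := eq_top_of_two_sylows hQ M hMna hr hs hrd hr2 hsd hs2 hsq hrs hrs1
  let eM : G ⧸ R ≃* M := (topEquiv.symm).trans (MulEquiv.subgroupCongr hMtop.symm)
  rcases hcase with ⟨F, i1, i2, hF, ⟨e⟩⟩ | ⟨F, i1, i2, hsz⟩
  · left
    obtain ⟨a, b, ha, hb, hab, ha1, hba⟩ := exists_nine hF
    let f := (eM.trans e).symm
    have hRb : R = ⊥ := eq_bot_of_nine h R hR2 (f a) (f b) (by rw [← map_pow, ha, map_one])
      (by rw [← map_pow, hb, map_one]) (hab.map f.toMonoidHom) (fun e' => ha1 (f.injective (by rw [e', map_one])))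
      (fun ⟨i, hi⟩ => hba ⟨i, f.injective (by rw [← hi]; exact map_zpow f a i)⟩)
    exact ⟨F, i1, i2, hF, ⟨((QuotientGroup.quotientBot (G := G)).symm.trans
      (QuotientGroup.quotientMulEquivOfEq hRb.symm)).trans (eM.trans e)⟩⟩
  · refine Or.inr ⟨R, hRn, hR2, F, i1, i2, ?_⟩
    rcases hsz with ⟨hF, ⟨e⟩⟩ | ⟨hF, ⟨e⟩⟩
    · exact Or.inl ⟨hF, ⟨eM.trans e⟩⟩
    · exact Or.inr ⟨hF, ⟨eM.trans e⟩⟩

end CfsgLib.CIT
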