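import Cfsg.Agent.CITGroups.Strong
import Cfsg.Prelude.Def_LieExceptional

/-!
# A simple CIT group with a strongly embedded subgroup is a Zassenhaus group
-/

set_option autoImplicit false
set_option linter.style.haveILetI false
set_option linter.unusedSectionVars false

namespace CfsgLib.CIT

open Subgroup

universe u

variable {G : Type u} [Group G] [Finite G] {K T D : Subgroup G} {u : G}

theorem ZData.isZassenhaus (Z : ZData K T D u) [IsSimpleGroup G] : Cfsg.IsZassenhausGroup G (G ⧸ K) := by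
  set x₀ : G ⧸ K := QuotientGroup.mk 1 with hx₀
  set y₀ : G ⧸ K := QuotientGroup.mk u with hy₀
  have huy : u • x₀ = y₀ := CfsgLib.StrongEmbed.smul_mk_one_eq
  have hy₀x : y₀ ≠ x₀ := fun e => Z.u_not (CfsgLib.StrongEmbed.smul_mk_one_iff.1 (huy.trans e))
  have hTK : T ≤ K := Z.K_eq ▸ le_normalizer
  have hfix : ∀ d ∈ D, d • x₀ = x₀ ∧ d • y₀ = y₀ := fun d hd => by
    rw [Z.D_eq, CfsgLib.StrongEmbed.mem_inf_conj_iff] at hd
    exact ⟨CfsgLib.StrongEmbed.smul_mk_one_iff.2 hd.1, CfsgLib.StrongEmbed.smul_mk_iff.2 hd.2⟩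
  obtain ⟨d₁, hd₁, hd₁1⟩ := D.bot_or_exists_ne_one.resolve_left fun e => by
    have := Z.three_le; rw [e, card_bot] at this; omega
  have htwo : ∀ a b : G ⧸ K, a ≠ b → ∃ g : G, g • a = x₀ ∧ g • b = y₀ := by
    intro a b hab
    obtain ⟨g, hg⟩ := MulAction.exists_smul_eq G a x₀
    obtain ⟨c, hc⟩ := QuotientGroup.mk_surjective (g • b)
    have hcK : c ∉ K := fun h => hab (smul_left_cancel g (by
      rw [hg, ← hc, hx₀]
      exact QuotientGroup.eq.2 (by simpa using h)))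
    obtain ⟨t, ht, k, hk, rfl⟩ := Z.bruhat c hcK
    refine ⟨t⁻¹ * g, ?_, ?_⟩
    · rw [mul_smul, hg]
      exact CfsgLib.StrongEmbed.smul_mk_one_iff.2 (K.inv_mem (hTK ht))
    · rw [mul_smul, ← hc, inv_smul_eq_iff, hy₀, MulAction.Quotient.smul_mk]
      exact QuotientGroup.eq.2 (by simpa [mul_assoc] using hk)
  have hker : ∀ g : G, (∀ x : G ⧸ K, g • x = x) → g = 1 := by
    intro g hg
    rcases IsSimpleGroup.eq_bot_or_eq_top_of_normal (MulAction.toPermHom G (G ⧸ K)).ker inferInstance with e | e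
    · have : g ∈ (MulAction.toPermHom G (G ⧸ K)).ker := Equiv.ext hg
      rwa [e, mem_bot] at this
    · exfalso
      have hm : u ∈ (MulAction.toPermHom G (G ⧸ K)).ker := e ▸ mem_top u
      exact hy₀x (huy.symm.trans (Equiv.congr_fun hm x₀))
  refine ⟨⟨fun {g g'} hgg => ?_⟩, MulAction.is_two_pretransitive_iff.2 ?_, ?_, ?_, ?_⟩
  · exact inv_mul_eq_one.1 (hker _ fun x => by rw [mul_smul, ← hgg x, inv_smul_smul])
  · intro a b c d hab hcd
    obtain ⟨g, hg1, hg2⟩ := htwo a b hab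
    obtain ⟨k, hk1, hk2⟩ := htwo c d hcd
    exact ⟨k⁻¹ * g, by rw [mul_smul, hg1, ← hk1, inv_smul_smul], by rw [mul_smul, hg2, ← hk2, inv_smul_smul]⟩
  · intro g a b c hab hbc hac hga hgb hgc
    by_contra hg1
    obtain ⟨k, hk1, hk2⟩ := htwo a b hab
    set g' := k * g * k⁻¹ with hg'
    have hconj : ∀ z : G ⧸ K, g • z = z → g' • (k • z) = k • z := fun z hz => by
      rw [hg', mul_smul, mul_smul, inv_smul_smul, hz]
    have hgD : g' ∈ D := by
      rw [Z.D_eq, CfsgLib.StrongEmbed.mem_inf_conj_iff]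
      refine ⟨CfsgLib.StrongEmbed.smul_mk_one_iff.1 ?_, CfsgLib.StrongEmbed.smul_mk_iff.1 ?_⟩
      · have := hconj a hga; rwa [hk1] at this
      · have := hconj b hgb; rwa [hk2] at this
    rcases Z.fix_two g' hgD (fun e => hg1 (conj_eq_one_iff.1 e)) _ (hconj c hgc) with e | e
    · exact hac (smul_left_cancel k (hk1.trans e.symm))
    · exact hbc (smul_left_cancel k (hk2.trans e.symm))
  · exact ⟨d₁, hd₁1, x₀, y₀, hy₀x.symm, (hfix d₁ hd₁).1, (hfix d₁ hd₁).2⟩
  · intro M hM hMt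
    rcases IsSimpleGroup.eq_bot_or_eq_top_of_normal M hM with e | e
    · exfalso
      obtain ⟨m, hm⟩ := hMt.exists_smul_eq x₀ y₀
      have h1 : (m : G) = 1 := mem_bot.1 (e ▸ m.2)
      rw [Subgroup.smul_def, h1, one_smul] at hm
      exact hy₀x hm.symm
    · refine ⟨x₀, fun hb => hd₁1 ?_⟩
      have hm : (⟨d₁, e ▸ mem_top d₁⟩ : M) ∈ MulAction.stabilizer M x₀ := (hfix d₁ hd₁).1
      replace hm := mem_bot.1 (hb ▸ hm)
      exact congrArg Subtype.val hm

end CfsgLib.CIT
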