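import Cfsg.Agent.CITGroups.Config
import Cfsg.Agent.CITGroups.Zass
import Cfsg.Agent.RecogSeven.Local
import Cfsg.Agent.BSWId.Dihedral
import Cfsg.Agent.S0505
import Cfsg.Agent.S0518

/-!
# Simple CIT groups all of whose 2-locals are solvable
-/

set_option autoImplicit false
set_option linter.style.haveILetI false
set_option linter.unusedSectionVars false

namespace CfsgLib.CIT

open Subgroup Equiv CfsgLib.RecogSeven

universe u

theorem s4_transposition : ∀ t : Perm (Fin 4), t * t = 1 → ¬ Kl t →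
    ∃ x : Perm (Fin 4), x ^ 3 = 1 ∧ x ≠ 1 ∧ t * x * t⁻¹ * x = 1 := by decide +kernel

theorem s4_rotate : ∀ d k : Perm (Fin 4), d ^ 3 = 1 → d ≠ 1 → Kl k → (d * k) ^ 3 = 1 ∧ d * k ≠ 1 := by
  decide +kernel

theorem s4_orbit : ∀ a b : Perm (Fin 4), (Kl a ∧ a ≠ 1 ∧ Kl b ∧ b ≠ 1 ∧ a ≠ b) →
    ∃ d : Perm (Fin 4), d ^ 3 = 1 ∧ d ≠ 1 ∧ d * a * d⁻¹ = b := by decide +kernel

theorem comm_of_sq' {W : Type u} [Group W] (hW : ∀ w : W, w * w = 1) (a b : W) : a * b = b * a := by
  calc a * b = (a * b)⁻¹ := eq_inv_of_mul_eq_one_left (hW _)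
    _ = b⁻¹ * a⁻¹ := mul_inv_rev a b
    _ = b * a := by rw [inv_eq_of_mul_eq_one_right (hW b), inv_eq_of_mul_eq_one_right (hW a)]

variable {G : Type u} [Group G] [Finite G]

theorem orderOf_three {x : G} (h3 : x ^ 3 = 1) (h1 : x ≠ 1) : orderOf x = 3 :=
  orderOf_eq_prime (hp := ⟨Nat.prime_three⟩) h3 h1

/-- If `d` and `d v` have order three, the fixed group of `v` is that of its conjugate by `d`. -/
theorem fixSub_conj_eq {W : Type u} [Group W] [Finite W] {φ : G →* MulAut W} (hφ : IsOddFpf φ) {d v : G}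
    (hd : orderOf d = 3) (hdv : orderOf (d * v) = 3) {w : W} :
    w ∈ fixSub φ (d * v * d⁻¹) ↔ w ∈ fixSub φ v := by
  have hd3 : φ d (φ d (φ d w)) = w := by
    rw [← MulAut.mul_apply, ← MulAut.mul_apply, ← map_mul, ← map_mul, ← pow_three', ← hd, pow_orderOf_eq_one,
      map_one, MulAut.one_apply]
  constructor
  · intro hw
    have h1 : φ d (φ d w) ∈ fixSub φ v :=
      (fixSub_conj (g := d) (e := v) (w := φ d (φ d w))).1 (by rw [hd3]; exact hw)
    have h2 := fix_invariant hφ hd hdv h1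
    rwa [hd3] at h2
  · intro hw
    have h1 := fix_invariant hφ hd hdv (fix_invariant hφ hd hdv hw)
    rw [← hd3]
    exact fixSub_conj.2 h1

theorem exists_fourLocal {M : Subgroup G} (hM : Cfsg.IsTwoLocal M) (e : M ≃* Perm (Fin 4)) :
    ∃ T : Subgroup G, M = normalizer (T : Set G) ∧ ∀ c : M, (c : G) ∈ T ↔ Kl (e c) := by
  obtain ⟨T, hT2, hT1, rfl⟩ := hM
  have hTN : T ≤ normalizer (T : Set G) := le_normalizer
  haveI : (T.subgroupOf (normalizer (T : Set G))).Normal := normal_in_normalizer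
  set T' : Subgroup (Perm (Fin 4)) := (T.subgroupOf (normalizer (T : Set G))).map e.toMonoidHom with hT'
  haveI : T'.Normal := Subgroup.Normal.map inferInstance _ e.surjective
  have hT'2 : IsPGroup 2 T' := ((hT2.of_equiv (subgroupOfEquivOfLe hTN).symm)).map _
  have hT'1 : T' ≠ ⊥ := by
    rw [hT', Ne, map_eq_bot_iff_of_injective _ e.injective, subgroupOf_eq_bot]
    exact fun hd => hT1 (le_bot_iff.1 (hd le_rfl hTN))
  refine ⟨T, rfl, fun c => ?_⟩
  rw [← s4_normal hT'2 hT'1]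
  exact ⟨fun hc => ⟨c, mem_subgroupOf.2 hc, rfl⟩, fun ⟨d, hd, hde⟩ => by
    rw [← e.injective hde]; exact mem_subgroupOf.1 hd⟩

/-- Two 2-locals isomorphic to the symmetric group of degree four meeting in eight elements exclude
fixed-point-free modules. -/
theorem noFpf_of_two_four {M₁ M₂ : Subgroup G} (h₁ : Cfsg.IsTwoLocal M₁) (h₂ : Cfsg.IsTwoLocal M₂)
    (hne : M₁ ≠ M₂) (e₁ : M₁ ≃* Perm (Fin 4)) (e₂ : M₂ ≃* Perm (Fin 4))
    (hcard : Nat.card ↥(M₁ ⊓ M₂) = 8) : NoFpf G := by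
  intro W _ _ hW φ hφ
  haveI : Fact (Nat.Prime 2) := ⟨Nat.prime_two⟩
  obtain ⟨T₁, hN₁, hm₁⟩ := exists_fourLocal h₁ e₁
  obtain ⟨T₂, hN₂, hm₂⟩ := exists_fourLocal h₂ e₂
  set S := M₁ ⊓ M₂
  have hS2 : IsPGroup 2 S := IsPGroup.of_card (n := 3) (by rw [hcard]; rfl)
  -- each four-group lies in every subgroup of order eight
  have hkey : ∀ (M : Subgroup G) (T : Subgroup G) (e : M ≃* Perm (Fin 4)), M = normalizer (T : Set G) →
      (∀ c : M, (c : G) ∈ T ↔ Kl (e c)) → S ≤ M → T ≤ S ∧ Nat.card T = 4 := by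
    intro M T e hN hm hSM
    have hTM : T ≤ M := hN ▸ le_normalizer
    have hT4 : Nat.card T = 4 := by
      have e' : Nat.card T = Nat.card {k : Perm (Fin 4) // Kl k} := Nat.card_congr
        { toFun := fun t => ⟨e ⟨t, hTM t.2⟩, (hm _).1 t.2⟩
          invFun := fun k => ⟨(e.symm k.1 : M), (hm _).2 (by rw [e.apply_symm_apply]; exact k.2)⟩
          left_inv := fun t => Subtype.ext (by simp)
          right_inv := fun k => Subtype.ext (e.apply_symm_apply k.1) }
      rw [e', Nat.card_eq_fintype_card]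
      decide +kernel
    have hT2 : IsPGroup 2 T := IsPGroup.of_card (n := 2) (by rw [hT4]; rfl)
    have h2 : IsPGroup 2 (S ⊔ T : Subgroup G) := hS2.to_sup_of_normal_right' hT2 (hSM.trans hN.le)
    have hM24 : Nat.card M = 24 := by
      rw [Nat.card_congr e.toEquiv, Nat.card_perm, Nat.card_eq_fintype_card, Fintype.card_fin]; rfl
    have hd : Nat.card (S ⊔ T : Subgroup G) ∣ 24 := hM24 ▸ card_dvd_of_le (sup_le hSM hTM)
    obtain ⟨k, hk⟩ := h2.exists_card_eq
    rw [hk, show (24 : ℕ) = 2 ^ 3 * 3 from rfl] at hd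
    have hd' : 2 ^ k ∣ 2 ^ 3 := ((Nat.coprime_primes Nat.prime_two Nat.prime_three).2 (by norm_num)).pow_left k
      |>.dvd_of_dvd_mul_right hd
    have hle := Nat.le_of_dvd (by norm_num) hd'
    rw [← hk] at hle
    exact ⟨(eq_of_le_of_card_ge (le_sup_left : S ≤ S ⊔ T) (by rw [hcard]; exact hle)).symm ▸ le_sup_right, hT4⟩
  obtain ⟨hT₁S, hT₁c⟩ := hkey M₁ T₁ e₁ hN₁ hm₁ inf_le_left
  obtain ⟨hT₂S, hT₂c⟩ := hkey M₂ T₂ e₂ hN₂ hm₂ inf_le_right
  have hTne : ¬ T₂ ≤ T₁ := fun hle => hne (by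
    rw [hN₁, hN₂, eq_of_le_of_card_ge hle (by rw [hT₁c, hT₂c])])
  -- the fixed groups are constant on each four-group
  have hconst : ∀ (M : Subgroup G) (T : Subgroup G) (e : M ≃* Perm (Fin 4)), M = normalizer (T : Set G) →
      (∀ c : M, (c : G) ∈ T ↔ Kl (e c)) → ∀ a ∈ T, a ≠ 1 → ∀ b ∈ T, b ≠ 1 → fixSub φ a = fixSub φ b := by
    intro M T e hN hm a ha ha1 b hb hb1
    have hTM : T ≤ M := hN ▸ le_normalizer
    by_cases hab : a = b
    · rw [hab]
    have hne1 : ∀ x, (hx : x ∈ T) → x ≠ 1 → e ⟨x, hTM hx⟩ ≠ 1 := fun x hx hx1 h' =>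
      hx1 (congrArg Subtype.val ((e.map_eq_one_iff).1 h'))
    obtain ⟨d, hd3, hd1, hdab⟩ := s4_orbit _ _ ⟨(hm ⟨a, hTM ha⟩).1 ha, hne1 a ha ha1, (hm ⟨b, hTM hb⟩).1 hb,
      hne1 b hb hb1, fun h' => hab (congrArg Subtype.val (e.injective h'))⟩
    set dG : G := ((e.symm d : M) : G)
    have hdG : orderOf dG = 3 := by
      rw [orderOf_coe, MulEquiv.orderOf_eq, orderOf_three hd3 hd1]
    obtain ⟨hdk3, hdk1⟩ := s4_rotate d _ hd3 hd1 ((hm ⟨a, hTM ha⟩).1 ha)
    have hdaG : orderOf (dG * a) = 3 := by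
      rw [show dG * a = ((e.symm (d * e ⟨a, hTM ha⟩) : M) : G) by simp [dG], orderOf_coe, MulEquiv.orderOf_eq,
        orderOf_three hdk3 hdk1]
    have hconj : dG * a * dG⁻¹ = b := by
      have h' := congrArg (fun p => ((e.symm p : M) : G)) hdab
      simpa [dG] using h'
    ext w
    rw [← hconj]
    exact (fixSub_conj_eq hφ hdG hdaG).symm
  -- the common involution and an involution of the second group outside the first
  obtain ⟨z, hz, hz1⟩ := (T₁ ⊓ T₂).bot_or_exists_ne_one.resolve_left fun hbot => by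
    have h' := CfsgLib.Solvable.card_sup_mul_card_inf (A := T₂) (K := T₁)
      ((hT₂S.trans inf_le_left).trans hN₁.le)
    rw [inf_comm, hbot, card_bot, hT₁c, hT₂c, mul_one] at h'
    have := Nat.le_of_dvd (by norm_num) (hcard ▸ card_dvd_of_le (sup_le hT₂S hT₁S))
    omega
  obtain ⟨t, ht, htT⟩ := SetLike.not_le_iff_exists.1 hTne
  have ht1 : t ≠ 1 := fun h' => htT (h' ▸ T₁.one_mem)
  have htM : t ∈ M₁ := (hT₂S ht).1
  have htt : t * t = 1 := by
    have h' := ((hm₂ ⟨t, (hN₂ ▸ le_normalizer : T₂ ≤ M₂) ht⟩).1 ht).1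
    rw [← map_mul, e₂.map_eq_one_iff] at h'
    exact congrArg Subtype.val h'
  obtain ⟨x, hx3, hx1, htx⟩ := s4_transposition (e₁ ⟨t, htM⟩)
    (by rw [← map_mul, show (⟨t, htM⟩ : M₁) * ⟨t, htM⟩ = 1 from Subtype.ext htt, map_one])
    fun hk => htT ((hm₁ ⟨t, htM⟩).2 hk)
  set xG : G := ((e₁.symm x : M₁) : G)
  have hxo : orderOf xG = 3 := by rw [orderOf_coe, MulEquiv.orderOf_eq, orderOf_three hx3 hx1]
  have htxG : t * xG * t⁻¹ * xG = 1 := by
    have h' := congrArg (fun p => ((e₁.symm p : M₁) : G)) htx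
    simpa [xG] using h'
  have hxG : xG ∈ M₁ := SetLike.coe_mem _
  have hzx : xG * z * xG⁻¹ ∈ T₁ := (mem_normalizer_iff.1 (hN₁ ▸ hxG) z).1 hz.1
  have hCzx := hconst M₁ T₁ e₁ hN₁ hm₁ z hz.1 hz1 _ hzx fun h' => hz1 (conj_eq_one_iff.1 h')
  have hCtz : fixSub φ t = fixSub φ z := hconst M₂ T₂ e₂ hN₂ hm₂ t ht ht1 z hz.2 hz1
  have hxne : xG ≠ 1 := fun h' => by rw [h', orderOf_one] at hxo; omega
  obtain ⟨hsq, hC⟩ := half hφ (fun a b => (comm_of_sq' hW a b)) (e := t) (x := xG)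
    (by rw [← map_mul, htt, map_one]) (hxo ▸ by decide) hxne (by rw [mul_eq_one_iff_eq_inv.1 htxG])
  have hbot : fixSub φ t = ⊥ := by
    rw [eq_bot_iff]
    intro w hw
    refine mem_bot.2 (hC w hw ?_)
    have h' : φ xG w ∈ fixSub φ (xG * z * xG⁻¹) := fixSub_conj.2 (hCtz ▸ hw)
    rw [← hCzx, ← hCtz] at h'
    exact h'
  rw [hbot, card_bot, one_pow] at hsq
  exact (Nat.card_eq_one_iff_unique.1 hsq.symm).1

variable [IsSimpleGroup G]

theorem oddCore_centralizer_eq_bot (h : IsCIT G) {t : G} (ht : orderOf t = 2) :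
    Cfsg.oddCore (centralizer ({t} : Set G)) = ⊥ := by
  refine sSup_eq_bot.2 fun N hN => ?_
  obtain ⟨-, hodd⟩ := hN
  rw [← card_eq_one]
  haveI : Fact (Nat.Prime 2) := ⟨Nat.prime_two⟩
  obtain ⟨n, hn⟩ := ((h t ht).to_subgroup N).exists_card_eq
  rw [hn] at hodd ⊢
  rcases Nat.eq_zero_or_pos n with rfl | hn0
  · rfl
  · have := (Nat.coprime_pow_left_iff hn0 _ _).1 hodd
    norm_num at this

theorem exists_central_invol (S : Sylow 2 G) (h2 : Even (Nat.card G)) :
    ∃ z ∈ (S : Subgroup G), orderOf z = 2 ∧ ∀ s ∈ (S : Subgroup G), Commute s z := by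
  haveI : Fact (Nat.Prime 2) := ⟨Nat.prime_two⟩
  haveI : Nontrivial (S : Subgroup G) := Finite.one_lt_card_iff_nontrivial.1 (by
    have hd : 2 ^ 1 ∣ Nat.card (S : Subgroup G) :=
      Sylow.pow_dvd_card_of_pow_dvd_card S (by rw [pow_one]; exact even_iff_two_dvd.1 h2)
    have := Nat.le_of_dvd Nat.card_pos hd
    omega)
  haveI := S.2.center_nontrivial
  obtain ⟨z, hzc, hz⟩ := exists_invol_of_isPGroup (G := (S : Subgroup G)) (S.2.to_subgroup (center (S : Subgroup G)))
    ((center (S : Subgroup G)).nontrivial_iff_ne_bot.1 inferInstance)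
  exact ⟨z, z.2, by rwa [orderOf_coe], fun s hs => congrArg Subtype.val (mem_center_iff.1 hzc ⟨s, hs⟩)⟩

theorem not_quasiDihedral_cit (h : IsCIT G) (hns : ¬ Group.IsSolvable G) (S : Sylow 2 G) :
    ¬ Cfsg.IsQuasiDihedral (S : Subgroup G) := by
  intro hS
  obtain ⟨D⟩ := CfsgLib.QD.exists_data hS
  obtain ⟨T, Q, hTS, hT, hQS, ⟨eQ⟩⟩ := CfsgLib.InvolPattern.qd_setup S D
  have h6 := (CfsgLib.InvolPattern.qd_simple_pattern (CfsgLib.RecogSeven.no_index_two hns) S hS D hT hTS hQS eQ).2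
  haveI : Fact (Nat.Prime 3) := ⟨Nat.prime_three⟩
  have h3 : 3 ∣ Nat.card (normalizer (Q : Set G)) :=
    (show 3 ∣ 6 by norm_num).trans (h6 ▸ relIndex_dvd_card _ _)
  obtain ⟨x, hx⟩ := exists_prime_orderOf_dvd_card' 3 h3
  rw [← orderOf_coe] at hx
  have huniq : ∀ c d : QuaternionGroup 2, c * c = 1 → c ≠ 1 → d * d = 1 → d ≠ 1 → c = d := by decide
  have hex : ∃ c : QuaternionGroup 2, c * c = 1 ∧ c ≠ 1 := by decide
  obtain ⟨c, hc2, hc1⟩ := hex
  set z : G := ((eQ.symm c : Q) : G) with hzdef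
  have hzQ : z ∈ Q := SetLike.coe_mem _
  have hz2 : z * z = 1 := by rw [hzdef, ← coe_mul, ← map_mul, hc2, map_one, coe_one]
  have hz1 : z ≠ 1 := fun e => hc1 (by simpa using congrArg eQ (Subtype.ext e : eQ.symm c = 1))
  have hcz : (x : G) * z * (x : G)⁻¹ = z := by
    have hm := (mem_normalizer_iff.1 x.2 z).1 hzQ
    have hu := huniq (eQ ⟨_, hm⟩) c
      (by rw [← map_mul, ← map_one eQ]; congr 1; exact Subtype.ext (by
        show (x : G) * z * (x : G)⁻¹ * ((x : G) * z * (x : G)⁻¹) = 1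
        rw [conj_mul, hz2]; simp))
      (fun e => hz1 (conj_eq_one_iff.1 (congrArg Subtype.val
        ((eQ.map_eq_one_iff).1 e : (⟨_, hm⟩ : Q) = 1)))) hc2 hc1
    have : (⟨_, hm⟩ : Q) = eQ.symm c := by rw [← hu, MulEquiv.symm_apply_apply]
    exact congrArg Subtype.val this
  have := h.eq_one_of_commute (CfsgLib.Invol.orderOf_eq_two hz2 hz1) (mul_inv_eq_iff_eq_mul.1 hcz).symm
    (hx ▸ by decide)
  rw [this, orderOf_one] at hx
  omega

/-- A self-centralizing four-group in a simple CIT group of order divisible by eight: dihedral Sylow subgroups. -/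
theorem psl_of_four (h : IsCIT G) (hns : ¬ Group.IsSolvable G) (h8 : 8 ∣ Nat.card G)
    {a b : G} (ha : orderOf a = 2) (hb : orderOf b = 2) (hab : a ≠ b) (hc : Commute a b)
    (hC : ∀ c : G, Commute c a → Commute c b → c = 1 ∨ c = a ∨ c = b ∨ c = a * b) :
    ∃ (F : Type) (_ : Field F) (_ : Fintype F),
      Odd (Fintype.card F) ∧ Nonempty (G ≃* Matrix.ProjectiveSpecialLinearGroup (Fin 2) F) := by
  classical
  haveI : Fact (Nat.Prime 2) := ⟨Nat.prime_two⟩
  have h2 : Even (Nat.card G) := even_iff_two_dvd.2 ((by norm_num : (2 : ℕ) ∣ 8).trans h8)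
  have hA : IsPGroup 2 (closure ({a, b} : Set G)) := by
    refine (h a ha).to_le ((closure_le _).2 ?_)
    rintro y (rfl | rfl)
    · exact mem_centralizer_self_iff.2 (Commute.refl _)
    · exact mem_centralizer_self_iff.2 hc
  obtain ⟨S, hS⟩ := hA.exists_le_sylow
  have haS : a ∈ (S : Subgroup G) := hS (subset_closure (by simp))
  have hbS : b ∈ (S : Subgroup G) := hS (subset_closure (by simp))
  obtain ⟨z, hzS, hz, hzc⟩ := exists_central_invol S h2
  have h8S : 2 ^ 3 ∣ Nat.card (S : Subgroup G) := Sylow.pow_dvd_card_of_pow_dvd_card S h8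
  -- some generator is not central
  obtain ⟨u, w, huS, hwS, hu, hw, huw, hcuw, hCuw, s₀, hs₀, hs₀u⟩ :
      ∃ u w : G, u ∈ (S : Subgroup G) ∧ w ∈ (S : Subgroup G) ∧ orderOf u = 2 ∧ orderOf w = 2 ∧ u ≠ w ∧
        Commute u w ∧ (∀ c : G, Commute c u → Commute c w → c = 1 ∨ c = u ∨ c = w ∨ c = u * w) ∧
        ∃ s ∈ (S : Subgroup G), ¬ Commute s u := by
    by_cases hca : ∀ s ∈ (S : Subgroup G), Commute s a
    · by_cases hcb : ∀ s ∈ (S : Subgroup G), Commute s b
      · exfalso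
        have hle : Nat.card (S : Subgroup G) ≤ 4 := by
          refine (Set.ncard_le_ncard (t := ({1, a, b, a * b} : Set G)) fun s hs => ?_).trans ?_
          · simpa using hC s (hca s hs) (hcb s hs)
          · refine (Set.ncard_insert_le _ _).trans (Nat.succ_le_succ ?_)
            refine (Set.ncard_insert_le _ _).trans (Nat.succ_le_succ ?_)
            exact (Set.ncard_insert_le _ _).trans (by rw [Set.ncard_singleton])
        have := Nat.le_of_dvd Nat.card_pos h8S
        omega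
      · push Not at hcb
        exact ⟨b, a, hbS, haS, hb, ha, hab.symm, hc.symm, fun c h1 h2 => by
          rcases hC c h2 h1 with e | e | e | e
          · exact Or.inl e
          · exact Or.inr (Or.inr (Or.inl e))
          · exact Or.inr (Or.inl e)
          · exact Or.inr (Or.inr (Or.inr (e.trans hc.eq))), hcb⟩
    · push Not at hca
      exact ⟨a, b, haS, hbS, ha, hb, hab, hc, hC, hca⟩
  have hzuw : z = w ∨ z = u * w := by
    rcases hCuw z (hzc u huS).symm (hzc w hwS).symm with e | e | e | e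
    · exact absurd e (CfsgLib.Invol.ne_one hz)
    · exact absurd (e ▸ hzc s₀ hs₀) hs₀u
    · exact Or.inl e
    · exact Or.inr e
  have hCS : ∀ y ∈ (S : Subgroup G), Commute y u → Commute y w := fun y hy hyu => by
    rcases hzuw with e | e
    · exact e ▸ hzc y hy
    · have h1 : Commute y (u * w) := e ▸ hzc y hy
      have h2' := (hyu.inv_right).mul_right h1
      rwa [inv_mul_cancel_left] at h2'
  have hcard : Nat.card (centralizer ({⟨u, huS⟩} : Set (S : Subgroup G))) = 4 := by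
    have himg : ((centralizer ({⟨u, huS⟩} : Set (S : Subgroup G))).map (S : Subgroup G).subtype : Set G) =
        ({1, u, w, u * w} : Set G) := by
      ext y
      simp only [coe_map, Set.mem_image, SetLike.mem_coe, Set.mem_insert_iff, Set.mem_singleton_iff]
      constructor
      · rintro ⟨⟨y, hy⟩, hyc, rfl⟩
        have hyu : Commute y u := congrArg Subtype.val (mem_centralizer_singleton_iff.1 hyc)
        exact hCuw y hyu (hCS y hy hyu)
      · intro hy
        have key : y ∈ (S : Subgroup G) ∧ Commute y u := by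
          rcases hy with rfl | rfl | rfl | rfl
          · exact ⟨one_mem _, Commute.one_left u⟩
          · exact ⟨huS, Commute.refl _⟩
          · exact ⟨hwS, hcuw.symm⟩
          · exact ⟨mul_mem huS hwS, (Commute.refl u).mul_left hcuw.symm⟩
        exact ⟨⟨y, key.1⟩, mem_centralizer_singleton_iff.2 (Subtype.ext key.2.eq), rfl⟩
    rw [← card_map_of_injective (f := (S : Subgroup G).subtype) (Subgroup.subtype_injective _),
      ← SetLike.coe_sort_coe, himg, Nat.card_coe_set_eq, Set.ncard_eq_four]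
    have hu1 := CfsgLib.Invol.ne_one hu
    have hw1 := CfsgLib.Invol.ne_one hw
    refine ⟨_, _, _, _, hu1.symm, hw1.symm, ?_, huw, fun e => hw1 (mul_eq_left.1 e.symm),
      fun e => hu1 (mul_eq_right.1 e.symm), rfl⟩
    intro e
    exact huw ((mul_eq_one_iff_eq_inv.1 e.symm).trans (CfsgLib.Invol.inv_eq_self hw))
  have hu' : orderOf (⟨u, huS⟩ : (S : Subgroup G)) = 2 := by rwa [Subgroup.orderOf_mk]
  rcases Cfsg.Agent.S3224.result S.2 ⟨u, huS⟩ hu' hcard with ⟨n, ⟨e⟩⟩ | hq | h4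
  · have hn : 2 ≤ n := by
      rw [Nat.card_congr e.toEquiv, DihedralGroup.nat_card] at h8S
      by_contra hlt
      rcases (show n = 0 ∨ n = 1 by omega) with rfl | rfl
      · haveI : Infinite (DihedralGroup 0) := inferInstance
        haveI : Finite (DihedralGroup 0) := Finite.of_equiv _ e.toEquiv
        exact not_finite (DihedralGroup 0)
      · norm_num at h8S
    exact Cfsg.Agent.S0508.result S n hn ⟨e⟩ z hz hzS (fun s hs => hzc s hs) ⊥
      (by rw [oddCore_centralizer_eq_bot h hz, Subgroup.map_bot]) (fun hb => absurd rfl hb)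
      (fun s _ hs => absurd (mem_centralizer_iff.2 fun y hy => by
        rw [SetLike.mem_coe, mem_bot] at hy; rw [hy, one_mul, mul_one]) hs)
      (fun Y hY hY1 => absurd (le_bot_iff.1 hY) hY1)
  · exact absurd hq (not_quasiDihedral_cit h hns S)
  · have := Nat.le_of_dvd (by omega) h8S
    omega

theorem psl_of_local (h : IsCIT G) (hns : ¬ Group.IsSolvable G) {M : Subgroup G} (hM : Cfsg.IsTwoLocal M)
    (e : M ≃* Perm (Fin 4)) : ∃ (F : Type) (_ : Field F) (_ : Fintype F),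
      Odd (Fintype.card F) ∧ Nonempty (G ≃* Matrix.ProjectiveSpecialLinearGroup (Fin 2) F) := by
  obtain ⟨T, hN, hmem⟩ := exists_fourLocal hM e
  obtain ⟨hk1, hk2, hk1', hk2', hkne, hkc⟩ := CfsgLib.RecogSeven.s4_kfacts
  set a : G := ((e.symm k₁ : M) : G) with ha
  set b : G := ((e.symm k₂ : M) : G) with hb
  have hord : ∀ k : Perm (Fin 4), Kl k → k ≠ 1 → orderOf ((e.symm k : M) : G) = 2 := fun k hk hk' => by
    rw [orderOf_coe, MulEquiv.orderOf_eq]
    exact orderOf_eq_prime (hp := ⟨Nat.prime_two⟩) (by rw [pow_two]; exact hk.1) hk'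
  refine psl_of_four h hns ?_ (a := a) (b := b) (hord _ hk1 hk1') (hord _ hk2 hk2')
    (fun he => hkne (e.symm.injective (Subtype.ext he))) ?_ fun c hca hcb => ?_
  · refine (show 8 ∣ 24 by norm_num).trans ?_
    have h24 : Nat.card M = 24 := by
      rw [Nat.card_congr e.toEquiv, Nat.card_perm, Nat.card_eq_fintype_card, Fintype.card_fin]; rfl
    exact h24 ▸ card_subgroup_dvd_card M
  · show a * b = b * a
    rw [ha, hb, ← coe_mul, ← coe_mul, ← map_mul, ← map_mul, hkc]
  · have hTM : T ≤ M := hN ▸ le_normalizer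
    have hcM : c ∈ M := by
      rw [hN]
      refine centralizer_le_normalizer _ (mem_centralizer_iff.2 fun t ht => ?_)
      have hK := (hmem ⟨t, hTM ht⟩).1 ht
      have ht' : ((e.symm (e ⟨t, hTM ht⟩) : M) : G) = t := by rw [MulEquiv.symm_apply_apply]
      rcases CfsgLib.RecogSeven.s4_kl _ hK with hh | hh | hh | hh <;> rw [hh] at ht'
      · rw [map_one, coe_one] at ht'; rw [← ht', one_mul, mul_one]
      · rw [← ht']; exact hca.eq.symm
      · rw [← ht']; exact hcb.eq.symm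
      · rw [map_mul, coe_mul] at ht'; rw [← ht']; exact (hca.mul_right hcb).eq.symm
    have h1 : e ⟨c, hcM⟩ * k₁ = k₁ * e ⟨c, hcM⟩ := by
      conv_lhs => rw [← e.apply_symm_apply k₁, ← map_mul]
      conv_rhs => rw [← e.apply_symm_apply k₁, ← map_mul]
      exact congrArg e (Subtype.ext hca.eq)
    have h2 : e ⟨c, hcM⟩ * k₂ = k₂ * e ⟨c, hcM⟩ := by
      conv_lhs => rw [← e.apply_symm_apply k₂, ← map_mul]
      conv_rhs => rw [← e.apply_symm_apply k₂, ← map_mul]
      exact congrArg e (Subtype.ext hcb.eq)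
    have hc' : ((e.symm (e ⟨c, hcM⟩) : M) : G) = c := by rw [MulEquiv.symm_apply_apply]
    rcases CfsgLib.RecogSeven.s4_cent _ h1 h2 with hh | hh | hh | hh <;> rw [hh] at hc'
    · rw [map_one, coe_one] at hc'; exact Or.inl hc'.symm
    · exact Or.inr (Or.inl hc'.symm)
    · exact Or.inr (Or.inr (Or.inl hc'.symm))
    · rw [map_mul, coe_mul] at hc'; exact Or.inr (Or.inr (Or.inr hc'.symm))

/-- A simple CIT group with solvable 2-locals and no strongly embedded subgroup. -/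
theorem four_case (h : IsCIT G) (hns : ¬ Group.IsSolvable G)
    (hloc : ∀ R : Subgroup G, IsPGroup 2 R → R ≠ ⊥ → Group.IsSolvable (normalizer (R : Set G)))
    (hnse : ¬ ∃ K : Subgroup G, Cfsg.IsStronglyEmbedded K) :
    NoFpf G ∧ ∃ (F : Type) (_ : Field F) (_ : Fintype F),
      Odd (Fintype.card F) ∧ Nonempty (G ≃* Matrix.ProjectiveSpecialLinearGroup (Fin 2) F) := by
  classical
  haveI : Fact (Nat.Prime 2) := ⟨Nat.prime_two⟩
  have h2 : Even (Nat.card G) := by
    obtain ⟨a, -, ha, -, -, -⟩ := h.exists_klein hns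
    exact even_iff_two_dvd.2 (ha ▸ orderOf_dvd_natCard a)
  have hnotp : ¬ IsPGroup 2 G := fun hp => hns (by haveI := hp.isNilpotent; infer_instance)
  have hnorm : ∀ T : Subgroup G, IsPGroup 2 T → T.Normal → T = ⊥ := fun T hT hTn =>
    (IsSimpleGroup.eq_bot_or_eq_top_of_normal T hTn).resolve_right fun e =>
      hnotp ((e ▸ hT : IsPGroup 2 (⊤ : Subgroup G)).of_equiv topEquiv)
  have hchar : Cfsg.IsCharacteristicTwoType G := by
    refine Cfsg.Agent.S0505.result h2 (fun t ht => ?_) fun t ht => oddCore_centralizer_eq_bot h ht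
    haveI := (h t ht).isNilpotent
    infer_instance
  have hO : Cfsg.pCore 2 G = ⊥ := sSup_eq_bot.2 fun N hN => hnorm N hN.2 hN.1
  have hH : closure {g : G | Odd (orderOf g)} = ⊤ := by
    have hp := CfsgLib.BSWId.pResidual_eq_top (G := G) fun hc => hns (Group.isSolvable_of_comm hc)
    rw [← hp, Cfsg.pResidual]
    congr 1
    ext g
    exact Nat.coprime_two_right.symm
  have hZ : ∀ S : Sylow 2 G,
      centralizer {z : G | z ∈ (S : Subgroup G) ∧ z ^ 2 = 1 ∧ ∀ s ∈ (S : Subgroup G), s * z = z * s} ≤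
        normalizer ((S : Subgroup G) : Set G) := by
    intro S
    obtain ⟨z, hzS, hz, hzc⟩ := exists_central_invol S h2
    intro y hy
    have hzy : Commute z y := mem_centralizer_iff.1 hy z
      ⟨hzS, by rw [← hz, pow_orderOf_eq_one], fun s hs => hzc s hs⟩
    exact le_normalizer ((h.centralizer_eq_sylow S hz fun s hs => (hzc s hs).symm) ▸
      mem_centralizer_self_iff.2 hzy)
  have hloc' : ∀ L : Subgroup G, Cfsg.IsTwoLocal L → Group.IsSolvable L := by
    rintro L ⟨T, hT2, hT1, rfl⟩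
    exact hloc T hT2 hT1
  rcases Cfsg.Agent.S0518.result hchar hO hloc' hZ ⊤ hH.symm with
    hK | ⟨M₁, M₂, hne, hM₁, hM₂, ⟨e₁⟩, ⟨e₂⟩, hcard⟩
  · exact absurd hK hnse
  · haveI : IsSimpleGroup (⊤ : Subgroup G) := MulEquiv.isSimpleGroup topEquiv
    have hns' : ¬ Group.IsSolvable (⊤ : Subgroup G) := fun hs => hns (by
      haveI := hs
      exact Group.isSolvable_of_surjective (f := (topEquiv : (⊤ : Subgroup G) ≃* G).toMonoidHom)
        (MulEquiv.surjective _))
    refine ⟨fun W _ _ hW φ hφ => ?_, ?_⟩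
    · exact noFpf_of_two_four hM₁.1 hM₂.1 hne e₁ e₂ hcard W hW (φ.comp (⊤ : Subgroup G).subtype)
        (hφ.comp _ (⊤ : Subgroup G).subtype_injective)
    · obtain ⟨F, hf, hfi, hodd, ⟨ψ⟩⟩ := psl_of_local (h.subgroup ⊤) hns' hM₁.1 e₁
      exact ⟨F, hf, hfi, hodd, ⟨topEquiv.symm.trans ψ⟩⟩

end CfsgLib.CIT
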