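import Cfsg.Agent.CITGroups.Analysis

/-!
# The inductive step: factor groups of nonsolvable 2-locals have strongly embedded subgroups
-/

set_option autoImplicit false
set_option linter.style.haveILetI false
set_option linter.unusedSectionVars false

namespace CfsgLib.CIT

open Subgroup

universe u

theorem good_of_smaller {G : Type u} [Group G] [Finite G] (h : IsCIT G)
    (hih : ∀ (Y : Type u) [Group Y] [Finite Y], Nat.card Y < Nat.card G → IsSimpleGroup Y → IsCIT Y →
      ¬ Group.IsSolvable Y → (∃ K : Subgroup Y, Cfsg.IsStronglyEmbedded K) ∨ NoFpf Y) : Good G := by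
  intro R hR2 hR1 hns hcore N hNn hN
  subst hN
  set X := normalizer (R : Set G) with hX
  set R' := R.subgroupOf X
  set π := QuotientGroup.mk' R' with hπ
  have hRX : R ≤ X := le_normalizer
  have hR'2 : IsPGroup 2 R' := hR2.of_equiv (subgroupOfEquivOfLe hRX).symm
  have hY : IsCIT (X ⧸ R') := (h.subgroup X).quotient R' hR'2
  have hYns : ¬ Group.IsSolvable (X ⧸ R') := fun hs => hns (by
    haveI : Fact (Nat.Prime 2) := ⟨Nat.prime_two⟩
    haveI := hs
    haveI := hR'2.isNilpotent
    exact Group.isSolvable_of_ker_le_range R'.subtype π (by simp [π]))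
  have hYcore : Cfsg.pCore 2 (X ⧸ R') = ⊥ := by
    rw [eq_bot_iff]
    intro y hy
    obtain ⟨x, rfl⟩ := QuotientGroup.mk'_surjective R' y
    haveI := CfsgLib.Solvable.pCore_normal (G := X ⧸ R') 2
    set Q := (Cfsg.pCore 2 (X ⧸ R')).comap π
    haveI hQn : Q.Normal := Normal.comap inferInstance π
    have hQ2 : IsPGroup 2 Q := (CfsgLib.Solvable.isPGroup_pCore 2).comap_of_ker_isPGroup _ (by
      rw [QuotientGroup.ker_mk']; exact hR'2)
    have hle := hcore (Q.map X.subtype) (map_subtype_le _) (by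
      rintro m hm _ ⟨z, hz, rfl⟩
      exact ⟨⟨m, hm⟩ * z * ⟨m, hm⟩⁻¹, hQn.conj_mem z hz _, rfl⟩) (hQ2.map _)
    exact mem_bot.2 ((QuotientGroup.eq_one_iff (N := R') x).2
      (hle (mem_map_of_mem X.subtype (show x ∈ Q from hy))))
  have hlt : Nat.card (X ⧸ R') < Nat.card G := by
    refine lt_of_lt_of_le (CfsgLib.Solvable.card_quotient_lt fun e => hR1 ?_)
      (Nat.card_le_card_of_injective _ X.subtype_injective)
    exact le_bot_iff.1 (subgroupOf_eq_bot.1 e le_rfl hRX)
  refine (hY.lift hYns hYcore fun N hN hNns => hih N (lt_of_le_of_lt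
    (Nat.card_le_card_of_injective _ N.subtype_injective) hlt) hN (hY.subgroup N) hNns).resolve_right ?_
  intro hno
  have hXW : X ≤ normalizer (omegaZ R : Set G) := fun g hg =>
    mem_normalizer_of_conj_le fun v hv => omegaZ_conj hg hv
  set φ := conjHom hXW with hφ
  have hker : R' ≤ φ.ker := fun r hr =>
    conjHom_eq_one hXW fun w hw => (omegaZ_commute hw hr).symm
  set ψ := QuotientGroup.lift R' φ hker
  have hψ : IsOddFpf ψ := by
    intro y hy hy1 w hw
    obtain ⟨x₀, rfl⟩ := QuotientGroup.mk'_surjective R' y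
    obtain ⟨j, m, hm, hom⟩ := Nat.exists_eq_two_pow_mul_odd (isOfFinOrder_of_finite x₀).orderOf_pos.ne'
    refine h.conjHom_fpf hXW (hR2.to_le (omegaZ_le R)) (x₀ ^ 2 ^ j) ?_ (fun e => hy1 ?_) w ?_
    · rw [orderOf_pow' x₀ (by positivity), hom, Nat.gcd_mul_right_left, Nat.mul_div_cancel_left _ (by positivity)]
      exact hm
    · exact eq_one_of_odd_of_pow hy (k := j) (by rw [← map_pow, e, map_one])
    · have hfix : φ x₀ w = w := hw
      have : ∀ k : ℕ, φ (x₀ ^ k) w = w := fun k => by
        induction k with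
        | zero => simp
        | succ k ih => rw [pow_succ, map_mul, MulAut.mul_apply, hfix, ih]
      exact this _
  have hsub := hno (omegaZ R) (fun w => Subtype.ext (omegaZ_sq w.2)) ψ hψ
  obtain ⟨v, hv, hv1⟩ := (omegaZ R).bot_or_exists_ne_one.resolve_left (omegaZ_ne_bot hR2 hR1)
  exact hv1 (congrArg Subtype.val (Subsingleton.elim (⟨v, hv⟩ : omegaZ R) 1))

end CfsgLib.CIT
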