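import Cfsg.Agent.PrimeGraph.PSL2Spectrum
import Cfsg.Agent.Suzuki.LieModel
import Cfsg.Agent.Suzuki.Partition
import Cfsg.Agent.Suzuki.Torus
import Cfsg.Agent.Suzuki.Solubilizer
import Cfsg.Agent.S3370
import Cfsg.Prelude.Def_Sz

/-!
# Element orders in `PSL₂(q)` and the Suzuki groups, and the prime power cases
-/

set_option autoImplicit false
set_option linter.style.haveILetI false
set_option linter.unusedSectionVars false

namespace CfsgLib.CIT.ListOrders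

open Subgroup

/-- Orders of the three kinds of tori in a Suzuki group, and its order. -/
theorem suzuki_data {G : Type*} [Group G] {F : Type} [Field F] [Fintype F] {m : ℕ} (hm : 1 ≤ m)
    (hF : Fintype.card F = 2 ^ (2 * m + 1)) (e : G ≃* Cfsg.Lie.Sz F (2 ^ (m + 1))) :
    (∃ x : G, orderOf x = 2 ^ (2 * m + 1) - 1) ∧
      (∃ x : G, orderOf x = 2 ^ (2 * m + 1) + 2 ^ (m + 1) + 1) ∧
      (∃ x : G, orderOf x = 2 ^ (2 * m + 1) - 2 ^ (m + 1) + 1) ∧
      Nat.card G = (2 ^ (2 * m + 1)) ^ 2 * ((2 ^ (2 * m + 1)) ^ 2 + 1) * (2 ^ (2 * m + 1) - 1) := by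
  have h : CfsgLib.Suzuki.IsSzField F m := CfsgLib.Suzuki.isSzField_of_card hm hF
  haveI := h.finite
  haveI := CfsgLib.Suzuki.finite_SL h
  let f : CfsgLib.Suzuki.SzG F m ≃* G := (CfsgLib.Suzuki.lieEquiv h).trans e.symm
  have cyc : ∀ A : Subgroup (CfsgLib.Suzuki.SzG F m), IsCyclic A → ∀ k, Nat.card A = k →
      ∃ x : G, orderOf x = k := fun A hA k hk => by
    obtain ⟨a, ha⟩ := hA.exists_generator
    exact ⟨f a, by rw [MulEquiv.orderOf_eq, orderOf_coe, orderOf_eq_card_of_forall_mem_zpowers ha, hk]⟩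
  obtain ⟨A, B, hA, hB, hcA, hcB, -⟩ := CfsgLib.Suzuki.exists_fpf_tori h
  refine ⟨cyc _ (CfsgLib.Suzuki.isCyclic_torus h) _ ?_, cyc _ (hA.isCyclic h) _ hcA, cyc _ (hB.isCyclic h) _ hcB, ?_⟩
  · rw [CfsgLib.Suzuki.card_torus, h.card]
  · rw [Nat.card_congr f.toEquiv.symm, CfsgLib.Suzuki.card_G h, h.card]

theorem three_pow_eq_two_pow_add_one {i n : ℕ} (h : 3 ^ i = 2 ^ n + 1) : n = 1 ∨ n = 3 := by
  have hi : 1 ≤ i := Nat.pos_of_ne_zero fun e => by
    rw [e, pow_zero] at h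
    have := Nat.two_pow_pos n
    omega
  have key : ∀ a, 2 ^ n = 2 ^ a → n = a := fun a e => Nat.pow_right_injective le_rfl e
  rcases Cfsg.Agent.S3370.fermat_exp Nat.prime_three (by norm_num) hi h with rfl | ⟨-, rfl⟩
  · exact Or.inl (key 1 (by omega))
  · exact Or.inr (key 3 (by omega))

theorem two_pow_eq_three_pow_add_one {i n : ℕ} (hn : 2 ≤ n) (h : 2 ^ n = 3 ^ i + 1) : n = 2 := by
  have h1 := Cfsg.Agent.S3370.mersenne_exp Nat.prime_three (by norm_num) hn h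
  subst h1
  exact Nat.pow_right_injective le_rfl (h.trans (by norm_num))

theorem eq_three_pow {a : ℕ} (ha : IsPrimePow a) (h : 3 ∣ a) : ∃ i, a = 3 ^ i := by
  obtain ⟨p, k, hp, -, rfl⟩ := (isPrimePow_nat_iff _).1 ha
  exact ⟨k, by rw [(Nat.prime_dvd_prime_iff_eq Nat.prime_three hp).1 (Nat.prime_three.dvd_of_dvd_pow h)]⟩

/-- `PSL₂(q)` from the list with the two torus orders prime powers. -/
theorem psl_prime_pow {q : ℕ} (h4 : 4 ≤ q)
    (hq : q = 9 ∨ (∃ n, q = 2 ^ n) ∨ (q.Prime ∧ ∃ k, q = 2 ^ k + 1 ∨ q + 1 = 2 ^ k))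
    (h1 : IsPrimePow ((q - 1) / Nat.gcd 2 (q - 1))) (h2 : IsPrimePow ((q + 1) / Nat.gcd 2 (q - 1))) :
    q = 4 ∨ q = 5 ∨ q = 7 ∨ q = 8 ∨ q = 9 ∨ q = 17 := by
  have hodd : ∀ k, 1 ≤ k → 2 ^ k % 2 = 0 := fun k hk => Nat.mod_eq_zero_of_dvd (dvd_pow_self 2 (by omega))
  have h3 : ∀ k, 2 ^ (2 * k) % 3 = 1 ∧ 2 ^ (2 * k + 1) % 3 = 2 := fun k => by
    have e : 2 ^ (2 * k) % 3 = 1 := by rw [pow_mul, Nat.pow_mod]; norm_num
    exact ⟨e, by rw [pow_succ, Nat.mul_mod, e]⟩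
  rcases hq with rfl | ⟨n, rfl⟩ | ⟨hp, k, hk⟩
  · omega
  · have hn : 2 ≤ n := by
      by_contra hn
      have : 2 ^ n ≤ 2 := (Nat.pow_le_pow_right (show 0 < 2 by norm_num) (show n ≤ 1 by omega)).trans_eq (pow_one 2)
      omega
    have he := hodd n (by omega)
    have hg : Nat.gcd 2 (2 ^ n - 1) = 1 := Nat.coprime_two_left.2 (Nat.odd_iff.2 (by omega))
    rw [hg, Nat.div_one] at h1 h2
    have : n = 2 ∨ n = 3 := by
      rcases Nat.even_or_odd' n with ⟨j, rfl | rfl⟩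
      · obtain ⟨i, hi⟩ := eq_three_pow h1 (Nat.dvd_of_mod_eq_zero (by have := (h3 j).1; omega))
        exact Or.inl (two_pow_eq_three_pow_add_one (i := i) hn (by omega))
      · obtain ⟨i, hi⟩ := eq_three_pow h2 (Nat.dvd_of_mod_eq_zero (by have := (h3 j).2; omega))
        rcases three_pow_eq_two_pow_add_one hi.symm with e | e <;> omega
    rcases this with rfl | rfl <;> norm_num
  · have hk2 : 2 ≤ k := by
      by_contra hk2
      have : 2 ^ k ≤ 2 := (Nat.pow_le_pow_right (show 0 < 2 by norm_num) (show k ≤ 1 by omega)).trans_eq (pow_one 2)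
      omega
    have hq2 : q % 2 = 1 := by have := hodd k (by omega); omega
    have hg : Nat.gcd 2 (q - 1) = 2 := Nat.gcd_eq_left (by omega)
    rw [hg] at h1 h2
    have hq3 : ¬ 3 ∣ q := fun h => by
      have := (Nat.prime_dvd_prime_iff_eq Nat.prime_three hp).1 h
      omega
    obtain ⟨k, rfl⟩ : ∃ j, k = j + 1 := ⟨k - 1, by omega⟩
    rw [pow_succ] at hk
    rcases hk with hk | hk
    · obtain ⟨j, rfl | rfl⟩ := Nat.even_or_odd' k
      · obtain ⟨e, -⟩ := h3 j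
        exact absurd (Nat.dvd_of_mod_eq_zero (by omega)) hq3
      · obtain ⟨-, e⟩ := h3 j
        obtain ⟨i, hi⟩ := eq_three_pow h2 (Nat.dvd_of_mod_eq_zero (by omega))
        rcases three_pow_eq_two_pow_add_one (show 3 ^ i = 2 ^ (2 * j + 1) + 1 by omega) with e' | e' <;>
          rw [e'] at hk <;> omega
    · obtain ⟨j, rfl | rfl⟩ := Nat.even_or_odd' k
      · obtain ⟨e, -⟩ := h3 j
        obtain ⟨i, hi⟩ := eq_three_pow h1 (Nat.dvd_of_mod_eq_zero (by omega))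
        have hj : 2 ≤ 2 * j := by omega
        rw [two_pow_eq_three_pow_add_one hj (show 2 ^ (2 * j) = 3 ^ i + 1 by omega)] at hk
        omega
      · obtain ⟨-, e⟩ := h3 j
        exact absurd (Nat.dvd_of_mod_eq_zero (by omega)) hq3

/-- Suzuki groups with the non-split torus orders prime powers. -/
theorem suzuki_prime_pow {m : ℕ} (hm : 1 ≤ m)
    (h1 : IsPrimePow (2 ^ (2 * m + 1) + 2 ^ (m + 1) + 1)) (h2 : IsPrimePow (2 ^ (2 * m + 1) - 2 ^ (m + 1) + 1)) :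
    m = 1 ∨ m = 2 := by
  haveI : Fact (Nat.Prime 5) := ⟨Nat.prime_five⟩
  set q := 2 ^ (2 * m + 1) with hq
  set r := 2 ^ (m + 1) with hr
  have hr2 : r * r = 2 * q := by
    rw [hr, hq, ← pow_add, show m + 1 + (m + 1) = 2 * m + 1 + 1 by omega, pow_succ, mul_comm]
  have hr4 : 4 ≤ r := by
    rw [hr]; exact (show 4 = 2 ^ 2 by rfl) ▸ Nat.pow_le_pow_right (by norm_num) (by omega)
  have hle : 2 * r ≤ q := by
    rw [hr, hq, ← pow_succ']
    exact Nat.pow_le_pow_right (by norm_num) (by omega)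
  obtain ⟨d, hd⟩ : ∃ d, q = r + d := ⟨q - r, by omega⟩
  have hprod : (q + r + 1) * (q - r + 1) = 4 ^ (2 * m + 1) + 1 ^ (2 * m + 1) := by
    have e : 4 ^ (2 * m + 1) = q * q := by rw [hq, ← mul_pow]; norm_num
    rw [e, one_pow, show q - r + 1 = d + 1 by omega]
    nlinarith
  have hpos : q + r + 1 ≠ 0 ∧ q - r + 1 ≠ 0 := ⟨by omega, by omega⟩
  have hv := congrArg (padicValNat 5) hprod
  rw [padicValNat.pow_add_pow (by decide) (show 5 ∣ 4 + 1 from dvd_rfl) (by decide) ⟨m, rfl⟩,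
    padicValNat.mul hpos.1 hpos.2, show (4 + 1 : ℕ) = 5 from rfl, padicValNat_self] at hv
  have hb : 5 ^ padicValNat 5 (2 * m + 1) ≤ 2 * m + 1 := Nat.le_of_dvd (by omega) pow_padicValNat_dvd
  have key : ∀ a, IsPrimePow a → padicValNat 5 a ≤ padicValNat 5 (q + r + 1) + padicValNat 5 (q - r + 1) →
      1 ≤ padicValNat 5 a → a ≤ 5 * (2 * m + 1) := by
    intro a ha hle' h1'
    obtain ⟨p, k, hp, -, rfl⟩ := (isPrimePow_nat_iff _).1 ha
    haveI := Fact.mk hp
    obtain rfl : 5 = p := (Nat.prime_dvd_prime_iff_eq Nat.prime_five hp).1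
      (Nat.prime_five.dvd_of_dvd_pow (dvd_of_one_le_padicValNat h1'))
    rw [padicValNat.prime_pow] at hle'
    rw [hv] at hle'
    calc 5 ^ k ≤ 5 ^ (1 + padicValNat 5 (2 * m + 1)) := Nat.pow_le_pow_right (by norm_num) hle'
      _ = 5 * 5 ^ padicValNat 5 (2 * m + 1) := by rw [pow_add, pow_one]
      _ ≤ _ := Nat.mul_le_mul_left _ hb
  have hsmall : 4 ^ m ≤ 5 * (2 * m + 1) := by
    have hq2 : q = 2 * 4 ^ m := by rw [hq, pow_succ', pow_mul]; norm_num
    rcases Nat.eq_zero_or_pos (padicValNat 5 (q + r + 1)) with h0 | h0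
    · have := key _ h2 (by omega) (by omega)
      omega
    · have := key _ h1 (by omega) h0
      omega
  by_contra hcon
  have : ∀ j, 3 ≤ j → 5 * (2 * j + 1) < 4 ^ j := by
    intro j hj
    induction j, hj using Nat.le_induction with
    | base => norm_num
    | succ n hn ih => rw [pow_succ]; omega
  have := this m (by omega)
  omega

end CfsgLib.CIT.ListOrders
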