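import Cfsg.Agent.CITGroups.Lift
import Mathlib.GroupTheory.Schreier

/-!
# The data at a nonsolvable 2-local of a CIT group
-/

set_option autoImplicit false
set_option linter.style.haveILetI false
set_option linter.unusedSectionVars false

namespace CfsgLib.CIT

open Subgroup
open scoped Pointwise

universe u

variable {G : Type u} [Group G] [Finite G]

/-- A nonsolvable 2-local `M = N(U)`, `U = O₂(M)`, with Sylow subgroup `T`, a cyclic complement `D` of `T` in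
`N_M(T)` of order `q - 1` and an involution `u` inverting `D`, all pulled back from the strongly embedded
subgroup of `M / U`. -/
structure Loc (M U T D : Subgroup G) (u : G) (q : ℕ) : Prop where
  U_two : IsPGroup 2 U
  U_ne : U ≠ ⊥
  M_eq : M = normalizer (U : Set G)
  not_solvable : ¬ Group.IsSolvable M
  U_core : ∀ N : Subgroup G, N ≤ M → (∀ m ∈ M, ∀ x ∈ N, m * x * m⁻¹ ∈ N) → IsPGroup 2 N → N ≤ U
  U_le : U ≤ T
  T_le : T ≤ M
  T_two : IsPGroup 2 T
  T_max : ∀ P : Subgroup G, P ≤ M → IsPGroup 2 P → T ≤ P → P = T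
  D_le : D ≤ M
  D_card : Nat.card D + 1 = q
  D_three : 3 ≤ Nat.card D
  D_odd : Odd (Nat.card D)
  D_cyclic : IsCyclic D
  D_norm : ∀ d ∈ D, ∀ t ∈ T, d * t * d⁻¹ ∈ T
  normalizer_T : ∀ g ∈ M, g ∈ normalizer (T : Set G) → ∃ t ∈ T, ∃ d ∈ D, g = t * d
  u_mem : u ∈ M
  u_ord : orderOf u = 2
  u_inv : ∀ d ∈ D, u * d * u⁻¹ = d⁻¹
  u_not : u ∉ normalizer (T : Set G)
  bruhat : ∀ g ∈ M, g ∉ normalizer (T : Set G) → ∃ t ∈ T, ∃ k ∈ M ⊓ normalizer (T : Set G), g = t * u * k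
  trap : ∀ e ∈ T, e ∉ U → ∀ g ∈ M, g * e * g⁻¹ ∈ T → g ∈ normalizer (T : Set G)
  inv_central : ∀ e ∈ T, e * e ∈ U → ∀ t ∈ T, e * t * e⁻¹ * t⁻¹ ∈ U
  inv_trans : ∀ e ∈ T, e ∉ U → e * e ∈ U → ∀ f ∈ T, f ∉ U → f * f ∈ U →
    ∃ d ∈ D, f⁻¹ * (d * e * d⁻¹) ∈ U
  inv_free : ∀ e ∈ T, e ∉ U → e * e ∈ U → ∀ d ∈ D, e⁻¹ * (d * e * d⁻¹) ∈ U → d = 1
  cent_D : ∀ d ∈ D, d ≠ 1 → ∀ g ∈ M, g * d * g⁻¹ * d⁻¹ ∈ U → ∃ w ∈ U, ∃ d' ∈ D, g = w * d'
  exists_inverted : ∀ e ∈ T, e ∉ U → e * e ∈ U → ∃ x ∈ M, Odd (orderOf x) ∧ x ≠ 1 ∧ e * x * e⁻¹ * x ∈ U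
  card_M : Nat.card M * Nat.card U = (Nat.card T + Nat.card U) * Nat.card T * Nat.card D
  q_pow : ∃ k : ℕ, 2 ≤ k ∧ q = 2 ^ k

theorem strong_map {Y : Type u} [Group Y] [Finite Y] {K : Subgroup Y} (hK : Cfsg.IsStronglyEmbedded K) (c : Y) :
    Cfsg.IsStronglyEmbedded (K.map (MulAut.conj c).toMonoidHom) := by
  have hmem : ∀ x, x ∈ K.map (MulAut.conj c).toMonoidHom ↔ c⁻¹ * x * c ∈ K := fun x =>
    ⟨by rintro ⟨k, hk, rfl⟩; simpa [mul_assoc] using hk, fun h => ⟨_, h, by simp [mul_assoc]⟩⟩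
  refine ⟨fun e => hK.1 (eq_top_iff.2 fun x _ => ?_), ?_, fun g hg => odd_card_of_no_invol fun i hi hi2 => ?_⟩
  · have := (hmem (c * x * c⁻¹)).1 (e ▸ mem_top _)
    simpa [mul_assoc] using this
  · rw [card_map_of_injective (f := (MulAut.conj c).toMonoidHom) (MulAut.conj c).injective]
    exact hK.2.1
  · rw [CfsgLib.StrongEmbed.mem_inf_conj_iff, hmem, hmem] at hi
    refine hg ((hmem g).2 (CfsgLib.StrongEmbed.mem_of_conj_mem hK (s := c⁻¹ * i * c) hi.1
      (by rw [show c⁻¹ * i * c = c⁻¹ * i * c⁻¹⁻¹ by rw [inv_inv], CfsgLib.Invol.orderOf_conj_eq, hi2]) ?_))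
    simpa [mul_assoc] using hi.2

theorem zdata_of_sylow {Y : Type u} [Group Y] [Finite Y] (h : IsCIT Y) (hns : ¬ Group.IsSolvable Y)
    {K : Subgroup Y} (hK : Cfsg.IsStronglyEmbedded K) (P : Sylow 2 Y) :
    ∃ (K' D : Subgroup Y) (w : Y), ZData K' (P : Subgroup Y) D w := by
  haveI : Fact (Nat.Prime 2) := ⟨Nat.prime_two⟩
  obtain ⟨a, b, ha, hb, hab, hc⟩ := h.exists_klein hns
  obtain ⟨T₀, D₀, w₀, Z₀⟩ := exists_zdata h hK ha hb hab hc
  obtain ⟨c, hP⟩ := MulAction.exists_smul_eq Y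
    (⟨T₀, Z₀.two, fun {Q} hQ hTQ => Z₀.sylow Q hQ hTQ⟩ : Sylow 2 Y) P
  have hPe : (P : Subgroup Y) = T₀.map (MulAut.conj c).toMonoidHom := by
    rw [← hP, Sylow.coe_subgroup_smul, Subgroup.pointwise_smul_def]; rfl
  obtain ⟨T', D', w', Z'⟩ := exists_zdata h (strong_map hK c) ha hb hab hc
  refine ⟨K.map (MulAut.conj c).toMonoidHom, D', w', ?_⟩
  have hle : (P : Subgroup Y) ≤ normalizer (T' : Set Y) := by
    rw [← Z'.K_eq, hPe]
    exact map_mono (Z₀.K_eq ▸ le_normalizer)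
  have h2 : IsPGroup 2 ((P : Subgroup Y) ⊔ T' : Subgroup Y) := P.2.to_sup_of_normal_right' Z'.two hle
  have e : T' = P := by
    rw [← Z'.sylow _ h2 le_sup_right]
    exact P.3 h2 le_sup_left
  exact e ▸ Z'

theorem exists_loc (h : IsCIT G) {M U T : Subgroup G} (hU2 : IsPGroup 2 U) (hU1 : U ≠ ⊥)
    (hM : M = normalizer (U : Set G)) (hns : ¬ Group.IsSolvable M)
    (hcore : ∀ N : Subgroup G, N ≤ M → (∀ m ∈ M, ∀ x ∈ N, m * x * m⁻¹ ∈ N) → IsPGroup 2 N → N ≤ U)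
    (hstrong : ∀ N : Subgroup M, ∀ [N.Normal], N = U.subgroupOf M →
      ∃ K : Subgroup (M ⧸ N), Cfsg.IsStronglyEmbedded K)
    (hTM : T ≤ M) (hT2 : IsPGroup 2 T) (hTmax : ∀ P : Subgroup G, P ≤ M → IsPGroup 2 P → T ≤ P → P = T) :
    ∃ (D : Subgroup G) (u : G) (q : ℕ), Loc M U T D u q := by
  haveI : Fact (Nat.Prime 2) := ⟨Nat.prime_two⟩
  have hUM : U ≤ M := hM ▸ le_normalizer
  haveI hUn : (U.subgroupOf M).Normal := by
    subst hM
    infer_instance
  set U' := U.subgroupOf M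
  set π := QuotientGroup.mk' U'
  have hU'2 : IsPGroup 2 U' := hU2.of_equiv (subgroupOfEquivOfLe hUM).symm
  have hY : IsCIT (M ⧸ U') := (h.subgroup M).quotient U' hU'2
  have hYns : ¬ Group.IsSolvable (M ⧸ U') := fun hs => hns (by
    haveI := hs
    haveI := hU'2.isNilpotent
    exact Group.isSolvable_of_ker_le_range U'.subtype π (by simp [π]))
  obtain ⟨K₀, hK₀⟩ := hstrong U' rfl
  set TM := T.subgroupOf M
  have hUT : U ≤ T := by
    have h2 : IsPGroup 2 (T ⊔ U : Subgroup G) := hT2.to_sup_of_normal_right' hU2 (hTM.trans hM.le)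
    exact hTmax _ (sup_le hTM hUM) h2 le_sup_left ▸ le_sup_right
  have hUTM : U' ≤ TM := fun x hx => hUT hx
  have hTcomap : (TM.map π).comap π = TM := by
    rw [comap_map_eq, QuotientGroup.ker_mk', sup_eq_left.2 hUTM]
  have hTbmax : ∀ Q : Subgroup (M ⧸ U'), IsPGroup 2 Q → TM.map π ≤ Q → Q = TM.map π := by
    intro Q hQ hle
    have h1 : TM ≤ Q.comap π := hTcomap ▸ comap_mono hle
    have h2 : IsPGroup 2 (Q.comap π) := hQ.comap_of_ker_isPGroup _ (by rw [QuotientGroup.ker_mk']; exact hU'2)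
    have e := hTmax ((Q.comap π).map M.subtype) (map_subtype_le _) (h2.map _)
      (fun x hx => ⟨⟨x, hTM hx⟩, h1 hx, rfl⟩)
    have e2 : Q.comap π = TM := by
      rw [show TM = ((Q.comap π).map M.subtype).subgroupOf M by rw [e]]
      exact (comap_map_eq_self_of_injective M.subtype_injective _).symm
    rw [← map_comap_eq_self_of_surjective (QuotientGroup.mk'_surjective U') Q, e2]
  obtain ⟨K, Db, w, Z⟩ := zdata_of_sylow hY hYns hK₀
    ⟨TM.map π, (hT2.of_equiv (subgroupOfEquivOfLe hTM).symm).map π, fun {Q} hQ hle => hTbmax Q hQ hle⟩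
  -- membership through the quotient
  have hmemT : ∀ x : M, π x ∈ TM.map π ↔ (x : G) ∈ T := fun x => by
    rw [← mem_comap, hTcomap]; exact Iff.rfl
  have hmemU : ∀ x : M, π x = 1 ↔ (x : G) ∈ U := fun x => QuotientGroup.eq_one_iff x
  have hNT : ∀ x : M, π x ∈ K ↔ (x : G) ∈ normalizer (T : Set G) := by
    intro x
    have hK' : K = normalizer ((TM.map π : Subgroup (M ⧸ U')) : Set (M ⧸ U')) := Z.K_eq
    rw [hK', mem_normalizer_iff, mem_normalizer_iff]
    constructor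
    · intro hh y
      constructor
      · intro hy
        have := (hmemT (x * ⟨y, hTM hy⟩ * x⁻¹)).1 (by
          simp only [map_mul, map_inv]
          exact (hh _).1 ((hmemT ⟨y, hTM hy⟩).2 hy))
        exact this
      · intro hy
        have hyM : y ∈ M := by
          have := M.mul_mem (M.mul_mem (M.inv_mem x.2) (hTM hy)) x.2
          simpa [mul_assoc] using this
        refine (hmemT ⟨y, hyM⟩).1 ((hh _).2 ?_)
        rw [← map_inv, ← map_mul, ← map_mul]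
        exact (hmemT _).2 hy
    · intro hh q
      obtain ⟨y, rfl⟩ := QuotientGroup.mk'_surjective U' q
      rw [hmemT, ← map_inv, ← map_mul, ← map_mul, hmemT]
      exact hh y
  -- the complement
  set L := Db.comap π
  have hU'L : U' ≤ L := fun x hx => by
    show π x ∈ Db
    rw [show π x = 1 from (QuotientGroup.eq_one_iff x).2 hx]; exact one_mem _
  have hLidx : (U'.subgroupOf L).index = Nat.card Db := by
    have e3 : (π.comp L.subtype).ker = U'.subgroupOf L := by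
      ext s; exact QuotientGroup.eq_one_iff _
    have e4 : (π.comp L.subtype).range = Db := by
      rw [MonoidHom.range_comp, range_subtype, map_comap_eq_self_of_surjective (QuotientGroup.mk'_surjective U')]
    rw [← e4, ← index_ker, e3]
  have hcopU : (Nat.card U').Coprime (Nat.card Db) := by
    obtain ⟨k, hk⟩ := hU'2.exists_card_eq
    rw [hk]
    exact (Nat.coprime_two_left.2 Z.D_odd).pow_left k
  obtain ⟨C, hC⟩ := exists_right_complement'_of_coprime (N := U'.subgroupOf L) (by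
    rw [Nat.card_congr (subgroupOfEquivOfLe hU'L).toEquiv, hLidx]
    exact hcopU)
  set DM := C.map L.subtype
  have hDMc : Nat.card DM = Nat.card Db := by
    rw [card_map_of_injective L.subtype_injective, ← hC.symm.index_eq_card, hLidx]
  have hDMi : ∀ d ∈ DM, π d = 1 → d = 1 := by
    intro d hd h1
    refine eq_one_of_mem_inf hU'2 (A := DM) (hDMc ▸ Z.D_odd) ?_ hd
    exact (QuotientGroup.eq_one_iff d).1 h1
  have hDMmap : DM.map π = Db := by
    refine eq_of_le_of_card_ge (map_le_iff_le_comap.2 (map_subtype_le C)) (le_of_eq ?_)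
    rw [← hDMc]
    exact Nat.card_congr (Equiv.ofBijective (fun d : DM => (⟨π d, mem_map_of_mem π d.2⟩ : DM.map π))
      ⟨fun x y e => Subtype.ext (inv_mul_eq_one.1 (hDMi _ (DM.mul_mem (DM.inv_mem x.2) y.2)
        (by rw [map_mul, map_inv, show π x = π y from congrArg Subtype.val e, inv_mul_cancel]))),
       fun ⟨_, d, hd, rfl⟩ => ⟨⟨d, hd⟩, rfl⟩⟩)
  have hDMlift : ∀ x : M, π x ∈ Db → ∃ w ∈ U', ∃ d ∈ DM, x = w * d := by
    intro x hx
    rw [← hDMmap] at hx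
    obtain ⟨d, hd, e⟩ := hx
    refine ⟨x * d⁻¹, (QuotientGroup.eq_one_iff _).1 ?_, d, hd, by group⟩
    show π (x * d⁻¹) = 1
    rw [map_mul, map_inv, e, mul_inv_cancel]
  have hDbK : Db ≤ K := Z.D_eq ▸ inf_le_left
  -- the inverting involution
  obtain ⟨u₀, hu₀⟩ := QuotientGroup.mk'_surjective U' w
  have hle : MulAut.conj u₀ • DM ≤ DM ⊔ U' := by
    rintro _ ⟨d, hd, rfl⟩
    have hd' : π (u₀ * d * u₀⁻¹) ∈ Db := by
      rw [map_mul, map_mul, map_inv, hu₀, Z.inverts _ (hDMmap ▸ mem_map_of_mem π hd)]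
      exact Db.inv_mem (hDMmap ▸ mem_map_of_mem π hd)
    obtain ⟨w', hw', d', hd', e⟩ := hDMlift _ hd'
    show u₀ * d * u₀⁻¹ ∈ DM ⊔ U'
    rw [e]
    exact mul_mem (mem_sup_right hw') (mem_sup_left hd')
  obtain ⟨c, hc, hce⟩ := CfsgLib.SZ.conj_rel (le_normalizer_of_normal (H := U')) (hDMc ▸ hcopU.symm)
    (Or.inr (haveI := hU'2.isNilpotent; inferInstance)) hle
    (Nat.card_congr (Subgroup.equivSMul (MulAut.conj u₀) DM).toEquiv).symm
  set u₁ : M := c⁻¹ * u₀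
  have hπu : π u₁ = w := by
    show π (c⁻¹ * u₀) = w
    rw [map_mul, map_inv, show π c = 1 from (QuotientGroup.eq_one_iff c).2 hc, inv_one, one_mul, hu₀]
  have hu₁N : MulAut.conj u₁ • DM = DM := by
    rw [CfsgLib.SZ.conj_smul_mul, ← hce, ← CfsgLib.SZ.conj_smul_mul, inv_mul_cancel, map_one, one_smul]
  have hinvu : ∀ d ∈ DM, u₁ * d * u₁⁻¹ = d⁻¹ := by
    intro d hd
    have hm : u₁ * d * u₁⁻¹ ∈ DM := hu₁N ▸ ⟨d, hd, rfl⟩
    refine mul_eq_one_iff_eq_inv.1 (hDMi _ (DM.mul_mem hm hd) ?_)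
    rw [map_mul, map_mul, map_mul, map_inv, hπu, Z.inverts _ (hDMmap ▸ mem_map_of_mem π hd), inv_mul_cancel]
  have hu₁2 : orderOf (u₁ : G) = 2 := by
    have hev : ¬ Odd (orderOf u₁) := fun ho => by
      have := ho.of_dvd_nat (orderOf_map_dvd π u₁)
      rw [hπu, Z.u_ord] at this
      exact Nat.not_even_iff_odd.2 this even_two
    obtain ⟨k, hk⟩ := ((h.subgroup M).odd_or_two_pow u₁).resolve_left hev
    obtain ⟨d, hd, hd1⟩ := DM.bot_or_exists_ne_one.resolve_left fun e => by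
      have := Z.three_le; rw [← hDMc, e, card_bot] at this; omega
    have hsq : Commute (u₁ * u₁) d := mul_inv_eq_iff_eq_mul.1 (by
      rw [show u₁ * u₁ * d * (u₁ * u₁)⁻¹ = u₁ * (u₁ * d * u₁⁻¹) * u₁⁻¹ by group, hinvu d hd,
        show u₁ * d⁻¹ * u₁⁻¹ = (u₁ * d * u₁⁻¹)⁻¹ by group, hinvu d hd, inv_inv])
    rw [orderOf_coe]
    refine CfsgLib.Invol.orderOf_eq_two ?_ fun e => hev (e ▸ by simp)
    by_contra hne
    refine hd1 ((h.subgroup M).eq_one_of_commute' hne (k := k) ?_ hsq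
      ((hDMc ▸ Z.D_odd).of_dvd_nat (orderOf_dvd_natCard DM hd)))
    rw [← pow_two, ← pow_mul, mul_comm, pow_mul, ← hk, pow_orderOf_eq_one, one_pow]
  -- assemble
  set D := DM.map M.subtype
  have hDc : Nat.card D = Nat.card Db := by rw [card_map_of_injective M.subtype_injective, hDMc]
  have hu₁T : (u₁ : G) ∉ normalizer (T : Set G) := fun hh => Z.u_not (hπu ▸ (hNT u₁).2 hh)
  have hsqU : ∀ e : G, (he : e ∈ M) → e ∉ U → e * e ∈ U → orderOf (π ⟨e, he⟩) = 2 := fun e he heU hee =>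
    CfsgLib.Invol.orderOf_eq_two (by rw [← map_mul]; exact (hmemU _).2 hee) fun e1 => heU ((hmemU _).1 e1)
  refine ⟨D, u₁, Nat.card D + 1, ⟨hU2, hU1, hM, hns, hcore, hUT, hTM, hT2, hTmax, map_subtype_le DM, rfl,
    hDc ▸ Z.three_le, hDc ▸ Z.D_odd, ?_, ?_, ?_, u₁.2, hu₁2, ?_, hu₁T, ?_, ?_, ?_, ?_, ?_, ?_, ?_, ?_, ?_⟩⟩
  · -- cyclic
    haveI := Z.D_cyclic
    let f : DM →* Db := (π.comp DM.subtype).codRestrict Db fun d => hDMmap ▸ mem_map_of_mem π d.2
    have hf : Function.Injective f := fun x y e => Subtype.ext (inv_mul_eq_one.1 (hDMi _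
      (DM.mul_mem (DM.inv_mem x.2) y.2) (by
        rw [map_mul, map_inv, show π x = π y from congrArg Subtype.val e, inv_mul_cancel])))
    haveI : IsCyclic DM := isCyclic_of_injective f hf
    exact isCyclic_of_surjective _ (DM.equivMapOfInjective M.subtype M.subtype_injective).surjective
  · rintro _ ⟨d, hd, rfl⟩ t ht
    exact (mem_normalizer_iff.1 ((hNT d).1 (hDbK (hDMmap ▸ mem_map_of_mem π hd))) t).1 ht
  · intro g hg hgN
    obtain ⟨t', ht', d', hd', e⟩ := Z.decomp _ ((hNT ⟨g, hg⟩).2 hgN)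
    obtain ⟨d, hd, rfl⟩ := (hDMmap.symm ▸ hd' : d' ∈ DM.map π)
    refine ⟨g * (d : G)⁻¹, (hmemT (⟨g, hg⟩ * d⁻¹)).1 ?_, d, mem_map_of_mem _ hd, by group⟩
    rw [map_mul, map_inv, e, mul_inv_cancel_right]
    exact ht'
  · rintro _ ⟨d, hd, rfl⟩
    exact congrArg Subtype.val (hinvu d hd)
  · intro g hg hgN
    obtain ⟨t', ht', k', hk', e⟩ := Z.bruhat _ fun hh => hgN ((hNT ⟨g, hg⟩).1 hh)
    obtain ⟨t, rfl⟩ := QuotientGroup.mk'_surjective U' t'
    refine ⟨t, (hmemT t).1 ht', ((t : G) * u₁)⁻¹ * g,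
      ⟨M.mul_mem (M.inv_mem (M.mul_mem t.2 u₁.2)) hg, ?_⟩, by group⟩
    refine (hNT ((t * u₁)⁻¹ * ⟨g, hg⟩)).1 ?_
    rw [map_mul, map_inv, map_mul, hπu, e, inv_mul_cancel_left]
    exact hk'
  · intro e he heU g hg hge
    set eb := π ⟨e, hTM he⟩
    have heb : eb ≠ 1 := fun e1 => heU ((hmemU _).1 e1)
    obtain ⟨k, hk⟩ := IsPGroup.iff_orderOf.1 ((hT2.of_equiv (subgroupOfEquivOfLe hTM).symm).map π)
      ⟨eb, mem_map_of_mem π (mem_subgroupOf.2 he)⟩
    rw [orderOf_mk] at hk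
    have hk0 : k ≠ 0 := fun e0 => heb (orderOf_eq_one_iff.1 (by rw [hk, e0, pow_zero]))
    have hhalf := CfsgLib.Invol.orderOf_pow_half (isOfFinOrder_of_finite eb)
      (by rw [hk]; exact (Nat.even_pow.2 ⟨even_two, hk0⟩))
    have hTK : TM.map π ≤ K := fun x hx => by
      have hK' : K = normalizer ((TM.map π : Subgroup (M ⧸ U')) : Set (M ⧸ U')) := Z.K_eq
      rw [hK']; exact le_normalizer hx
    have hebK : eb ^ (orderOf eb / 2) ∈ K := pow_mem (hTK (mem_map_of_mem π (mem_subgroupOf.2 he))) _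
    refine (hNT ⟨g, hg⟩).1 ?_
    have := CfsgLib.StrongEmbed.mem_of_conj_mem Z.strong (g := (π ⟨g, hg⟩)⁻¹) hebK hhalf (by
      rw [inv_inv, ← conj_pow]
      refine pow_mem (hTK ?_) _
      rw [← map_inv, ← map_mul, ← map_mul, hmemT]
      exact hge)
    simpa using K.inv_mem this
  · intro e he hee t ht
    by_cases heU : e ∈ U
    · have ht' := (mem_normalizer_iff.1 ((hM ▸ hTM ht : t ∈ normalizer (U : Set G))) _).1 (U.inv_mem heU)
      rw [show e * t * e⁻¹ * t⁻¹ = e * (t * e⁻¹ * t⁻¹) by group]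
      exact U.mul_mem heU ht'
    · have hK' : K = normalizer ((TM.map π : Subgroup (M ⧸ U')) : Set (M ⧸ U')) := Z.K_eq
      obtain ⟨-, hcomm⟩ := Z.central (π ⟨e, hTM he⟩) (hK' ▸ le_normalizer ((hmemT _).2 he))
        (hsqU e (hTM he) heU hee)
      refine (hmemU (⟨e, hTM he⟩ * ⟨t, hTM ht⟩ * ⟨e, hTM he⟩⁻¹ * ⟨t, hTM ht⟩⁻¹)).1 ?_
      simp only [map_mul, map_inv]
      rw [(hcomm (π ⟨t, hTM ht⟩) ((hmemT _).2 ht)).eq]
      group
  · intro e he heU hee f hf hfU hff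
    have hK' : K = normalizer ((TM.map π : Subgroup (M ⧸ U')) : Set (M ⧸ U')) := Z.K_eq
    obtain ⟨d', ⟨hd', hde⟩, -⟩ := Z.regular (π ⟨e, hTM he⟩) (hK' ▸ le_normalizer ((hmemT _).2 he))
      (hsqU e (hTM he) heU hee) (π ⟨f, hTM hf⟩) (hK' ▸ le_normalizer ((hmemT _).2 hf))
      (hsqU f (hTM hf) hfU hff)
    obtain ⟨d, hd, rfl⟩ := (hDMmap.symm ▸ hd' : d' ∈ DM.map π)
    refine ⟨d, mem_map_of_mem _ hd, (hmemU (⟨f, hTM hf⟩⁻¹ * (d * ⟨e, hTM he⟩ * d⁻¹))).1 ?_⟩
    rw [map_mul, map_inv, map_mul, map_mul, map_inv, hde, inv_mul_cancel]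
  · rintro e he heU hee _ ⟨d, hd, rfl⟩ hde
    have hde' : (π ⟨e, hTM he⟩)⁻¹ * (π d * π ⟨e, hTM he⟩ * (π d)⁻¹) = 1 := by
      simp only [← map_mul, ← map_inv]
      exact (hmemU _).2 hde
    have hc' : Commute (π ⟨e, hTM he⟩) (π d) :=
      ((mul_inv_eq_iff_eq_mul.1 (inv_mul_eq_one.1 hde').symm)).symm
    have hdo : Odd (orderOf (π d)) := Z.D_odd.of_dvd_nat
      (orderOf_dvd_natCard Db (hDMmap ▸ mem_map_of_mem π hd))
    exact congrArg Subtype.val (hDMi d hd (hY.eq_one_of_commute (hsqU e (hTM he) heU hee) hc' hdo))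
  · rintro _ ⟨d, hd, rfl⟩ hd1 g hg hgd
    have hd1' : π d ≠ 1 := fun e => hd1 (congrArg Subtype.val (hDMi d hd e))
    have hcm : Commute (π ⟨g, hg⟩) (π d) := by
      have : π (⟨g, hg⟩ * d * ⟨g, hg⟩⁻¹ * d⁻¹) = 1 := (hmemU _).2 hgd
      rw [map_mul, map_mul, map_mul, map_inv, map_inv] at this
      exact mul_inv_eq_iff_eq_mul.1 (mul_inv_eq_one.1 this)
    obtain ⟨w', hw', d', hd', e⟩ :=
      hDMlift _ (Z.cent_D (π d) (hDMmap ▸ mem_map_of_mem π hd) hd1' _ hcm)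
    exact ⟨w', hw', d', mem_map_of_mem _ hd', congrArg Subtype.val e⟩
  · intro e he heU hee
    have hK' : K = normalizer ((TM.map π : Subgroup (M ⧸ U')) : Set (M ⧸ U')) := Z.K_eq
    set eb := π ⟨e, hTM he⟩
    have hebK : eb ∈ K := hK' ▸ le_normalizer ((hmemT _).2 he)
    have heb2 : orderOf eb = 2 := hsqU e (hTM he) heU hee
    have hv2 : orderOf (w * eb * w) = 2 := CfsgLib.StrongEmbed.orderOf_link heb2 Z.u_ord
    have hvK : w * eb * w ∉ K := fun hh => Z.u_not (CfsgLib.StrongEmbed.link_mem Z.strong hebK heb2 Z.u_ord hh)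
    set x₀ : M := ⟨e, hTM he⟩ * (u₁ * ⟨e, hTM he⟩ * u₁)
    have hx₀ : π x₀ = eb * (w * eb * w) := by simp only [x₀, map_mul, hπu]; rfl
    have hodd := CfsgLib.StrongEmbed.odd_mul Z.strong hebK heb2 hv2 hvK
    obtain ⟨j, m, hm, hom⟩ := Nat.exists_eq_two_pow_mul_odd (isOfFinOrder_of_finite x₀).orderOf_pos.ne'
    refine ⟨(x₀ ^ 2 ^ j : M), SetLike.coe_mem _, ?_, fun e1 => ?_, ?_⟩
    · rw [orderOf_coe, orderOf_pow' x₀ (by positivity), hom, Nat.gcd_mul_right_left,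
        Nat.mul_div_cancel_left _ (by positivity)]
      exact hm
    · have e2 : (π x₀) ^ 2 ^ j = 1 := by
        rw [← map_pow, show x₀ ^ 2 ^ j = 1 from Subtype.ext e1, map_one]
      have e3 : eb * (w * eb * w) = 1 := hx₀ ▸ eq_one_of_odd_of_pow (hx₀.symm ▸ hodd) e2
      exact hvK (by rw [← inv_eq_of_mul_eq_one_right e3]; exact K.inv_mem hebK)
    · refine (hmemU (⟨e, hTM he⟩ * x₀ ^ 2 ^ j * ⟨e, hTM he⟩⁻¹ * x₀ ^ 2 ^ j)).1 ?_
      simp only [map_mul, map_inv, map_pow, hx₀]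
      rw [← conj_pow, CfsgLib.Invol.conj_mul_inv heb2 hv2, inv_pow, inv_mul_cancel]
  · -- order
    have hMc : Nat.card (M ⧸ U') * Nat.card U = Nat.card M := by
      rw [← Nat.card_congr (subgroupOfEquivOfLe hUM).toEquiv]
      exact (card_eq_card_quotient_mul_card_subgroup U').symm
    have hTb : Nat.card (TM.map π) * Nat.card U = Nat.card T := by
      have e3 : (π.comp TM.subtype).ker = U'.subgroupOf TM := by ext s; exact QuotientGroup.eq_one_iff _
      have e4 : (π.comp TM.subtype).range = TM.map π := by rw [MonoidHom.range_comp, range_subtype]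
      rw [← e4, ← index_ker, e3, ← Nat.card_congr (subgroupOfEquivOfLe hUM).toEquiv,
        ← Nat.card_congr (subgroupOfEquivOfLe hUTM).toEquiv, mul_comm, card_mul_index]
      exact Nat.card_congr (subgroupOfEquivOfLe hTM).toEquiv
    have hTK : TM.map π ≤ K := fun x hx => by
      have hK' : K = normalizer ((TM.map π : Subgroup (M ⧸ U')) : Set (M ⧸ U')) := Z.K_eq
      rw [hK']; exact le_normalizer hx
    have hKc : Nat.card K = Nat.card (TM.map π) * Nat.card Db := by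
      have hdisj : ∀ x, x ∈ TM.map π → x ∈ Db → x = 1 := fun x hx hx' =>
        eq_one_of_mem_inf Z.two Z.D_odd hx hx'
      refine ((Nat.card_congr (Equiv.ofBijective
        (fun p : (TM.map π) × Db => (⟨p.1 * p.2, K.mul_mem (hTK p.1.2) (hDbK p.2.2)⟩ : K)) ⟨?_, ?_⟩)).symm).trans
        (Nat.card_prod _ _)
      · intro p p' e
        replace e : (p.1 : M ⧸ U') * p.2 = p'.1 * p'.2 := congrArg Subtype.val e
        have e' : (p'.1 : M ⧸ U')⁻¹ * p.1 = p'.2 * (p.2 : M ⧸ U')⁻¹ := by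
          rw [← mul_inv_cancel_right (p.1 : M ⧸ U') (p.2 : M ⧸ U'), e]; group
        have h1 := hdisj _ ((TM.map π).mul_mem ((TM.map π).inv_mem p'.1.2) p.1.2)
          (e' ▸ Db.mul_mem p'.2.2 (Db.inv_mem p.2.2))
        refine Prod.ext (Subtype.ext (inv_mul_eq_one.1 h1).symm) (Subtype.ext ?_)
        rw [h1] at e'
        exact (mul_inv_eq_one.1 e'.symm).symm
      · intro k
        obtain ⟨t, ht, d, hd, e⟩ := Z.decomp _ k.2
        exact ⟨(⟨t, ht⟩, ⟨d, hd⟩), Subtype.ext e.symm⟩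
    have hidx : Nat.card (M ⧸ U') = (Nat.card (TM.map π) + 1) * (Nat.card (TM.map π) * Nat.card Db) := by
      rw [← hKc, ← card_mul_index K, Z.card_index, mul_comm]
    rw [hDc, ← hMc, ← hTb, hidx]
    ring
  · -- `q` is a power of two
    have hK' : K = normalizer ((TM.map π : Subgroup (M ⧸ U')) : Set (M ⧸ U')) := Z.K_eq
    let W : Subgroup (M ⧸ U') :=
      { carrier := {x | x ∈ TM.map π ∧ x * x = 1 ∧ ∀ t ∈ TM.map π, Commute x t}
        one_mem' := ⟨one_mem _, one_mul _, fun t _ => Commute.one_left t⟩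
        mul_mem' := fun {a b} ha hb => ⟨mul_mem ha.1 hb.1, by
          rw [show a * b * (a * b) = a * (b * a) * b by group, (hb.2.2 a ha.1).eq,
            show a * (a * b) * b = (a * a) * (b * b) by group, ha.2.1, hb.2.1, one_mul],
          fun t ht => (ha.2.2 t ht).mul_left (hb.2.2 t ht)⟩
        inv_mem' := fun {a} ha => ⟨inv_mem ha.1, by rw [← mul_inv_rev, ha.2.1, inv_one],
          fun t ht => (ha.2.2 t ht).inv_left⟩ }
    have hWK : ∀ x ∈ W, x ∈ K := fun x hx => by rw [hK']; exact le_normalizer hx.1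
    have hW2 : IsPGroup 2 W := fun x => ⟨1, Subtype.ext (by
      rw [pow_one, pow_two]; exact x.2.2.1)⟩
    obtain ⟨a, haK, ha2⟩ := CfsgLib.StrongEmbed.exists_invol Z.strong
    have haW : ∀ d ∈ Db, d * a * d⁻¹ ∈ W := fun d hd => by
      have hdK : d * a * d⁻¹ ∈ K := K.mul_mem (K.mul_mem (hDbK hd) haK) (K.inv_mem (hDbK hd))
      have hd2 : orderOf (d * a * d⁻¹) = 2 := by rw [CfsgLib.Invol.orderOf_conj_eq, ha2]
      exact ⟨(Z.central _ hdK hd2).1, CfsgLib.Invol.mul_self_eq_one hd2, (Z.central _ hdK hd2).2⟩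
    let f : Option Db → W := fun o => o.elim 1 fun d => ⟨d * a * (d : M ⧸ U')⁻¹, haW d d.2⟩
    have hf : Function.Bijective f := by
      constructor
      · rintro (_ | d) (_ | d') e
        · rfl
        · exact absurd (conj_eq_one_iff.1 (congrArg Subtype.val e).symm) (CfsgLib.Invol.ne_one ha2)
        · exact absurd (conj_eq_one_iff.1 (congrArg Subtype.val e)) (CfsgLib.Invol.ne_one ha2)
        · have hdK : (d : M ⧸ U') * a * (d : M ⧸ U')⁻¹ ∈ K :=
            K.mul_mem (K.mul_mem (hDbK d.2) haK) (K.inv_mem (hDbK d.2))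
          obtain ⟨c, -, huniq⟩ := Z.regular a haK ha2 _ hdK (by rw [CfsgLib.Invol.orderOf_conj_eq, ha2])
          exact congrArg some (Subtype.ext ((huniq d ⟨d.2, rfl⟩).trans
            (huniq d' ⟨d'.2, (congrArg Subtype.val e).symm⟩).symm))
      · intro x
        by_cases hx1 : (x : M ⧸ U') = 1
        · exact ⟨none, Subtype.ext hx1.symm⟩
        · obtain ⟨c, ⟨hc, hce⟩, -⟩ := Z.regular a haK ha2 x (hWK x x.2)
            (CfsgLib.Invol.orderOf_eq_two x.2.2.1 hx1)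
          exact ⟨some ⟨c, hc⟩, Subtype.ext hce⟩
    have hWc : Nat.card W = Nat.card Db + 1 := by
      rw [← Nat.card_congr (Equiv.ofBijective f hf), Finite.card_option]
    obtain ⟨k, hk⟩ := hW2.exists_card_eq
    refine ⟨k, ?_, by rw [hDc, ← hWc, hk]⟩
    by_contra hlt
    have h3 := Z.three_le
    have : 2 ^ k ≤ 2 ^ 1 := Nat.pow_le_pow_right two_pos (by omega)
    omega

end CfsgLib.CIT
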