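import Cfsg.Agent.CITGroups.Induction
import Cfsg.Agent.CITGroups.FourCase

/-!
# The trichotomy for simple CIT groups
-/

set_option autoImplicit false
set_option linter.style.haveILetI false
set_option linter.unusedSectionVars false

namespace CfsgLib.CIT

open Subgroup

universe u

/-- The three outcomes. -/
def Outcome (G : Type u) [Group G] : Prop :=
  (∃ (K T D : Subgroup G) (w : G), ZData K T D w) ∨
    (NoFpf G ∧ ∃ (F : Type) (_ : Field F) (_ : Fintype F),
      Odd (Fintype.card F) ∧ Nonempty (G ≃* Matrix.ProjectiveSpecialLinearGroup (Fin 2) F)) ∨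
    ((¬ ∃ K : Subgroup G, Cfsg.IsStronglyEmbedded K) ∧
      ∃ (q : ℕ) (M X V E T D : Subgroup G) (w w' : G), Second q M X V E T D w w')

variable (hfpf : ∀ (G : Type u) [Group G] [Finite G], IsCIT G →
  ∀ (q : ℕ) (M X V E T D : Subgroup G) (w w' : G), Second q M X V E T D w w' → NoFpf G)

theorem pCore_eq_bot_of_simple {G : Type u} [Group G] [Finite G] [IsSimpleGroup G]
    (hns : ¬ Group.IsSolvable G) : Cfsg.pCore 2 G = ⊥ := by
  haveI : Fact (Nat.Prime 2) := ⟨Nat.prime_two⟩
  haveI := CfsgLib.Solvable.pCore_normal (G := G) 2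
  refine (IsSimpleGroup.eq_bot_or_eq_top_of_normal _ inferInstance).resolve_right fun e => hns ?_
  have hp := CfsgLib.Solvable.isPGroup_pCore (G := G) 2
  haveI := ((e ▸ hp : IsPGroup 2 (⊤ : Subgroup G)).of_equiv topEquiv).isNilpotent
  infer_instance

include hfpf in
theorem outcome_aux : ∀ (n : ℕ) (G : Type u) [Group G] [Finite G], Nat.card G = n → IsSimpleGroup G →
    IsCIT G → ¬ Group.IsSolvable G → Outcome G := by
  intro n
  induction n using Nat.strong_induction_on with
  | _ n ih =>
    intro G _ _ hn hsimp h hns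
    haveI := hsimp
    by_cases hse : ∃ K : Subgroup G, Cfsg.IsStronglyEmbedded K
    · obtain ⟨K, hK⟩ := hse
      obtain ⟨a, b, ha, hb, hab, hc⟩ := h.exists_klein hns
      obtain ⟨T, D, w, Z⟩ := exists_zdata h hK ha hb hab hc
      exact Or.inl ⟨K, T, D, w, Z⟩
    refine Or.inr ?_
    by_cases hloc : ∀ R : Subgroup G, IsPGroup 2 R → R ≠ ⊥ → Group.IsSolvable (normalizer (R : Set G))
    · exact Or.inl (four_case h hns hloc hse)
    push Not at hloc
    refine Or.inr ⟨hse, exists_second h (good_of_smaller h fun Y _ _ hlt hY hYc hYns => ?_)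
      (pCore_eq_bot_of_simple hns) hse hloc⟩
    rcases ih _ (hn ▸ hlt) Y rfl hY hYc hYns with ⟨K, T, D, w, Z⟩ | ⟨hno, -⟩ |
      ⟨-, q, M, X, V, E, T, D, w, w', hS⟩
    · exact Or.inl ⟨K, Z.strong⟩
    · exact Or.inr hno
    · exact Or.inr (hfpf Y hYc q M X V E T D w w' hS)

include hfpf in
/-- A simple nonsolvable CIT group has a strongly embedded subgroup, is a `PSL₂` in odd characteristic, or
has two 2-locals as in `Second`. -/
theorem outcome {G : Type u} [Group G] [Finite G] [IsSimpleGroup G] (h : IsCIT G)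
    (hns : ¬ Group.IsSolvable G) : Outcome G :=
  outcome_aux hfpf (Nat.card G) G rfl inferInstance h hns

end CfsgLib.CIT
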