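import Cfsg.Agent.CITGroups.QFour
import Cfsg.Agent.CITGroups.Analysis

/-!
# The configuration with `q = 4`: the Sylow 2-subgroup and the involutions

`T` is a Sylow 2-subgroup of `G`, the centraliser of every nontrivial element of `V ⊓ E` is `T`, and all
involutions are conjugate.
-/

set_option autoImplicit false
set_option linter.style.haveILetI false
set_option linter.unusedSectionVars false
set_option linter.unusedVariables false

namespace CfsgLib.CIT

open Subgroup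

universe u

variable {G : Type u} [Group G] [Finite G] {q : ℕ} {M X V E T D : Subgroup G} {u u' : G}

namespace Half

theorem cj_T (H : Half q M V E T D u) {g : G} (hg : g ∈ normalizer (T : Set G)) {t : G} (ht : t ∈ T) :
    cj g t ∈ T :=
  (mem_normalizer_iff.1 hg t).1 ht

theorem le_or_le (H : Half q M V E T D u) {A : Subgroup G} (hA : A ≤ T) (hA2 : ∀ a ∈ A, a * a = 1) :
    A ≤ V ∨ A ≤ E := by
  by_contra hne
  rw [not_or, SetLike.not_le_iff_exists, SetLike.not_le_iff_exists] at hne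
  obtain ⟨⟨a, ha, haV⟩, b, hb, hbE⟩ := hne
  have haE := (H.invols a (hA ha) (hA2 a ha)).resolve_left haV
  have hbV := (H.invols b (hA hb) (hA2 b hb)).resolve_right hbE
  rcases H.invols _ (hA (A.mul_mem ha hb)) (hA2 _ (A.mul_mem ha hb)) with h1 | h1
  · exact haV (by simpa using V.mul_mem h1 (V.inv_mem hbV))
  · exact hbE (by simpa using E.mul_mem (E.inv_mem haE) h1)

theorem sq_mem (H : Half q M V E T D u) {t : G} (ht : t ∈ T) : t * t ∈ V ⊓ E := by
  obtain ⟨v, hv, e, he, rfl⟩ := H.decomp_T t ht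
  have hz := H.comm_mem he hv
  have e1 : v * e * (v * e) = v * (cj e v * v⁻¹) * v := by
    have h2 : e⁻¹ = e := inv_eq_of_mul_eq_one_right (H.E_elem e he)
    calc v * e * (v * e) = v * (e * v * e⁻¹) * (e * e) := by group
      _ = v * (cj e v * v⁻¹) * v := by rw [H.E_elem e he, mul_one, cj]; group
  rw [e1, mul_assoc, ← (H.Z_central hz (H.V_le hv)).eq, ← mul_assoc, H.V_elem v hv, one_mul]
  exact hz

theorem cent_in_M (H : Half q M V E T D u) (h : IsCIT G) {z g : G} (hz : z ∈ V ⊓ E) (hz1 : z ≠ 1) (hg : g ∈ M)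
    (hc : Commute g z) : g ∈ T := by
  set P := M ⊓ centralizer ({z} : Set G) with hPdef
  have hTP : T ≤ P := fun t ht => ⟨H.T_le ht, mem_centralizer_self_iff.2 (H.Z_central hz ht).symm⟩
  have hP2 : IsPGroup 2 P :=
    (h z (CfsgLib.Invol.orderOf_eq_two (H.V_elem z hz.1) hz1)).to_le inf_le_right
  obtain ⟨m, -, hmT⟩ := H.T_maximal (P := P) inf_le_left hP2
  have hle : Nat.card P ≤ Nat.card T :=
    Nat.card_le_card_of_injective (fun x : P => (⟨cj m x, hmT x x.2⟩ : T)) fun a b e => Subtype.ext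
      ((MulAut.conj m).injective (congrArg Subtype.val e))
  rw [eq_of_le_of_card_ge hTP hle]
  exact ⟨hg, mem_centralizer_self_iff.2 hc.symm⟩

theorem orbit_V (H : Half 4 M V E T D u) (h : IsCIT G) {z v : G} (hz : z ∈ V ⊓ E) (hz1 : z ≠ 1) (hv : v ∈ V)
    (hv1 : v ≠ 1) : ∃ m ∈ M, cj m z = v := by
  classical
  have hval : ∀ a b : M, QuotientGroup.leftRel (T.subgroupOf M) a b → cj (a : G) z = cj (b : G) z := by
    intro a b hab
    rw [QuotientGroup.leftRel_apply, mem_subgroupOf] at hab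
    rw [show (b : G) = a * ((a⁻¹ * b : M) : G) by simp, cj_mul, cj_fix_iff.2 (H.Z_central hz hab)]
  let f : M ⧸ T.subgroupOf M → {x : V // x ≠ 1} := fun c => Quotient.liftOn' c
    (fun m => ⟨⟨cj (m : G) z, H.V_conj m.2 hz.1⟩, fun e => hz1 (cj_eq_one.1 (congrArg Subtype.val e))⟩)
    (fun a b hab => Subtype.ext (Subtype.ext (hval a b hab)))
  have hf : Function.Injective f := by
    intro c c'
    induction c using Quotient.inductionOn' with
    | h a =>
    induction c' using Quotient.inductionOn' with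
    | h b =>
    intro e
    have e' : cj (a : G) z = cj (b : G) z := congrArg Subtype.val (congrArg Subtype.val e)
    refine QuotientGroup.eq.2 (mem_subgroupOf.2 ?_)
    refine H.cent_in_M h hz hz1 (a⁻¹ * b).2 (cj_fix_iff.1 ?_)
    rw [show ((a⁻¹ * b : M) : G) = (a : G)⁻¹ * b from rfl, cj_mul, ← e', cj_inv_left]
  have hc : Nat.card (M ⧸ T.subgroupOf M) = Nat.card {x : V // x ≠ 1} := by
    have h1 := (T.subgroupOf M).card_mul_index
    rw [Nat.card_congr (subgroupOfEquivOfLe H.T_le).toEquiv, H.card_T, H.card_M] at h1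
    haveI : Fintype V := Fintype.ofFinite _
    rw [← index_eq_card, Nat.card_eq_fintype_card, Fintype.card_subtype_compl, Fintype.card_subtype_eq,
      ← Nat.card_eq_fintype_card, H.card_V]
    norm_num at h1 ⊢
    omega
  obtain ⟨c, hc'⟩ := ((Nat.bijective_iff_injective_and_card f).2 ⟨hf, hc⟩).2
    ⟨⟨v, hv⟩, fun e => hv1 (congrArg Subtype.val e)⟩
  induction c using Quotient.inductionOn' with
  | h a => exact ⟨a, a.2, congrArg Subtype.val (congrArg Subtype.val hc')⟩

end Half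

namespace Second

theorem M_inf_X (S : Second q M X V E T D u u') {g : G} (hM : g ∈ M) (hX : g ∈ X) :
    g ∈ normalizer (T : Set G) := by
  refine mem_normalizer_of_conj_le fun t ht => ?_
  obtain ⟨v, hv, e, he, rfl⟩ := S.left.decomp_T t ht
  rw [show g * (v * e) * g⁻¹ = cj g v * cj g e from cj_prod g v e]
  exact T.mul_mem (S.left.V_le (S.left.V_conj hM hv)) (S.left.E_le (S.right.V_conj hX he))

theorem mem_X (S : Second q M X V E T D u u') {g : G} (hM : g ∈ M) (hN : g ∈ normalizer (T : Set G)) :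
    g ∈ X := by
  obtain ⟨t, ht, d, hd, rfl⟩ := S.left.normalizer_T g hM hN
  exact mul_mem (S.right.T_le ht) (S.right.D_le hd)

theorem T_of_two (S : Second q M X V E T D u u') {g : G} (hM : g ∈ M) (hX : g ∈ X) {k : ℕ}
    (hk : g ^ 2 ^ k = 1) : g ∈ T :=
  S.left.mem_T_of_two hM (S.M_inf_X hM hX) hk

theorem exists_Z (S : Second q M X V E T D u u') : ∃ z ∈ V ⊓ E, z ≠ 1 := by
  haveI : Nontrivial (V ⊓ E : Subgroup G) :=
    Finite.one_lt_card_iff_nontrivial.1 (by rw [S.left.card_inf]; have := S.left.four_le; omega)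
  obtain ⟨⟨z, hz⟩, h1⟩ := exists_ne (1 : ↥(V ⊓ E))
  exact ⟨z, hz, fun e => h1 (Subtype.ext e)⟩

theorem swapZ (S : Second q M X V E T D u u') {z : G} (hz : z ∈ V ⊓ E) : z ∈ E ⊓ V := ⟨hz.2, hz.1⟩

/-- Every involution of `M` is `M X`-conjugate to a given element of `V ⊓ E`. -/
theorem invol_M (S : Second 4 M X V E T D u u') (h : IsCIT G) {z i : G} (hz : z ∈ V ⊓ E) (hz1 : z ≠ 1)
    (hi : i ∈ M) (hi2 : orderOf i = 2) : ∃ m ∈ M, ∃ x ∈ X, cj (m * x) z = i := by
  have hP : IsPGroup 2 (zpowers i) := IsPGroup.of_card (n := 1) (by rw [Nat.card_zpowers, hi2, pow_one])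
  obtain ⟨m, hm, hmT⟩ := S.left.T_maximal ((zpowers_le).2 hi) hP
  have hj := hmT i (mem_zpowers i)
  have hjj : cj m i * cj m i = 1 := by rw [← cj_prod, CfsgLib.Invol.mul_self_eq_one hi2]; simp [cj]
  have hj1 : cj m i ≠ 1 := fun e => CfsgLib.Invol.ne_one hi2 (cj_eq_one.1 e)
  rcases S.left.invols _ hj hjj with hV | hE
  · obtain ⟨m', hm', e⟩ := S.left.orbit_V h hz hz1 hV hj1
    exact ⟨m⁻¹ * m', mul_mem (inv_mem hm) hm', 1, X.one_mem, by rw [mul_one, cj_mul, e, cj_inv_left]⟩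
  · obtain ⟨x, hx, e⟩ := S.right.orbit_V h (S.swapZ hz) hz1 hE hj1
    exact ⟨m⁻¹, inv_mem hm, x, hx, by rw [cj_mul, e, cj_inv_left]⟩

theorem fixesV (S : Second q M X V E T D u u') {g : G} (hg : ∀ v ∈ V, cj g v ∈ V) : g ∈ M :=
  S.left.M_eq.ge (mem_normalizer_of_conj_le hg)

/-- An element normalising `T` but outside `M` interchanges `V` and `E`. -/
theorem swaps (S : Second q M X V E T D u u') {g : G} (hg : g ∈ normalizer (T : Set G)) (hgM : g ∉ M) :
    (∀ v ∈ V, cj g v ∈ E) ∧ ∀ e ∈ E, cj g e ∈ V := by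
  have key : ∀ {M' X' V' E' : Subgroup G} {w w' : G}, Second q M' X' V' E' T D w w' →
      g ∉ M' → ∀ v ∈ V', cj g v ∈ E' := by
    intro M' X' V' E' w w' S' hgM' v hv
    have hle : V'.map (MulAut.conj g).toMonoidHom ≤ T := by
      rintro _ ⟨x, hx, rfl⟩; exact S'.left.cj_T hg (S'.left.V_le hx)
    rcases S'.left.le_or_le hle (by
        rintro _ ⟨x, hx, rfl⟩
        rw [← map_mul, S'.left.V_elem x hx, map_one]) with h1 | h1
    · exact absurd (S'.fixesV fun x hx => h1 ⟨x, hx, rfl⟩) hgM'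
    · exact h1 ⟨v, hv, rfl⟩
  exact ⟨key S hgM, key S.symm fun hgX => hgM (S.symm.mem_X hgX hg)⟩

/-- `T` is normalised only by `M ⊓ X`. -/
theorem normalizer_le (S : Second 4 M X V E T D u u') (h : IsCIT G) {n : G}
    (hn : n ∈ normalizer (T : Set G)) : n ∈ M := by
  by_contra hnM
  have HL := S.left
  have HR := S.right
  obtain ⟨hnV, hnE⟩ := S.swaps hn hnM
  -- an element normalising `D`
  have hswap2 : ∀ g ∈ normalizer (T : Set G), g ∉ M → ∀ g' ∈ normalizer (T : Set G), g' ∉ M → g * g' ∈ M := by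
    intro g hg hgM g' hg' hgM'
    refine S.fixesV fun v hv => ?_
    rw [cj_mul]
    exact (S.swaps hg hgM).2 _ ((S.swaps hg' hgM').1 v hv)
  have hDN : D ≤ normalizer (T : Set G) := fun d hd => mem_normalizer_of_conj_le (HL.D_norm_T d hd)
  have hcop : (Nat.card D).Coprime (Nat.card T) := by rw [HL.card_D, HL.card_T]; norm_num
  have hle : D.map (MulAut.conj n).toMonoidHom ≤ D ⊔ T := by
    rintro _ ⟨d, hd, rfl⟩
    show n * d * n⁻¹ ∈ D ⊔ T
    have hN : n * d * n⁻¹ ∈ normalizer (T : Set G) := mul_mem (mul_mem hn (hDN hd)) (inv_mem hn)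
    have hM : n * d * n⁻¹ ∈ M := by
      refine S.fixesV fun v hv => ?_
      have hni : n⁻¹ ∉ M := fun hh => hnM (by simpa using inv_mem hh)
      rw [cj_mul, cj_mul]
      exact hnE _ (HR.V_conj (HR.D_le hd) ((S.swaps (inv_mem hn) hni).1 v hv))
    obtain ⟨t, ht, d', hd', e⟩ := HL.normalizer_T _ hM hN
    rw [e]
    exact mul_mem (mem_sup_right ht) (mem_sup_left hd')
  obtain ⟨k, hk, hke⟩ := CfsgLib.SZ.conj_rel hDN hcop
    (Or.inr (haveI : Fact (Nat.Prime 2) := ⟨Nat.prime_two⟩; haveI := HL.T_two.isNilpotent; inferInstance))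
    hle (card_map_of_injective (f := (MulAut.conj n).toMonoidHom) (MulAut.conj n).injective)
  obtain ⟨τ, hτdef⟩ : ∃ τ, τ = k⁻¹ * n := ⟨_, rfl⟩
  have hkN : k ∈ normalizer (T : Set G) := le_normalizer hk
  have hτN : τ ∈ normalizer (T : Set G) := hτdef ▸ mul_mem (inv_mem hkN) hn
  have hτM : τ ∉ M := fun hh => hnM (by simpa [hτdef] using mul_mem (HL.T_le hk) hh)
  have hτD : ∀ d ∈ D, cj τ d ∈ D := by
    intro d hd
    have h1 : cj n d ∈ D.map (MulAut.conj n).toMonoidHom := ⟨d, hd, rfl⟩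
    rw [← hke] at h1
    obtain ⟨d', hd', e⟩ := h1
    rw [hτdef, cj_mul, ← show cj k d' = cj n d from e, cj_inv_left]
    exact hd'
  obtain ⟨c, hc, hc1⟩ := D.bot_or_exists_ne_one.resolve_left fun e => by
    have := HL.card_D
    rw [e, card_bot] at this
    omega
  -- `τ` is an involution inverting `D`
  have hττD : τ * τ ∈ D := by
    obtain ⟨t, ht, d, hd, e⟩ := HL.normalizer_T _ (hswap2 τ hτN hτM τ hτN hτM) (mul_mem hτN hτN)
    suffices t = 1 by rw [e, this, one_mul]; exact hd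
    by_contra ht1
    have h1 : cj t c ∈ D := by
      have h2 : cj (τ * τ) c ∈ D := by rw [cj_mul]; exact hτD _ (hτD c hc)
      rwa [e, cj_mul, show cj d c = c from cj_fix_iff.2 (HL.D_comm hd hc)] at h2
    have h3 : cj t c * c⁻¹ = 1 := eq_one_of_mem_inf HL.T_two HL.D_odd (by
      rw [show cj t c * c⁻¹ = t * cj c t⁻¹ by simp only [cj]; group]
      exact T.mul_mem ht (HL.cj_T (hDN hc) (T.inv_mem ht))) (D.mul_mem h1 (D.inv_mem hc))
    obtain ⟨j, hj⟩ := HL.T_two ⟨t, ht⟩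
    exact hc1 (h.eq_one_of_commute' ht1 (congrArg Subtype.val hj) (cj_fix_iff.1 (mul_inv_eq_one.1 h3))
      (HL.D_odd.of_dvd_nat (orderOf_dvd_natCard D hc)))
  have hττ : τ * τ = 1 := by
    rcases h.odd_or_two_pow τ with hodd | ⟨j, hj⟩
    · exfalso
      obtain ⟨i, hi⟩ := hodd
      have : τ = (τ * τ) ^ (i + 1) := by
        rw [← _root_.pow_two, ← pow_mul, show 2 * (i + 1) = orderOf τ + 1 by omega, pow_succ, pow_orderOf_eq_one,
          one_mul]
      exact hτM (this ▸ HL.D_le (D.pow_mem hττD _))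
    · refine eq_one_of_odd_of_pow (k := j) (HL.D_odd.of_dvd_nat (orderOf_dvd_natCard D hττD)) ?_
      rw [← _root_.pow_two, ← pow_mul, mul_comm, pow_mul, ← hj, pow_orderOf_eq_one, one_pow]
  have hτ2 : orderOf τ = 2 := CfsgLib.Invol.orderOf_eq_two hττ fun e => hτM (e ▸ M.one_mem)
  have hτi : τ⁻¹ = τ := CfsgLib.Invol.inv_eq_self hτ2
  have hτinv : ∀ d ∈ D, cj τ d = d⁻¹ := fun d hd =>
    h.inverts HL.D_odd hτ2 (mem_normalizer_of_conj_le hτD) hd
  have hττc : ∀ x, cj τ (cj τ x) = x := fun x => by rw [← cj_mul, hττ, cj_one]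
  obtain ⟨hτV, hτE⟩ := S.swaps hτN hτM
  have hτZ : ∀ z ∈ V ⊓ E, cj τ z ∈ V ⊓ E := fun z hz => ⟨hτE z hz.2, hτV z hz.1⟩
  -- its fixed point in `V ⊓ E`
  obtain ⟨z₀, hz₀, hz₀1, hτz₀⟩ : ∃ z ∈ V ⊓ E, z ≠ 1 ∧ cj τ z = z := by
    classical
    obtain ⟨z, hz, hz1⟩ := S.exists_Z
    by_cases hfz : cj τ z = z
    · exact ⟨z, hz, hz1, hfz⟩
    have hp : z * cj τ z ∈ V ⊓ E := (V ⊓ E).mul_mem hz (hτZ z hz)
    refine ⟨z * cj τ z, hp, fun e => hfz ?_, ?_⟩
    · rw [← inv_eq_of_mul_eq_one_right e, inv_eq_of_mul_eq_one_right (HL.V_elem z hz.1)]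
    · rw [cj_prod, hττc, (comm_of_sq HL.V_elem (hτZ z hz).1 hz.1).eq]
  have huniq : ∀ z ∈ V ⊓ E, cj τ z = z → z = 1 ∨ z = z₀ := by
    intro z hz e
    by_cases hz1 : z = 1
    · exact Or.inl hz1
    obtain ⟨d, hd, rfl⟩ := HL.exists_D h hz₀ hz₀1 hz hz1
    refine Or.inr ?_
    have e1 : cj d⁻¹ z₀ = cj d z₀ := by
      rw [← e, ← cj_mul τ, show τ * d = d⁻¹ * τ from mul_inv_eq_iff_eq_mul.1 (hτinv d hd), cj_mul, hτz₀]
    have h2 : d = 1 := eq_one_of_odd_of_pow (k := 1) (HL.D_odd.of_dvd_nat (orderOf_dvd_natCard D hd)) (by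
      have := HL.cj_eq h (D.inv_mem hd) hd hz₀.1 hz₀1 e1
      rw [pow_one, _root_.pow_two]
      nth_rw 1 [← this]
      exact inv_mul_cancel d)
    rw [h2, cj_one]
  have hτc : ∀ b ∈ T, τ * b * τ ∈ T := fun b hb => by
    have := HL.cj_T hτN hb
    rwa [cj, hτi] at this
  -- the centraliser of `z₀`
  let P : Subgroup G :=
    { carrier := {g | g ∈ T ∨ g * τ ∈ T}
      one_mem' := Or.inl T.one_mem
      mul_mem' := fun {a b} ha hb => by
        rcases ha with ha | ha <;> rcases hb with hb | hb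
        · exact Or.inl (T.mul_mem ha hb)
        · exact Or.inr (by rw [mul_assoc]; exact T.mul_mem ha hb)
        · refine Or.inr ?_
          rw [show a * b * τ = (a * τ) * (τ⁻¹ * b * τ) by group, hτi]
          exact T.mul_mem ha (hτc b hb)
        · refine Or.inl ?_
          rw [show a * b = (a * τ) * (τ⁻¹ * (b * τ) * τ⁻¹) by group, hτi]
          exact T.mul_mem ha (hτc _ hb)
      inv_mem' := fun {a} ha => by
        rcases ha with ha | ha
        · exact Or.inl (T.inv_mem ha)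
        · refine Or.inr ?_
          rw [show a⁻¹ * τ = τ * (a * τ)⁻¹ * τ by rw [mul_inv_rev, hτi, ← mul_assoc, hττ, one_mul]]
          exact hτc _ (T.inv_mem ha) }
  have hTP : ∀ t ∈ T, t ∈ P := fun t ht => Or.inl ht
  have hτP : τ ∈ P := Or.inr (by rw [hττ]; exact T.one_mem)
  have hPC : ∀ g ∈ P, Commute g z₀ := by
    rintro g (hg | hg)
    · exact HL.Z_central hz₀ hg
    · rw [show g = (g * τ) * τ by rw [mul_assoc, hττ, mul_one]]
      exact (HL.Z_central hz₀ hg).mul_left (cj_fix_iff.1 hτz₀)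
  have hA16 : ∀ A : Subgroup G, A ≤ P → (∀ a ∈ A, a * a = 1) → Nat.card A = 16 → A ≤ V ∨ A ≤ E := by
    intro A hAP hA2 hA
    by_cases hAT : A ≤ T
    · exact HL.le_or_le hAT hA2
    exfalso
    obtain ⟨a, ha, haT⟩ := SetLike.not_le_iff_exists.1 hAT
    have haτ : a * τ ∈ T := (hAP ha).resolve_left haT
    set B := A ⊓ T with hBdef
    have hB : Nat.card B ≤ 4 := by
      have hBZ : B ≤ V ⊓ E := by
        intro x hx
        have hfix : cj a x = x := cj_fix_iff.2 (comm_of_sq hA2 ha hx.1)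
        have hax : cj a x = cj (a * τ) (cj τ x) := by rw [← cj_mul, mul_assoc, hττ, mul_one]
        rcases HL.le_or_le (A := B) inf_le_right (fun b hb => hA2 b hb.1) with h1 | h1
        · exact ⟨h1 hx, hfix ▸ hax ▸ HL.E_conj haτ (hτV x (h1 hx))⟩
        · exact ⟨hfix ▸ hax ▸ HL.V_conj (HL.T_le haτ) (hτE x (h1 hx)), h1 hx⟩
      exact (card_le_of_le hBZ).trans_eq HL.card_inf
    classical
    have hinj : Nat.card A ≤ Nat.card (B × Bool) := by
      have haT' : ∀ x : A, (x : G) ∉ T → (x : G) * a ∈ B := fun x hx => ⟨A.mul_mem x.2 ha, by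
        have hxτ : (x : G) * τ ∈ T := (hAP x.2).resolve_left hx
        rw [show (x : G) * a = ((x : G) * τ) * (τ⁻¹ * (a * τ) * τ⁻¹) by group, hτi]
        exact T.mul_mem hxτ (hτc _ haτ)⟩
      refine Nat.card_le_card_of_injective
        (fun x : A => if hx : (x : G) ∈ T then ((⟨x, x.2, hx⟩ : B), true)
          else ((⟨x * a, haT' x hx⟩ : B), false)) fun x y e => ?_
      by_cases hx : (x : G) ∈ T <;> by_cases hy : (y : G) ∈ T <;> simp [hx, hy] at e <;>
        first | exact Subtype.ext e | exact e | exact Subtype.ext (congrArg (fun b : B => (b : G)) e)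
    rw [Nat.card_prod, Nat.card_eq_fintype_card (α := Bool), Fintype.card_bool, hA] at hinj
    omega
  have hPeq : ∀ g, Commute g z₀ → g ∈ P := by
    intro g hg
    by_contra hgP
    have hlt : P < centralizer ({z₀} : Set G) :=
      lt_of_le_of_ne (fun x hx => mem_centralizer_self_iff.2 (hPC x hx).symm) fun e =>
        hgP (e ▸ mem_centralizer_self_iff.2 hg.symm)
    obtain ⟨p, hp, hpP, hpN⟩ := exists_normalizing
      (h z₀ (CfsgLib.Invol.orderOf_eq_two (HL.V_elem z₀ hz₀.1) hz₀1)) hlt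
    have hpz : Commute p z₀ := (mem_centralizer_self_iff.1 hp).symm
    rcases hA16 (V.map (MulAut.conj p).toMonoidHom)
        (by rintro _ ⟨v, hv, rfl⟩; exact (mem_normalizer_iff.1 hpN v).1 (hTP v (HL.V_le hv)))
        (by rintro _ ⟨v, hv, rfl⟩; rw [← map_mul, HL.V_elem v hv, map_one])
        (by rw [card_map_of_injective (MulAut.conj p).injective, HL.card_V]; rfl) with h1 | h1
    · exact hpP (hTP p (HL.cent_in_M h hz₀ hz₀1 (S.fixesV fun v hv => h1 ⟨v, hv, rfl⟩) hpz))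
    · have hm : τ * p ∈ M := S.fixesV fun v hv => by rw [cj_mul]; exact hτE _ (h1 ⟨v, hv, rfl⟩)
      have hc' : Commute (τ * p) z₀ := (cj_fix_iff.1 hτz₀).mul_left hpz
      refine hpP ?_
      rw [show p = τ * (τ * p) by rw [← mul_assoc, hττ, one_mul]]
      exact P.mul_mem hτP (hTP _ (HL.cent_in_M h hz₀ hz₀1 hm hc'))
  -- `τ` is conjugate to `z₀`
  obtain ⟨g, hg⟩ : ∃ g, cj g z₀ = τ := by
    have hodd : Odd (orderOf (u * τ)) := by
      by_contra hev
      rw [Nat.not_odd_iff_even] at hev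
      have hcu : Commute (u * τ) c := by
        refine cj_fix_iff.1 ?_
        rw [cj_mul, hτinv c hc, show cj u c⁻¹ = c from (HL.u_inv c⁻¹ (D.inv_mem hc)).trans (inv_inv c)]
      exact hc1 (h.eq_one_of_commute (CfsgLib.Invol.orderOf_pow_half (isOfFinOrder_of_finite _) hev)
        (hcu.pow_left _) (HL.D_odd.of_dvd_nat (orderOf_dvd_natCard D hc)))
    obtain ⟨a, -, ha⟩ := CfsgLib.Invol.exists_conj_of_odd HL.u_ord hτ2 hodd
    obtain ⟨m, -, x, -, e⟩ := S.invol_M h hz₀ hz₀1 HL.u_mem HL.u_ord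
    exact ⟨a * (m * x), by rw [cj_mul, e]; exact ha⟩
  set y := cj g⁻¹ z₀ with hydef
  have hyz : cj g y = z₀ := by rw [hydef, ← cj_mul, mul_inv_cancel, cj_one]
  have hgi : cj g⁻¹ τ = z₀ := by rw [← hg, cj_inv_left]
  have hcomm : ∀ {a b : G}, Commute a b → Commute (cj g a) (cj g b) := fun hab =>
    hab.map (MulAut.conj g).toMonoidHom
  have hcomm' : ∀ {a b : G}, Commute a b → Commute (cj g⁻¹ a) (cj g⁻¹ b) := fun hab =>
    hab.map (MulAut.conj g⁻¹).toMonoidHom
  have hyP : y ∈ P := hPeq y (by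
    have := hcomm' (cj_fix_iff.1 hτz₀).symm
    rwa [hgi] at this)
  have hyT : y ∉ T := by
    intro hy
    have hy2 : y * y = 1 := by rw [hydef, ← cj_prod, HL.V_elem z₀ hz₀.1]; simp [cj]
    have key : ∀ U : Subgroup G, (∀ a ∈ U, a * a = 1) → U ≤ T → Nat.card U = 16 → z₀ ∈ U → y ∈ U → False := by
      intro U hU hUT hUc hzU hyU
      have hle : U.map (MulAut.conj g).toMonoidHom ≤ P := by
        rintro _ ⟨v, hv, rfl⟩
        refine hPeq _ ?_
        have := hcomm (comm_of_sq hU hv hyU)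
        rwa [hyz] at this
      have hmem : τ ∈ U.map (MulAut.conj g).toMonoidHom := ⟨z₀, hzU, hg⟩
      rcases hA16 _ hle (by rintro _ ⟨v, hv, rfl⟩; rw [← map_mul, hU v hv, map_one])
          (by rw [card_map_of_injective (MulAut.conj g).injective, hUc]) with h1 | h1
      · exact hτM (HL.V_le_M (h1 hmem))
      · exact hτM (HL.E_le_M (h1 hmem))
    rcases HL.invols y hy hy2 with hyV | hyE
    · exact key V HL.V_elem HL.V_le (by rw [HL.card_V]; rfl) hz₀.1 hyV
    · exact key E HL.E_elem HL.E_le (by rw [HL.card_E]; rfl) hz₀.2 hyE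
  have hfix : ∀ t ∈ T, cj τ t = t → t = 1 ∨ t = z₀ := by
    intro t ht htτ
    have hsq := HL.sq_mem ht
    have htt : t * t = 1 := by
      refine (huniq _ hsq (by rw [cj_prod, htτ])).resolve_right fun e => hyT ?_
      set t' := cj g⁻¹ t with ht'def
      have ht'P : t' ∈ P := hPeq t' (by
        have := hcomm' (cj_fix_iff.1 htτ).symm
        rwa [hgi] at this)
      have hty : Commute t' y := hcomm' (HL.Z_central hz₀ ht)
      have hy2 : y * y = 1 := by rw [hydef, ← cj_prod, HL.V_elem z₀ hz₀.1]; simp [cj]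
      have h1 : t' * t' ∈ T := by
        rcases ht'P with h2 | h2
        · exact T.mul_mem h2 h2
        · have hyτ : y * τ ∈ T := hyP.resolve_left hyT
          have h3 : t' * y ∈ T := by
            rw [show t' * y = (t' * τ) * (τ⁻¹ * (y * τ) * τ⁻¹) by group, hτi]
            exact T.mul_mem h2 (hτc _ hyτ)
          have h4 := T.mul_mem h3 h3
          rwa [show t' * y * (t' * y) = t' * (y * t') * y by group, hty.symm.eq,
            show t' * (t' * y) * y = t' * t' * (y * y) by group, hy2, mul_one] at h4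
      rw [hydef, ← e, cj_prod]
      exact h1
    rcases HL.invols t ht htt with h1 | h1
    · exact huniq t ⟨h1, htτ ▸ hτV t h1⟩ htτ
    · exact huniq t ⟨htτ ▸ hτE t h1, h1⟩ htτ
  -- counting the values of `t ↦ [t, τ]`
  have himg : ∀ t ∈ T, ∃ w ∈ V ⊓ E, ∃ z ∈ V ⊓ E, t * (cj τ t)⁻¹ = z * (cj u w * cj τ (cj u w)) := by
    intro t ht
    obtain ⟨v, hv, e, he, rfl⟩ := HL.decomp_T t ht
    set e' := cj τ e with he'def
    have he' : e' ∈ V := hτE e he
    obtain ⟨z₁, hz₁, w, hw, hvw⟩ := HL.V_decomp h (V.mul_mem hv he')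
    have hc' : cj e e' * e' ∈ V ⊓ E := by
      have := HL.comm_mem he he'
      rwa [inv_eq_of_mul_eq_one_right (HL.V_elem e' he')] at this
    refine ⟨w, hw, (cj e e' * e') * (z₁ * cj τ z₁), (V ⊓ E).mul_mem hc' ((V ⊓ E).mul_mem hz₁ (hτZ z₁ hz₁)), ?_⟩
    have hinvE : e'⁻¹ = e' := inv_eq_of_mul_eq_one_right (HL.V_elem e' he')
    have hinvv : (cj τ v)⁻¹ = cj τ v := inv_eq_of_mul_eq_one_right (HL.E_elem _ (hτV v hv))
    have h1 : e * e' = (cj e e' * e') * (e' * e) := by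
      rw [show (cj e e' * e') * (e' * e) = cj e e' * (e' * e') * e by group, HL.V_elem e' he', mul_one, cj]
      group
    have h2 : v * e' = z₁ * cj u w := hvw
    have h3 : e * cj τ v = cj τ (z₁ * cj u w) := by
      rw [← h2, (comm_of_sq HL.V_elem hv he').eq, cj_prod, he'def, hττc]
    calc v * e * (cj τ (v * e))⁻¹ = v * (e * e') * cj τ v := by
          rw [cj_prod, mul_inv_rev, ← he'def, hinvE, hinvv]; group
      _ = (cj e e' * e') * (v * e') * (e * cj τ v) := by
          rw [h1, ← mul_assoc v, (HL.Z_central hc' (HL.V_le hv)).eq]; group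
      _ = (cj e e' * e') * ((z₁ * cj u w) * (cj τ z₁ * cj τ (cj u w))) := by
          rw [h2, h3, cj_prod, mul_assoc]
      _ = _ := by
          rw [show (z₁ * cj u w) * (cj τ z₁ * cj τ (cj u w)) = z₁ * (cj u w * cj τ z₁) * cj τ (cj u w) by group,
            (comm_of_sq HL.V_elem (HL.V_conj HL.u_mem hw.1) (hτZ z₁ hz₁).1).eq]
          group
  classical
  choose w hw z hz hwz using himg
  let p : T → ↥(V ⊓ E) × ↥(V ⊓ E) := fun t => (⟨w t t.2, hw t t.2⟩, ⟨z t t.2, hz t t.2⟩)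
  let rep : ↥(V ⊓ E) × ↥(V ⊓ E) → T := Function.invFun p
  have hp : ∀ t t' : T, p t = p t' → (t : G) = t' ∨ (t' : G) = t * z₀ := by
    intro t t' e
    have e1 : (t : G) * (cj τ t)⁻¹ = (t' : G) * (cj τ t')⁻¹ := by
      rw [hwz t t.2, hwz t' t'.2]
      have ew : w t t.2 = w t' t'.2 := congrArg (fun x => (x.1 : G)) e
      have ez : z t t.2 = z t' t'.2 := congrArg (fun x => (x.2 : G)) e
      rw [ew, ez]
    have e2 : cj τ ((t : G)⁻¹ * t') = (t : G)⁻¹ * t' := by
      rw [cj_prod, show cj τ (t : G)⁻¹ = (cj τ t)⁻¹ by simp only [cj]; group]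
      calc (cj τ (t : G))⁻¹ * cj τ t' = (t : G)⁻¹ * ((t : G) * (cj τ t)⁻¹) * cj τ t' := by group
        _ = (t : G)⁻¹ * t' := by rw [e1]; group
    rcases hfix _ (T.mul_mem (T.inv_mem t.2) t'.2) e2 with h1 | h1
    · exact Or.inl (inv_mul_eq_one.1 h1)
    · exact Or.inr (by rw [← h1, mul_inv_cancel_left])
  have hinj : Function.Injective fun t : T => (p t, decide (t = rep (p t))) := by
    intro t t' e
    simp only [Prod.mk.injEq, decide_eq_decide] at e
    obtain ⟨e1, e2⟩ := e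
    have hrep : p (rep (p t)) = p t := Function.invFun_eq ⟨t, rfl⟩
    by_cases ht : t = rep (p t)
    · rw [ht, e2.1 ht, e1]
    · have ht' : ¬ t' = rep (p t) := fun hh => ht (e2.2 (by rwa [← e1]))
      refine Subtype.ext ?_
      rcases hp _ t hrep with h1 | h1
      · exact absurd (Subtype.ext h1.symm) ht
      rcases hp _ t' (hrep.trans e1) with h2 | h2
      · exact absurd (Subtype.ext h2.symm) ht'
      rw [h1, h2]
  have := Nat.card_le_card_of_injective _ hinj
  rw [Nat.card_prod, Nat.card_prod, Nat.card_eq_fintype_card (α := Bool), Fintype.card_bool, HL.card_inf,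
    HL.card_T] at this
  omega

/-- `T` is a Sylow 2-subgroup. -/
theorem sylow (S : Second 4 M X V E T D u u') (h : IsCIT G) {P : Subgroup G} (hP : IsPGroup 2 P) (hle : T ≤ P) :
    P = T := by
  by_contra hne
  obtain ⟨p, hp, hpT, hpN⟩ := exists_normalizing hP (lt_of_le_of_ne hle (Ne.symm hne))
  obtain ⟨k, hk⟩ := hP ⟨p, hp⟩
  exact hpT (S.left.mem_T_of_two (S.normalizer_le h hpN) hpN (congrArg Subtype.val hk))

/-- The centraliser of a nontrivial element of `V ⊓ E` is `T`. -/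
theorem cent_Z (S : Second 4 M X V E T D u u') (h : IsCIT G) {z g : G} (hz : z ∈ V ⊓ E) (hz1 : z ≠ 1)
    (hg : Commute g z) : g ∈ T := by
  have hle : T ≤ centralizer ({z} : Set G) := fun t ht =>
    mem_centralizer_self_iff.2 (S.left.Z_central hz ht).symm
  rw [← S.sylow h (h z (CfsgLib.Invol.orderOf_eq_two (S.left.V_elem z hz.1) hz1)) hle]
  exact mem_centralizer_self_iff.2 hg.symm

/-- An involution of a subgroup containing `T` is conjugate in it into `T`. -/
theorem conj_into_T (S : Second 4 M X V E T D u u') (h : IsCIT G) {K : Subgroup G} (hK : T ≤ K) {i : G}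
    (hi : i ∈ K) (hi2 : orderOf i = 2) : ∃ k ∈ K, cj k i ∈ T := by
  haveI : Fact (Nat.Prime 2) := ⟨Nat.prime_two⟩
  let P : Sylow 2 K :=
    { toSubgroup := T.subgroupOf K
      isPGroup' := S.left.T_two.of_equiv (subgroupOfEquivOfLe hK).symm
      is_maximal' := fun {Q} hQ hle => by
        have e := S.sylow h (hQ.map K.subtype) fun t ht => ⟨⟨t, hK ht⟩, hle (mem_subgroupOf.2 ht), rfl⟩
        refine le_antisymm (fun x hx => mem_subgroupOf.2 (e ▸ mem_map_of_mem _ hx)) hle }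
  have hi' : IsPGroup 2 (zpowers (⟨i, hi⟩ : K)) :=
    IsPGroup.of_card (n := 1) (by rw [Nat.card_zpowers, orderOf_mk, hi2, pow_one])
  obtain ⟨R, hR⟩ := hi'.exists_le_sylow
  obtain ⟨k, hk⟩ := MulAction.exists_smul_eq K R P
  refine ⟨k, k.2, ?_⟩
  have h2 : k * ⟨i, hi⟩ * k⁻¹ ∈ ((k • R : Sylow 2 K) : Subgroup K) := by
    rw [Sylow.coe_subgroup_smul]
    exact smul_mem_pointwise_smul _ (MulAut.conj k) _ (hR (mem_zpowers _))
  rw [hk] at h2
  exact mem_subgroupOf.1 h2

/-- All involutions of a subgroup containing `M` and `X` are conjugate in it. -/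
theorem invol_all (S : Second 4 M X V E T D u u') (h : IsCIT G) {K : Subgroup G} (hM : M ≤ K) (hX : X ≤ K)
    {z i : G} (hz : z ∈ V ⊓ E) (hz1 : z ≠ 1) (hi : i ∈ K) (hi2 : orderOf i = 2) : ∃ k ∈ K, cj k z = i := by
  obtain ⟨k, hk, hkT⟩ := S.conj_into_T h (S.left.T_le.trans hM) hi hi2
  obtain ⟨m, hm, x, hx, e⟩ := S.invol_M h hz hz1 (S.left.T_le hkT)
    (by rw [cj, CfsgLib.Invol.orderOf_conj_eq, hi2])
  exact ⟨k⁻¹ * (m * x), mul_mem (inv_mem hk) (mul_mem (hM hm) (hX hx)), by rw [cj_mul, e, cj_inv_left]⟩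

/-- `z ^ g ∈ M` exactly for `g ∈ X M`. -/
theorem fix_iff (S : Second 4 M X V E T D u u') (h : IsCIT G) {z g : G} (hz : z ∈ V ⊓ E) (hz1 : z ≠ 1) :
    cj g⁻¹ z ∈ M ↔ ∃ x ∈ X, ∃ m ∈ M, g = x * m := by
  constructor
  · intro hg
    obtain ⟨m, hm, x, hx, e⟩ := S.invol_M h hz hz1 hg (by
      rw [cj, CfsgLib.Invol.orderOf_conj_eq]
      exact CfsgLib.Invol.orderOf_eq_two (S.left.V_elem z hz.1) hz1)
    have ht : g * (m * x) ∈ T := S.cent_Z h hz hz1 (cj_fix_iff.1 (by
      rw [cj_mul, e, ← cj_mul, mul_inv_cancel, cj_one]))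
    refine ⟨g * (m * x) * x⁻¹, mul_mem (S.right.T_le ht) (inv_mem hx), m⁻¹, inv_mem hm, by group⟩
  · rintro ⟨x, hx, m, hm, rfl⟩
    rw [mul_inv_rev, cj_mul]
    refine mul_mem (mul_mem (inv_mem hm) ?_) (inv_mem (inv_mem hm))
    exact S.left.E_le_M (S.right.V_conj (inv_mem hx) hz.2)

end Second

end CfsgLib.CIT
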